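import Mathlib.Algebra.Ring.Action.Basic
import Mathlib.Algebra.Polynomial.Eval.Degree
import Mathlib.Algebra.Polynomial.Roots
import Mathlib.RingTheory.Ideal.Quotient.Operations
import Mathlib.RingTheory.Polynomial.Basic
import Mathlib.RingTheory.Finiteness.Defs
import Mathlib.RingTheory.Ideal.Pointwise
import Mathlib.GroupTheory.GroupAction.Defs

/-!
Elements acting trivially on invariants modulo a prime, and trace generation for free actions.
-/

namespace Groth.Agent.WildQuotGal

open Polynomial

variable {A : Type*} [CommRing A] {H : Type*} [Group H] [MulSemiringAction H A]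

open Classical in
/-- trace generation -/
theorem galois_generate (K : Subgroup H) [Fintype K] (C : Subring A)
    (htr : ∀ a : A, ∑ k : K, (k : H) • a ∈ C)
    (s : K → A)
    (hs : ∀ σ : K, σ ≠ 1 → ∃ (m : ℕ) (c b : Fin m → A), (∀ l, c l ∈ C) ∧ (∀ l, b l ∈ C) ∧
      (∀ l, (σ : H) • b l ∈ C) ∧ s σ = ∑ l, c l * (b l - (σ : H) • b l))
    (a : A) : (∏ σ ∈ (Finset.univ : Finset K).erase 1, s σ) * a ∈ C := by
  classical
  let P : (K → A) → Prop := fun f => ∀ a, ∑ k : K, f k * (k : H) • a ∈ C
  let Q : (K → A) → Prop := fun g => ∀ f, P f → P (g * f)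
  have hQc : ∀ x ∈ C, Q (fun _ => x) := fun x hx f hf a => by
    simp only [Pi.mul_apply, mul_assoc, ← Finset.mul_sum]
    exact C.mul_mem hx (hf a)
  have hQe : ∀ y : A, Q (fun k => (k : H) • y) := fun y f hf a => by
    convert hf (y * a) using 1
    refine Finset.sum_congr rfl fun k _ => ?_
    simp only [Pi.mul_apply, smul_mul']
    ring
  have hQadd : ∀ g g', Q g → Q g' → Q (g + g') := fun g g' hg hg' f hf a => by
    simp only [add_mul, Pi.add_apply, Pi.mul_apply, Finset.sum_add_distrib]
    exact C.add_mem (hg f hf a) (hg' f hf a)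
  have hQmul : ∀ g g', Q g → Q g' → Q (g * g') := fun g g' hg hg' f hf => by
    rw [mul_assoc]; exact hg _ (hg' f hf)
  have hQsum : ∀ {m : ℕ} (F : Finset (Fin m)) (g : Fin m → K → A), (∀ l ∈ F, Q (g l)) → Q (∑ l ∈ F, g l) := by
    intro m F g hg
    induction F using Finset.induction_on with
    | empty => rw [Finset.sum_empty]; exact hQc 0 C.zero_mem
    | insert l F hl ih =>
      rw [Finset.sum_insert hl]
      exact hQadd _ _ (hg l (by simp)) (ih fun m hm => hg m (by simp [hm]))
  have hP1 : P 1 := fun a => by simpa using htr a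
  have hprod : ∀ F : Finset K, 1 ∉ F → ∃ g : K → A, Q g ∧ g 1 = ∏ σ ∈ F, s σ ∧ ∀ σ ∈ F, g σ = 0 := by
    intro F
    induction F using Finset.induction_on with
    | empty => exact fun _ => ⟨1, fun f hf => by rwa [one_mul], by simp, by simp⟩
    | insert σ F hσ ih =>
      intro h1
      obtain ⟨g, hg, hg1, hg0⟩ := ih fun h => h1 (by simp [h])
      have hσ1 : σ ≠ 1 := fun h => h1 (by simp [h])
      obtain ⟨m, c, b, hc, hb, hσb, hsum⟩ := hs σ hσ1
      let g' : K → A := ∑ l, ((fun (_ : K) => c l) * ((fun k : K => (k : H) • b l) + fun (_ : K) => -((σ : H) • b l)))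
      have hg' : Q g' := hQsum _ _ fun l _ =>
        hQmul _ _ (hQc _ (hc l)) (hQadd _ _ (hQe _) (hQc _ (C.neg_mem (hσb l))))
      refine ⟨g' * g, hQmul _ _ hg' hg, ?_, ?_⟩
      · rw [Pi.mul_apply, hg1, Finset.prod_insert hσ, hsum]
        simp [g', sub_eq_add_neg]
      · intro τ hτ
        rw [Pi.mul_apply]
        rcases Finset.mem_insert.mp hτ with rfl | h
        · simp [g']
        · rw [hg0 τ h, mul_zero]
  obtain ⟨g, hg, hg1, hg0⟩ := hprod (Finset.univ.erase 1) (Finset.notMem_erase _ _)
  have hP := hg 1 hP1 a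
  rw [mul_one, Finset.sum_eq_single (1 : K)] at hP
  · rwa [hg1, Subgroup.coe_one, one_smul] at hP
  · intro k _ hk
    rw [hg0 k (by simp [hk]), zero_mul]
  · simp

theorem trace_fixed (K : Subgroup H) [Fintype K] (a : A) (k : K) :
    (k : H) • (∑ t : K, (t : H) • a) = ∑ t : K, (t : H) • a := by
  rw [Finset.smul_sum]
  simp only [← mul_smul, ← Subgroup.coe_mul]
  exact Equiv.sum_comp (Equiv.mulLeft k) fun t : K => (t : H) • a

/-- an element trivial on the `K`-invariants modulo a prime agrees with some element of `K` modulo it -/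
theorem exists_mul_mem_inertia {R : Type*} [CommRing R] [Algebra R A] [Module.Finite R A] [SMulCommClass H R A]
    (K : Subgroup H) [Finite K] (Q : Ideal A) [Q.IsPrime] (σ : H)
    (hσ : ∀ b : A, (∀ k ∈ K, k • b = b) → σ • b - b ∈ Q) :
    ∃ k ∈ K, ∀ x : A, σ • x - k • x ∈ Q := by
  classical
  haveI := Fintype.ofFinite K
  obtain ⟨m, a, ha⟩ := Module.Finite.exists_fin (R := R) (M := A)
  let M : H → A[X] →+* A[X] := fun h => Polynomial.mapRingHom (MulSemiringAction.toRingHom H A h)
  have hM : ∀ h g F, M h (M g F) = M (h * g) F := fun h g F => by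
    ext l; simp [M, mul_smul]
  let F : A[X] := ∑ l : Fin m, C (a l) * X ^ (l : ℕ)
  let f : A[X][X] := ∏ k : K, (X - C (M (k : H) F))
  let π : A[X] →+* (A ⧸ Q)[X] := Polynomial.mapRingHom (Ideal.Quotient.mk Q)
  have hfix : ∀ k : K, f.map (M (k : H)) = f := by
    intro k
    simp only [f, Polynomial.map_prod, Polynomial.map_sub, Polynomial.map_X, Polynomial.map_C, hM, ← Subgroup.coe_mul]
    exact Equiv.prod_comp (Equiv.mulLeft k) fun t : K => X - C (M (t : H) F)
  have heval : f.eval F = 0 := by
    rw [Polynomial.eval_prod]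
    refine Finset.prod_eq_zero (Finset.mem_univ (1 : K)) ?_
    have h1 : M ((1 : K) : H) F = F := by ext l; simp [M]
    rw [h1]; simp
  have hcoef : (f.map (M σ)).map π = f.map π := by
    ext n l
    simp only [Polynomial.coeff_map, π, M, Polynomial.coe_mapRingHom, MulSemiringAction.toRingHom_apply]
    rw [Ideal.Quotient.mk_eq_mk_iff_sub_mem]
    refine hσ _ fun k hk => ?_
    have h := congrArg (fun p : A[X][X] => (p.coeff n).coeff l) (hfix ⟨k, hk⟩)
    simpa [M] using h
  have h0 : ((f.map (M σ)).map π).eval (π (M σ F)) = 0 := by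
    rw [Polynomial.eval_map, Polynomial.eval₂_at_apply, Polynomial.eval_map, Polynomial.eval₂_at_apply, heval,
      map_zero, map_zero]
  rw [hcoef] at h0
  simp only [f, Polynomial.map_prod, Polynomial.map_sub, Polynomial.map_X, Polynomial.map_C, Polynomial.eval_prod,
    Polynomial.eval_sub, Polynomial.eval_X, Polynomial.eval_C] at h0
  obtain ⟨k, -, hk⟩ := Finset.prod_eq_zero_iff.mp h0
  refine ⟨k, k.2, fun x => ?_⟩
  have hl : ∀ l : Fin m, σ • a l - (k : H) • a l ∈ Q := fun l => by
    have h := congrArg (fun p : (A ⧸ Q)[X] => p.coeff (l : ℕ)) hk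
    simp only [π, M, Polynomial.coe_mapRingHom, Polynomial.coeff_sub, Polynomial.coeff_map, Polynomial.coeff_zero,
      MulSemiringAction.toRingHom_apply] at h
    rw [sub_eq_zero, Ideal.Quotient.mk_eq_mk_iff_sub_mem] at h
    have hF : F.coeff (l : ℕ) = a l := by
      simp [F, Polynomial.finsetSum_coeff, Polynomial.coeff_C_mul, Polynomial.coeff_X_pow, Fin.val_inj]
    rwa [hF] at h
  have hx : x ∈ Submodule.span R (Set.range a) := ha ▸ Submodule.mem_top
  induction hx using Submodule.span_induction with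
  | mem y hy => obtain ⟨l, rfl⟩ := hy; exact hl l
  | zero => simp
  | add y z _ _ hy hz => rw [smul_add, smul_add, add_sub_add_comm]; exact Q.add_mem hy hz
  | smul r y _ hy =>
    rw [smul_comm σ r y, smul_comm (k : H) r y, ← smul_sub, Algebra.smul_def]
    exact Q.mul_mem_left _ hy

end Groth.Agent.WildQuotGal
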