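import Groth.Agent.WildQuotGal.PurityFree
import Groth.Agent.CAlgCohen.Structure
import Groth.Agent.CplFin.Basic
import Groth.Agent.MvPSLib.Eval
import Groth.Agent.S0565
import Mathlib.RingTheory.Invariant.Basic

/-!
Invariants of a finite group acting on a complete local ring.
-/

universe u v w

namespace Groth.Agent.WildQuotGal

open IsLocalRing

theorem algHom_ext_complete {A B : Type*} [CommRing A] [CommRing B] [Algebra A B] (J : Ideal B)
    [IsHausdorff J B] {n : ℕ} {ψ₁ ψ₂ : MvPowerSeries (Fin n) A →ₐ[A] B}
    (h : ∀ i, ψ₁ (MvPowerSeries.X i) = ψ₂ (MvPowerSeries.X i)) (hJ : ∀ i, ψ₁ (MvPowerSeries.X i) ∈ J) :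
    ψ₁ = ψ₂ := by
  have hv : ∀ (ψ : MvPowerSeries (Fin n) A →ₐ[A] B), (∀ i, ψ (MvPowerSeries.X i) ∈ J) → ∀ N,
      ∀ x ∈ FSAdic.augIdeal A n ^ N, (Ideal.Quotient.mkₐ A (J ^ N)).comp ψ x = 0 := by
    intro ψ hψ N x hx
    have h1 : (FSAdic.augIdeal A n).map ψ ≤ J := by
      rw [MvPSLib.map_augIdeal, Ideal.span_le]
      rintro _ ⟨i, rfl⟩
      exact hψ i
    rw [AlgHom.comp_apply, Ideal.Quotient.mkₐ_eq_mk, Ideal.Quotient.eq_zero_iff_mem]
    exact Ideal.pow_right_mono h1 N (Ideal.map_pow ψ (FSAdic.augIdeal A n) N ▸ Ideal.mem_map_of_mem ψ hx)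
  ext x
  refine sub_eq_zero.1 (IsHausdorff.haus' (I := J) _ fun N => ?_)
  rw [SModEq.zero, smul_eq_mul, Ideal.mul_top, ← Ideal.Quotient.eq_zero_iff_mem, map_sub, sub_eq_zero]
  exact DFunLike.congr_fun (FSAdic.algHom_ext_of_vanish N (hv ψ₁ hJ N) (hv ψ₂ (fun i => h i ▸ hJ i) N)
    fun i => by simp [h i]) x

variable {A : Type u} [CommRing A] [IsLocalRing A] {G : Type w} [Group G] [MulSemiringAction G A]

theorem smul_sub_mem {k : Type v} [CommRing k] [Algebra k A]
    (hk : Function.Surjective (residue A ∘ algebraMap k A))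
    (hGk : ∀ (σ : G) (c : k), σ • algebraMap k A c = algebraMap k A c) (g : G) (x : A) :
    g • x - x ∈ maximalIdeal A := by
  obtain ⟨c, hc⟩ := hk (residue A x)
  have h : x - algebraMap k A c ∈ maximalIdeal A := by
    rw [← residue_eq_zero_iff, map_sub, sub_eq_zero]; exact hc.symm
  have h' : g • x - algebraMap k A c ∈ maximalIdeal A := by
    rw [mem_maximalIdeal, mem_nonunits_iff] at h ⊢
    intro hu
    refine h ?_
    have := hu.map (MulSemiringAction.toRingHom G A g⁻¹)
    rwa [MulSemiringAction.toRingHom_apply, smul_sub, inv_smul_smul, hGk] at this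
  have := (maximalIdeal A).sub_mem h' h
  rwa [sub_sub_sub_cancel_right] at this

theorem invariants_finite [IsNoetherianRing A] [IsAdicComplete (maximalIdeal A) A] [Finite G]
    (k : Type v) [Field k] [Algebra k A] (hk : Function.Surjective (residue A ∘ algebraMap k A))
    (hGk : ∀ (σ : G) (c : k), σ • algebraMap k A c = algebraMap k A c) :
    IsNoetherianRing (FixedPoints.subring A G) ∧ Module.Finite (FixedPoints.subring A G) A ∧
      ∃ _ : IsLocalRing (FixedPoints.subring A G),
        Ideal.comap (FixedPoints.subring A G).subtype (maximalIdeal A) = maximalIdeal (FixedPoints.subring A G) ∧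
        IsAdicComplete (maximalIdeal (FixedPoints.subring A G)) (FixedPoints.subring A G) := by
  classical
  haveI : Fintype G := Fintype.ofFinite G
  set B := FixedPoints.subring A G with hB
  haveI hloc : IsLocalRing B := by
    haveI : IsLocalHom B.subtype := ⟨fun b hb => by
      obtain ⟨c, hc⟩ := hb.exists_right_inv
      change (b : A) * c = 1 at hc
      refine IsUnit.of_mul_eq_one (⟨c, fun g => ?_⟩ : B) (Subtype.ext hc)
      have hb' : IsUnit (b : A) := hb
      refine hb'.mul_left_cancel ?_
      calc (b : A) * g • c = g • ((b : A) * c) := by rw [smul_mul', b.2 g]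
        _ = (b : A) * c := by rw [hc, smul_one]⟩
    exact B.subtype.domain_isLocalRing
  have hmax : Ideal.comap B.subtype (maximalIdeal A) = maximalIdeal B := by
    refine IsLocalRing.eq_maximalIdeal ?_
    haveI : (Ideal.comap B.subtype (maximalIdeal A)).IsPrime := Ideal.comap_isPrime _ _
    have h : Algebra.IsInvariant B A G := ⟨fun a ha => ⟨⟨a, ha⟩, rfl⟩⟩
    haveI : SMulCommClass G B A := ⟨fun g b x => by
      show g • ((b : A) * x) = (b : A) * g • x
      rw [smul_mul', b.2 g]⟩
    haveI := Algebra.IsInvariant.isIntegral B A G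
    exact Ideal.isMaximal_comap_of_isIntegral_of_isMaximal (R := B) (maximalIdeal A)
  -- a coefficient field in the universe of `A`
  let k' := ResidueField A
  let e : k ≃+* k' := RingEquiv.ofBijective ((residue A).comp (algebraMap k A))
    ⟨((residue A).comp (algebraMap k A)).injective, hk⟩
  letI : Algebra k' A := ((algebraMap k A).comp (e.symm : k' →+* k)).toAlgebra
  -- generators
  obtain ⟨S, hS⟩ := (maximalIdeal A).fg_of_isNoetherianRing
  let P : S → Polynomial A := fun s => ∏ g : G, (Polynomial.X - Polynomial.C (g • (s : A)))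
  have hPfix : ∀ (s : S) (g : G), (P s).map (MulSemiringAction.toRingHom G A g) = P s := by
    intro s g
    simp only [P, Polynomial.map_prod, Polynomial.map_sub, Polynomial.map_X, Polynomial.map_C,
      MulSemiringAction.toRingHom_apply, ← mul_smul]
    exact Equiv.prod_comp (Equiv.mulLeft g) fun t : G => Polynomial.X - Polynomial.C (t • (s : A))
  have hcm : ∀ (s : S) (j : ℕ), j < Fintype.card G → (P s).coeff j ∈ maximalIdeal A := by
    intro s j hj
    rw [← residue_eq_zero_iff, ← Polynomial.coeff_map]
    have h1 : (P s).map (residue A) = Polynomial.X ^ Fintype.card G := by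
      simp only [P, Polynomial.map_prod, Polynomial.map_sub, Polynomial.map_X, Polynomial.map_C]
      have h0 : ∀ g : G, residue A (g • (s : A)) = 0 := fun g => by
        have hs : (s : A) ∈ maximalIdeal A := hS ▸ Submodule.subset_span s.2
        have := (maximalIdeal A).add_mem (smul_sub_mem hk hGk g (s : A)) hs
        rw [sub_add_cancel] at this
        rwa [residue_eq_zero_iff]
      simp [h0]
    rw [h1, Polynomial.coeff_X_pow, if_neg hj.ne]
  let ι := S × Fin (Fintype.card G)
  let eι : Fin (Fintype.card ι) ≃ ι := (Fintype.equivFin ι).symm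
  let z : Fin (Fintype.card ι) → A := fun i => (P (eι i).1).coeff (eι i).2
  have hz : ∀ i, z i ∈ maximalIdeal A := fun i => hcm _ _ (eι i).2.2
  have hzfix : ∀ (i) (g : G), g • z i = z i := fun i g => by
    have := congrArg (fun q => Polynomial.coeff q ((eι i).2 : ℕ)) (hPfix (eι i).1 g)
    simpa [z] using this
  obtain ⟨ψ, hψ⟩ := MvPSLib.exists_algHom (A := k') (maximalIdeal A) z hz
  have hψfix : ∀ (x : MvPowerSeries (Fin (Fintype.card ι)) k') (g : G), g • ψ x = ψ x := by
    intro x g
    let gA : A →ₐ[k'] A := { MulSemiringAction.toRingHom G A g with commutes' := fun c => hGk g (e.symm c) }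
    exact DFunLike.congr_fun (algHom_ext_complete (maximalIdeal A) (ψ₁ := gA.comp ψ) (ψ₂ := ψ)
      (fun i => by show g • ψ _ = ψ _; rw [hψ, hzfix]) (fun i => by show g • ψ _ ∈ _; rw [hψ, hzfix]; exact hz i)) x
  let R := MvPowerSeries (Fin (Fintype.card ι)) k'
  have hmaxR : maximalIdeal R = FSAdic.augIdeal k' (Fintype.card ι) := MvPSLib.maximalIdeal_eq
  haveI : IsAdicComplete (maximalIdeal R) R := hmaxR ▸ MvPSLib.isAdicComplete
  have hmapR : (maximalIdeal R).map ψ.toRingHom = Ideal.span (Set.range z) := by
    rw [hmaxR]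
    show (FSAdic.augIdeal k' (Fintype.card ι)).map ψ = _
    rw [MvPSLib.map_augIdeal]
    simp only [hψ]
  have hfin : ψ.toRingHom.Finite := by
    refine CAlgCohen.finite_eval _ (fun x => ?_) ?_ ?_
    · obtain ⟨c, rfl⟩ := hk x
      refine ⟨algebraMap k' R (e c), ?_⟩
      show residue A (ψ (algebraMap k' R (e c))) = residue A (algebraMap k A c)
      rw [AlgHom.commutes]
      show residue A (algebraMap k A (e.symm (e c))) = _
      rw [RingEquiv.symm_apply_apply]
    · rw [hmapR, Ideal.span_le]
      rintro _ ⟨i, rfl⟩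
      exact hz i
    · rw [hmapR]
      refine Ideal.exists_pow_le_of_le_radical_of_fg ?_ (maximalIdeal A).fg_of_isNoetherianRing
      conv_lhs => rw [← hS]
      refine Submodule.span_le.2 fun s hs => ⟨Fintype.card G, ?_⟩
      have hev : (P ⟨s, hs⟩).eval s = 0 := by
        rw [Polynomial.eval_prod]
        exact Finset.prod_eq_zero (Finset.mem_univ (1 : G)) (by simp)
      have hdeg : (P ⟨s, hs⟩).natDegree = Fintype.card G := by
        rw [Polynomial.natDegree_prod_of_monic _ _ fun g _ => Polynomial.monic_X_sub_C _]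
        simp
      have hmon : (P ⟨s, hs⟩).Monic := Polynomial.monic_prod_of_monic _ _ fun g _ => Polynomial.monic_X_sub_C _
      rw [hmon.as_sum, Polynomial.eval_add, Polynomial.eval_finsetSum, hdeg, Polynomial.eval_pow,
        Polynomial.eval_X] at hev
      rw [eq_neg_of_add_eq_zero_left hev]
      refine Ideal.neg_mem_iff _ |>.2 (Ideal.sum_mem _ fun j hj => ?_)
      rw [Polynomial.eval_mul, Polynomial.eval_C]
      refine Ideal.mul_mem_right _ _ (Ideal.subset_span ⟨eι.symm (⟨s, hs⟩, ⟨j, Finset.mem_range.1 hj⟩), ?_⟩)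
      simp [z]
  algebraize [ψ.toRingHom]
  haveI : IsNoetherianRing R := inferInstance
  let B' : Subalgebra R A := { B.toSubsemiring with algebraMap_mem' := fun x g => hψfix x g }
  letI : Algebra R B := ((ψ.toRingHom).codRestrict B fun x g => hψfix x g).toAlgebra
  haveI : IsScalarTower R B A := IsScalarTower.of_algebraMap_eq' rfl
  haveI : Module.Finite R B := Module.Finite.of_injective (IsScalarTower.toAlgHom R B A).toLinearMap
    Subtype.val_injective
  haveI : IsNoetherianRing B := IsNoetherianRing.of_finite R B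
  refine ⟨inferInstance, Module.Finite.of_restrictScalars_finite R B A, hloc, hmax, ?_⟩
  exact CplFin.isAdicComplete_local R B

theorem fixedSubring_isGaloisGroup [FaithfulSMul G A] : IsGaloisGroup G (FixedPoints.subring A G) A :=
  ⟨inferInstance, ⟨fun g b x => by
    show g • ((b : A) * x) = (b : A) * g • x
    rw [smul_mul']
    exact congrArg (· * g • x) (b.2 g)⟩, ⟨fun a ha => ⟨⟨a, ha⟩, rfl⟩⟩⟩

omit [IsLocalRing A] in
theorem fixedSubring_isIntegrallyClosed [IsDomain A] [IsIntegrallyClosed A] :
    IsIntegrallyClosed (FixedPoints.subring A G) := by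
  rw [isIntegrallyClosed_iff (FractionRing (FixedPoints.subring A G))]
  intro x hx
  obtain ⟨b, s, hs, rfl⟩ := IsFractionRing.div_surjective (A := FixedPoints.subring A G) x
  have hi : Function.Injective ((algebraMap A (FractionRing A)).comp (FixedPoints.subring A G).subtype) :=
    (IsFractionRing.injective A (FractionRing A)).comp Subtype.val_injective
  let F := IsFractionRing.lift (K := FractionRing (FixedPoints.subring A G)) hi
  have hF : ∀ t : FixedPoints.subring A G, F (algebraMap _ _ t) = algebraMap A (FractionRing A) (t : A) := fun t =>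
    IsFractionRing.lift_algebraMap hi t
  have hFi : IsIntegral A (F (algebraMap _ _ b / algebraMap _ _ s)) := by
    refine IsIntegral.map_of_comp_eq (FixedPoints.subring A G).subtype F ?_ hx
    ext t
    exact (hF t).symm
  obtain ⟨r, hr⟩ := IsIntegrallyClosed.isIntegral_iff.mp hFi
  have hs0 : (s : A) ≠ 0 := fun h => nonZeroDivisors.ne_zero hs (Subtype.ext h)
  rw [map_div₀, hF, hF, eq_div_iff (fun h => hs0 ((map_eq_zero_iff _ (IsFractionRing.injective A _)).mp h)),
    ← map_mul] at hr
  have hrs : r * (s : A) = (b : A) := IsFractionRing.injective A _ hr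
  have hr' : ∀ g : G, g • r = r := fun g => by
    refine mul_right_cancel₀ hs0 ?_
    calc g • r * (s : A) = g • (r * (s : A)) := by rw [smul_mul', s.2 g]
      _ = r * (s : A) := by rw [hrs, b.2 g]
  refine ⟨⟨r, hr'⟩, ?_⟩
  rw [eq_div_iff (fun h => nonZeroDivisors.ne_zero hs ((map_eq_zero_iff _ (IsFractionRing.injective _ _)).mp h)),
    ← map_mul]
  exact congrArg _ (Subtype.ext hrs)

theorem not_flat [IsDomain A] [IsNoetherianRing A] [IsAdicComplete (maximalIdeal A) A] [Finite G]
    (hdim : 2 ≤ ringKrullDim A)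
    (k : Type v) [Field k] [Algebra k A] (hk : Function.Surjective (residue A ∘ algebraMap k A))
    (hGk : ∀ (σ : G) (c : k), σ • algebraMap k A c = algebraMap k A c)
    (hG : Nontrivial G)
    (hram : ∀ P : Ideal A, P.IsPrime → P ≠ maximalIdeal A → P.inertia G = ⊥) :
    ¬ Module.Flat (FixedPoints.subring A G) A := by
  intro hflat
  obtain ⟨-, hfin, hloc, -, -⟩ := invariants_finite (A := A) (G := G) k hk hGk
  haveI := hloc
  haveI := hfin
  haveI : Module.Free (FixedPoints.subring A G) A := Module.free_of_flat_of_isLocalRing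
  have hram' : ∀ P : Ideal A, P.IsPrime → P.height ≤ 1 → P.inertia G = ⊥ := fun P hP h1 => hram P hP fun h => by
    subst h
    have h2 := WithBot.coe_le_coe.2 h1
    rw [maximalIdeal_height_eq_ringKrullDim] at h2
    exact absurd (hdim.trans h2) (by decide)
  haveI : FaithfulSMul G A := by
    have h0 := hram' ⊥ Ideal.isPrime_bot (by rw [Ideal.height_bot]; exact zero_le_one)
    refine ⟨fun {g g'} h => ?_⟩
    have : g * g'⁻¹ ∈ (⊥ : Ideal A).inertia G := fun y => by
      have := h (g'⁻¹ • y)
      rw [smul_inv_smul, ← mul_smul] at this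
      show (g * g'⁻¹) • y - y ∈ (⊥ : Ideal A)
      rw [Ideal.mem_bot, sub_eq_zero]
      exact this
    rw [h0, Subgroup.mem_bot, mul_inv_eq_one] at this
    exact this
  haveI := fixedSubring_isGaloisGroup (A := A) (G := G)
  exact not_subsingleton G (subsingleton_group_of_free (B := FixedPoints.subring A G) G (smul_sub_mem hk hGk) hram')

/-- Regularity of localisations of the invariants at primes without inertia above them. -/
theorem localization_regular [IsDomain A] [IsRegularLocalRing A] [Finite G]
    (hnoeth : IsNoetherianRing (FixedPoints.subring A G)) (P : Ideal (FixedPoints.subring A G)) [P.IsPrime]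
    (hQ : ∀ Q : Ideal A, Q.IsPrime → Q.comap (FixedPoints.subring A G).subtype = P → Q.inertia G = ⊥)
    (hreg : ∀ Q : Ideal A, ∀ [Q.IsPrime], IsRegularLocalRing (Localization.AtPrime Q)) :
    IsRegularLocalRing (Localization.AtPrime P) := by
  classical
  haveI : Fintype G := Fintype.ofFinite G
  let B := FixedPoints.subring A G
  haveI : SMulCommClass G B A := ⟨fun g b x => by
    show g • ((b : A) * x) = (b : A) * g • x
    rw [smul_mul']
    exact congrArg (· * g • x) (b.2 g)⟩
  haveI : Algebra.IsInvariant B A G := ⟨fun a ha => ⟨⟨a, ha⟩, rfl⟩⟩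
  haveI := Algebra.IsInvariant.isIntegral B A G
  -- systems
  let W : Submodule A (G → A) := Submodule.span A (Set.range fun y : A => fun g : G => g • y)
  have hWone : (1 : G → A) ∈ W := Submodule.subset_span ⟨1, funext fun g => smul_one g⟩
  have hWmul : ∀ f f', f ∈ W → f' ∈ W → f * f' ∈ W := fun f f' hf hf' => by
    have := Submodule.mul_mem_mul hf hf'
    rw [Submodule.span_mul_span] at this
    refine Submodule.span_mono ?_ this
    rintro _ ⟨_, ⟨y, rfl⟩, _, ⟨y', rfl⟩, rfl⟩
    exact ⟨y * y', funext fun g => smul_mul' g y y'⟩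
  let δ : A →ₗ[A] (G → A) := LinearMap.single A (fun _ : G => A) 1
  let J : Ideal A := W.comap δ
  obtain ⟨s, hs, hsJ⟩ : ∃ s : B, s ∉ P ∧ (s : A) ∈ J := by
    by_contra h
    push Not at h
    obtain ⟨Q, hJQ, hQp, hQP⟩ := Ideal.exists_ideal_over_prime_of_isIntegral (R := B) (S := A) P J
      (fun b hb => by by_contra hbP; exact h b hbP hb)
    haveI := hQp
    have hin := hQ Q hQp hQP
    have hmv : ∀ σ : G, σ ≠ 1 → ∃ b, b - σ • b ∉ Q := by
      intro σ hσ
      by_contra hne
      push Not at hne
      refine hσ ?_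
      have : σ ∈ Q.inertia G := fun y => by
        have := Q.neg_mem (hne y)
        rwa [neg_sub] at this
      rwa [hin, Subgroup.mem_bot] at this
    choose b hb using hmv
    let F : G → (G → A) := fun σ => if h : σ = 1 then 1 else fun g => g • b σ h - σ • b σ h
    have hF : ∀ σ, F σ ∈ W := by
      intro σ
      simp only [F]
      split_ifs with h
      · exact hWone
      · have h1 : (fun g : G => g • b σ h) ∈ W := Submodule.subset_span ⟨b σ h, rfl⟩
        have h2 := W.sub_mem h1 (W.smul_mem (σ • b σ h) hWone)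
        convert h2 using 1
        funext g
        simp
    have hprod : (∏ σ : G, F σ) ∈ W := Finset.prod_induction F (· ∈ W) hWmul hWone (fun σ _ => hF σ)
    have heq : δ (∏ σ : G, F σ 1) = ∏ σ : G, F σ := by
      funext g
      simp only [δ, LinearMap.coe_single, Finset.prod_apply]
      rcases eq_or_ne g 1 with rfl | hg
      · simp
      · rw [Pi.single_eq_of_ne hg, eq_comm]
        refine Finset.prod_eq_zero (Finset.mem_univ g) ?_
        simp [F, hg]
    have hmem : (∏ σ : G, F σ 1) ∈ Q := hJQ (by show δ _ ∈ W; rw [heq]; exact hprod)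
    obtain ⟨σ, -, hσ⟩ := (Ideal.IsPrime.prod_mem_iff (p := Q)).1 hmem
    simp only [F] at hσ
    split_ifs at hσ with h1
    · exact hQp.ne_top ((Ideal.eq_top_iff_one Q).2 (by simpa using hσ))
    · simp only [one_smul] at hσ
      exact hb σ h1 hσ
  obtain ⟨m, c, yy, hcy⟩ := Submodule.mem_span_set'.1 (show δ (s : A) ∈ W from hsJ)
  choose y hy using fun i => (yy i).2
  -- a retraction up to `s`
  let tr : A → B := fun a => ⟨∑ g : G, g • a, fun h => by
    rw [Finset.smul_sum]
    simp only [← mul_smul]
    exact Equiv.sum_comp (Equiv.mulLeft h) fun g => g • a⟩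
  let trL : A →ₗ[B] B :=
    { toFun := tr
      map_add' := fun a a' => Subtype.ext (by simp [tr, Finset.sum_add_distrib])
      map_smul' := fun b a => Subtype.ext (by
        show ∑ g : G, g • ((b : A) * a) = (b : A) * ∑ g : G, g • a
        rw [Finset.mul_sum]
        exact Finset.sum_congr rfl fun g _ => by rw [smul_mul']; exact congrArg (· * g • a) (b.2 g)) }
  let ι : A →ₗ[B] (Fin m → B) := LinearMap.pi fun i => trL ∘ₗ LinearMap.mulLeft B (y i)
  let π : (Fin m → B) →ₗ[B] A := Fintype.linearCombination B c
  have hπι : π ∘ₗ ι = (s : B) • LinearMap.id := by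
    refine LinearMap.ext fun a => ?_
    show ∑ i, (tr (y i * a) : B) • c i = (s : A) * a
    have h := congrArg (fun f : G → A => ∑ g : G, f g * g • a) hcy.symm
    simp only [Finset.sum_apply, Pi.smul_apply, smul_eq_mul, ← hy, δ, LinearMap.coe_single] at h
    rw [Finset.sum_eq_single (1 : G) (fun g _ hg => by rw [Pi.single_eq_of_ne hg, zero_mul]) (by simp),
      Pi.single_eq_same, one_smul] at h
    rw [h]
    simp only [Finset.sum_mul]
    rw [Finset.sum_comm]
    refine Finset.sum_congr rfl fun i _ => ?_
    show (∑ g : G, g • (y i * a)) * c i = _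
    rw [Finset.sum_mul]
    refine Finset.sum_congr rfl fun g _ => ?_
    rw [smul_mul']; ring
  -- flatness after localisation
  let BP := Localization.AtPrime P
  let M := Algebra.algebraMapSubmonoid A P.primeCompl
  let AP := Localization M
  let f := (IsScalarTower.toAlgHom B A AP).toLinearMap
  haveI : IsLocalizedModule P.primeCompl f :=
    isLocalizedModule_iff_isLocalization.2 inferInstance
  haveI : Module.Flat BP AP := by
    obtain ⟨t, ht⟩ := (IsLocalization.map_units BP (⟨s, hs⟩ : P.primeCompl)).exists_left_inv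
    haveI : Module.Projective BP (TensorProduct B BP A) := by
      refine Module.Projective.of_split (ι.baseChange BP) (t • π.baseChange BP) ?_
      rw [LinearMap.smul_comp, ← LinearMap.baseChange_comp, hπι, LinearMap.baseChange_smul, LinearMap.baseChange_id,
        ← algebraMap_smul BP s, smul_smul, ht, one_smul]
    exact Module.Flat.of_linearEquiv (IsLocalizedModule.isBaseChange P.primeCompl BP f).equiv.symm
  obtain ⟨Q, -, hQp, hQP⟩ := Ideal.exists_ideal_over_prime_of_isIntegral (R := B) (S := A) P ⊥ (by
    rw [← RingHom.ker_eq_comap_bot, (RingHom.injective_iff_ker_eq_bot _).1 Subtype.val_injective]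
    exact bot_le)
  haveI := hQp
  haveI : Q.LiesOver P := ⟨hQP.symm⟩
  let AQ := Localization.AtPrime Q
  haveI : IsRegularLocalRing AQ := hreg Q
  have hle : M ≤ Q.primeCompl := by
    rintro _ ⟨b, hb, rfl⟩ hbQ
    exact hb (hQP ▸ hbQ)
  letI : Algebra AP AQ := IsLocalization.localizationAlgebraOfSubmonoidLe AP AQ M Q.primeCompl hle
  haveI : IsScalarTower A AP AQ := IsLocalization.localization_isScalarTower_of_submonoid_le AP AQ M Q.primeCompl hle
  haveI := IsLocalization.isLocalization_of_submonoid_le AP AQ M Q.primeCompl hle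
  haveI : Module.Flat AP AQ := IsLocalization.flat AQ (Submonoid.map (algebraMap A AP) Q.primeCompl)
  letI : Algebra BP AQ := ((algebraMap AP AQ).comp (algebraMap BP AP)).toAlgebra
  haveI : IsScalarTower BP AP AQ := IsScalarTower.of_algebraMap_eq' rfl
  haveI : Module.Flat BP AQ := Module.Flat.trans BP AP AQ
  haveI : IsNoetherianRing BP := IsLocalization.isNoetherianRing P.primeCompl _ hnoeth
  haveI : IsLocalHom (algebraMap BP AQ) := ⟨fun x hx => by
    obtain ⟨b, c, rfl⟩ := IsLocalization.exists_mk'_eq P.primeCompl x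
    rw [IsLocalization.AtPrime.isUnit_mk'_iff BP P]
    intro hbP
    have h1 : algebraMap BP AQ (algebraMap B BP b) = algebraMap A AQ (b : A) := by
      show algebraMap AP AQ (algebraMap BP AP (algebraMap B BP b)) = _
      rw [← IsScalarTower.algebraMap_apply B BP AP, IsScalarTower.algebraMap_apply B A AP,
        ← IsScalarTower.algebraMap_apply A AP AQ]
      rfl
    have h2 := hx.mul ((IsLocalization.map_units BP c).map (algebraMap BP AQ))
    rw [← map_mul, IsLocalization.mk'_spec, h1, IsLocalization.AtPrime.isUnit_to_map_iff AQ Q] at h2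
    exact h2 (by rw [← hQP] at hbP; exact hbP)⟩
  exact Groth.Agent.S0565.result BP AQ

end Groth.Agent.WildQuotGal
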