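import Groth.Agent.WildQuotGal.ASExt
import Mathlib.FieldTheory.Fixed

/-!
Counting automorphisms over a subring of the invariants.
-/

universe u v w

namespace Groth.Agent.WildQuotGal

theorem card_algEquiv_le_finrank (R A : Type*) [CommRing R] [CommRing A] [IsDomain A] [Algebra R A]
    [Module.Finite R A] [FaithfulSMul R A] :
    Finite (A ≃ₐ[R] A) ∧ Nat.card (A ≃ₐ[R] A) ≤ Module.finrank R A := by
  haveI : IsDomain R := (FaithfulSMul.algebraMap_injective R A).isDomain
  letI : Algebra (FractionRing R) (FractionRing A) := FractionRing.liftAlgebra R (FractionRing A)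
  have hr := IsFractionRing.finrank_eq R (FractionRing R) A (FractionRing A)
  haveI : FiniteDimensional (FractionRing R) (FractionRing A) :=
    Module.finite_of_finrank_pos (by rw [hr]; exact Module.finrank_pos)
  let F := IsFractionRing.fieldEquivOfAlgEquiv (A := R) (B := A) (C := A) (FractionRing R) (FractionRing A) (FractionRing A)
  have hinj : Function.Injective F := fun f g h => AlgEquiv.ext fun a => IsFractionRing.injective A (FractionRing A) (by
    rw [← IsFractionRing.fieldEquivOfAlgEquiv_algebraMap (FractionRing R) (FractionRing A) (FractionRing A) f a,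
      ← IsFractionRing.fieldEquivOfAlgEquiv_algebraMap (FractionRing R) (FractionRing A) (FractionRing A) g a]
    exact DFunLike.congr_fun h _)
  haveI : Finite (A ≃ₐ[R] A) := Finite.of_injective F hinj
  refine ⟨inferInstance, (Nat.card_le_card_of_injective F hinj).trans ?_⟩
  rw [← hr, Nat.card_eq_fintype_card]
  exact AlgEquiv.card_le

theorem card_algEquiv_eq {A : Type u} [CommRing A] [IsRegularLocalRing A] {p : ℕ} [Fact p.Prime] [CharP A p]
    [IsAdicComplete (IsLocalRing.maximalIdeal A) A] {k : Type v} [Field k] [Algebra k A]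
    {G : Type w} [Group G] [Finite G] [MulSemiringAction G A] [SMulCommClass G k A]
    (hdim : 2 ≤ ringKrullDim A) (hk : Function.Surjective (IsLocalRing.residue A ∘ algebraMap k A))
    (hkp : ∀ (L : Type v) [Field L] [Algebra k L], IsGalois k L → Module.finrank k L ≠ p)
    (hcard : Nat.card G = p)
    (hram : ∀ P : Ideal A, P.IsPrime → P ≠ IsLocalRing.maximalIdeal A → P.inertia G = ⊥)
    {R : Type*} [CommRing R] [Algebra k R] [Algebra R A] [IsScalarTower k R A] [Module.Finite R A]
    (hRinj : Function.Injective (algebraMap R A))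
    (hRG : ∀ (σ : G) (r : R), σ • algebraMap R A r = algebraMap R A r)
    (hgal : p * Nat.card {φ : FixedPoints.subalgebra k A G ≃ₐ[k] FixedPoints.subalgebra k A G //
        ∀ b : FixedPoints.subalgebra k A G, (b : A) ∈ Set.range (algebraMap R A) → (φ b : A) = b} =
      Module.finrank R A) :
    Nat.card (A ≃ₐ[R] A) = Module.finrank R A := by
  haveI : IsDomain A := CAlgReg.isDomain
  haveI : FaithfulSMul R A := (faithfulSMul_iff_algebraMap_injective R A).2 hRinj
  haveI := faithful_of_inertia hram hdim
  haveI : SMulCommClass G R A := ⟨fun g r a => by rw [Algebra.smul_def, Algebra.smul_def, smul_mul', hRG]⟩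
  obtain ⟨hfin, hle⟩ := card_algEquiv_le_finrank R A
  refine le_antisymm hle ?_
  rw [← hgal, ← hcard, ← Nat.card_prod]
  set X := {φ : FixedPoints.subalgebra k A G ≃ₐ[k] FixedPoints.subalgebra k A G //
        ∀ b : FixedPoints.subalgebra k A G, (b : A) ∈ Set.range (algebraMap R A) → (φ b : A) = b}
  choose ψ hψ using fun φ : X => exists_extension hdim hk hkp hcard hram φ.1
  have hψR : ∀ (φ : X) (r : R), ψ φ (algebraMap R A r) = algebraMap R A r := fun φ r =>
    (hψ φ ⟨algebraMap R A r, fun g => hRG g r⟩).trans (φ.2 ⟨algebraMap R A r, fun g => hRG g r⟩ ⟨r, rfl⟩)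
  let T : G × X → (A ≃ₐ[R] A) := fun x =>
    (MulSemiringAction.toAlgEquiv R A x.1).trans (AlgEquiv.ofRingEquiv (f := (ψ x.2).toRingEquiv) (hψR x.2))
  refine Nat.card_le_card_of_injective T ?_
  rintro ⟨g, φ⟩ ⟨g', φ'⟩ h
  have hT : ∀ a, ψ φ (g • a) = ψ φ' (g' • a) := fun a => DFunLike.congr_fun h a
  have hφ : φ = φ' := Subtype.ext (AlgEquiv.ext fun b => Subtype.ext (by
    rw [← hψ φ b, ← hψ φ' b]
    have := hT (b : A)
    rwa [b.2 g, b.2 g'] at this))
  subst hφ
  exact Prod.ext (FaithfulSMul.eq_of_smul_eq_smul fun a : A => (ψ φ).injective (hT a)) rfl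

end Groth.Agent.WildQuotGal
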