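import Groth.Agent.WildQuotGal.FreeReg
import Groth.Agent.MvPSLib.Eval
import Groth.Agent.CplFin.Basic
import Groth.Agent.RegNormal.Basic
import Groth.Agent.S4610
import Groth.Agent.WildQuotGal.ASCount

/-!
Finite extensions given by families of additive equations `T_i ^ p - c_i T_i - b_i`.
-/

set_option autoImplicit false

universe u v

namespace Groth.Agent.ASFamily

open MvPolynomial IsLocalRing

variable {R : Type u} [CommRing R]

/-- The ideal of a family of additive equations. -/
noncomputable abbrev eqs {ι : Type*} (p : ℕ) (c b : ι → R) : Ideal (MvPolynomial ι R) :=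
  Ideal.span (Set.range fun i : ι => X i ^ p - C (c i) * X i - C (b i))

theorem free_finrank_fin [Nontrivial R] {n p : ℕ} (hp : 2 ≤ p) (c b : Fin n → R) :
    Module.Free R (MvPolynomial (Fin n) R ⧸ eqs p c b) ∧
      Module.finrank R (MvPolynomial (Fin n) R ⧸ eqs p c b) = p ^ n := by
  let F : Fin n → Polynomial R := fun i =>
    Polynomial.X ^ p - (Polynomial.C (c i) * Polynomial.X + Polynomial.C (b i))
  have hd : ∀ i, (Polynomial.C (c i) * Polynomial.X + Polynomial.C (b i)).degree < (p : WithBot ℕ) :=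
    fun i => lt_of_le_of_lt Polynomial.degree_linear_le (by exact_mod_cast hp)
  have hF : ∀ i, (F i).Monic := fun i => Polynomial.monic_X_pow_sub (hd i)
  have hdeg : ∀ i, (F i).natDegree = p := fun i => by
    refine Polynomial.natDegree_eq_of_degree_eq_some ?_
    rw [Polynomial.degree_sub_eq_left_of_degree_lt] <;> rw [Polynomial.degree_X_pow]
    exact hd i
  have h := Groth.Agent.S4610.result F hF
  have he : Ideal.span (Set.range fun i => Polynomial.aeval (X i : MvPolynomial (Fin n) R) (F i)) =
      eqs p c b := by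
    congr 2
    ext1 i
    simp [F, sub_add_eq_sub_sub]
  rw [he] at h
  refine ⟨h.1, h.2.trans ?_⟩
  simp [hdeg]

theorem free_finrank [Nontrivial R] {ι : Type} [Fintype ι] {p : ℕ} (hp : 2 ≤ p) (c b : ι → R) :
    Module.Free R (MvPolynomial ι R ⧸ eqs p c b) ∧
      Module.finrank R (MvPolynomial ι R ⧸ eqs p c b) = p ^ Fintype.card ι := by
  let e := Fintype.equivFin ι
  obtain ⟨h1, h2⟩ := free_finrank_fin hp (c ∘ e.symm) (b ∘ e.symm)
  let E : (MvPolynomial ι R ⧸ eqs p c b) ≃ₐ[R] MvPolynomial (Fin (Fintype.card ι)) R ⧸ eqs p (c ∘ e.symm) (b ∘ e.symm) :=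
    Ideal.quotientEquivAlg _ _ (renameEquiv R e) (by
      simp only [eqs]
      conv_rhs => rw [← e.symm.surjective.range_comp, Ideal.map_span, ← Set.range_comp]
      congr 2
      ext1 j
      simp)
  haveI := h1
  exact ⟨Module.Free.of_equiv E.toLinearEquiv.symm, E.toLinearEquiv.finrank_eq.trans h2⟩

theorem finite [Nontrivial R] {ι : Type} [Fintype ι] {p : ℕ} (hp : 2 ≤ p) (c b : ι → R) :
    Module.Finite R (MvPolynomial ι R ⧸ eqs p c b) := by
  haveI := (free_finrank hp c b).1
  refine Module.finite_of_finrank_pos ?_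
  rw [(free_finrank hp c b).2]
  exact pow_pos (by omega) _

theorem relation {ι : Type*} {p : ℕ} (c b : ι → R) (i : ι) :
    Ideal.Quotient.mk (eqs p c b) (X i) ^ p =
      algebraMap R _ (c i) * Ideal.Quotient.mk (eqs p c b) (X i) + algebraMap R _ (b i) := by
  have h : Ideal.Quotient.mk (eqs p c b) (X i ^ p - C (c i) * X i - C (b i)) = 0 :=
    Ideal.Quotient.eq_zero_iff_mem.2 (Ideal.subset_span ⟨i, rfl⟩)
  simp only [map_sub, map_pow, map_mul] at h
  rw [sub_sub, sub_eq_zero] at h
  exact h

theorem eqs_algHom_ext {ι : Type*} {p : ℕ} {c b : ι → R} {B : Type*} [CommRing B] [Algebra R B]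
    {f g : (MvPolynomial ι R ⧸ eqs p c b) →ₐ[R] B}
    (h : ∀ i, f (Ideal.Quotient.mk _ (X i)) = g (Ideal.Quotient.mk _ (X i))) : f = g :=
  Ideal.Quotient.algHom_ext R (MvPolynomial.algHom_ext h)

theorem span_sub_eq_map {ι : Type*} {p : ℕ} {c b : ι → R} (d : ι → R)
    (σ : (MvPolynomial ι R ⧸ eqs p c b) ≃ₐ[R] (MvPolynomial ι R ⧸ eqs p c b))
    (hσ : ∀ i, σ (Ideal.Quotient.mk _ (X i)) = Ideal.Quotient.mk _ (X i) + algebraMap R _ (d i)) :
    Ideal.span (Set.range fun t => σ t - t) =
      (Ideal.span (Set.range d)).map (algebraMap R (MvPolynomial ι R ⧸ eqs p c b)) := by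
  refine le_antisymm ?_ ?_
  · rw [Ideal.span_le]
    rintro _ ⟨t, rfl⟩
    let K := (Ideal.span (Set.range d)).map (algebraMap R (MvPolynomial ι R ⧸ eqs p c b))
    have hh : (Ideal.Quotient.mkₐ R K).comp σ.toAlgHom = Ideal.Quotient.mkₐ R K := by
      refine Ideal.Quotient.algHom_ext R (MvPolynomial.algHom_ext fun i => ?_)
      show Ideal.Quotient.mk K (σ (Ideal.Quotient.mk _ (X i))) = Ideal.Quotient.mk K (Ideal.Quotient.mk _ (X i))
      rw [hσ, map_add, add_eq_left, Ideal.Quotient.eq_zero_iff_mem]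
      exact Ideal.mem_map_of_mem _ (Ideal.subset_span ⟨i, rfl⟩)
    exact Ideal.Quotient.eq.1 (DFunLike.congr_fun hh t)
  · rw [Ideal.map_span, Ideal.span_le]
    rintro _ ⟨_, ⟨i, rfl⟩, rfl⟩
    exact Ideal.subset_span ⟨Ideal.Quotient.mk _ (X i), by simp only [hσ, add_sub_cancel_left]⟩

section Length

/-- Over a local algebra with the same residue field, lengths agree. -/
theorem length_eq_of_residue {R A : Type*} [CommRing R] [CommRing A] [IsLocalRing A] [Algebra R A]
    (hres : Function.Surjective (residue A ∘ algebraMap R A)) (M : Type v) [AddCommGroup M]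
    [Module R M] [Module A M] [IsScalarTower R A M] :
    Module.length R M = Module.length A M := by
  refine le_antisymm ?_ ?_
  · by_cases h : Module.length A M = ⊤
    · rw [h]; exact le_top
    have hfin : IsFiniteLength A M := Module.length_ne_top_iff.1 h
    clear h
    revert ‹Module R M› ‹IsScalarTower R A M›
    induction hfin with
    | of_subsingleton =>
      intro _ _
      simp [Module.length_eq_zero]
    | @of_simple_quotient M _ _ N _ hN ih =>
      intro _ _
      rw [Module.length_eq_add_of_exact (R := A) N.subtype N.mkQ (Subtype.val_injective)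
          N.mkQ_surjective (LinearMap.exact_subtype_mkQ N),
        Module.length_eq_add_of_exact (R := R) (N.subtype.restrictScalars R) (N.mkQ.restrictScalars R)
          Subtype.val_injective N.mkQ_surjective (LinearMap.exact_subtype_mkQ N)]
      refine add_le_add ih (le_of_eq ?_)
      have hsimp : IsSimpleModule R (M ⧸ N) := by
        have hN' : IsSimpleModule A (M ⧸ N) := inferInstance
        have hann : ∀ a ∈ maximalIdeal A, ∀ q : M ⧸ N, a • q = 0 := by
          intro a ha q
          rcases (IsSimpleOrder.eq_bot_or_eq_top (maximalIdeal A • (⊤ : Submodule A (M ⧸ N)))) with h | h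
          · have := Submodule.smul_mem_smul ha (Submodule.mem_top (x := q))
            rwa [h, Submodule.mem_bot] at this
          · exfalso
            haveI : Nontrivial (M ⧸ N) := IsSimpleModule.nontrivial A _
            obtain ⟨q₀, hq₀⟩ := exists_ne (0 : M ⧸ N)
            have := Submodule.eq_bot_of_le_smul_of_le_jacobson_bot (maximalIdeal A)
              (⊤ : Submodule A (M ⧸ N)) (Module.finite_def.1 inferInstance) h.ge
              (IsLocalRing.maximalIdeal_le_jacobson _)
            exact hq₀ ((Submodule.mem_bot A).1 (this ▸ Submodule.mem_top))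
        haveI : Nontrivial (M ⧸ N) := IsSimpleModule.nontrivial A _
        refine isSimpleModule_iff R (M ⧸ N) |>.2 ⟨fun P => ?_⟩
        let P' : Submodule A (M ⧸ N) :=
          { P.toAddSubmonoid with
            smul_mem' := fun a q hq => by
              obtain ⟨r, hr⟩ := hres (residue A a)
              have h0 : a - algebraMap R A r ∈ maximalIdeal A := by
                rw [← residue_eq_zero_iff, map_sub, sub_eq_zero]; exact hr.symm
              have := hann _ h0 q
              rw [sub_smul, sub_eq_zero, algebraMap_smul] at this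
              show a • q ∈ P
              rw [this]
              exact P.smul_mem r hq }
        rcases IsSimpleOrder.eq_bot_or_eq_top P' with h | h
        · left
          exact Submodule.ext fun q => by
            rw [Submodule.mem_bot]
            exact (SetLike.ext_iff.1 h q).trans (Submodule.mem_bot A)
        · right
          exact Submodule.ext fun q => by
            exact (SetLike.ext_iff.1 h q).trans (by simp)
      rw [Module.length_eq_one (R := R), Module.length_eq_one (R := A)]
  · have := Submodule.length_le_length_restrictScalars (R := A) R (⊤ : Submodule A M)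
    rwa [Submodule.restrictScalars_top, Module.length_top, Module.length_top] at this

end Length

section Regular

variable (p : ℕ) [hp : Fact p.Prime] (k : Type u) [Field k] (n : ℕ)

theorem mem_span_X {r : MvPowerSeries (Fin n) k} (hr : MvPowerSeries.constantCoeff r = 0) :
    r ∈ Ideal.span (Set.range (MvPowerSeries.X : Fin n → MvPowerSeries (Fin n) k)) := by
  rw [← FSAdic.augIdeal_eq_span]
  exact hr

variable (c : Fin n → MvPowerSeries (Fin n) k)

theorem maximal_and_le (hc : ∀ i, MvPowerSeries.constantCoeff (c i) = 0) :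
    let J : Ideal (MvPolynomial (Fin n) (MvPowerSeries (Fin n) k) ⧸ eqs p c MvPowerSeries.X) :=
      Ideal.map (Ideal.Quotient.mk (eqs p c MvPowerSeries.X))
        (Ideal.span (Set.range (X : Fin n → MvPolynomial (Fin n) (MvPowerSeries (Fin n) k))))
    J.IsMaximal ∧ ∀ M : Ideal (MvPolynomial (Fin n) (MvPowerSeries (Fin n) k) ⧸ eqs p c MvPowerSeries.X),
      M.IsMaximal → J ≤ M := by
  intro J
  have hp0 : p ≠ 0 := hp.out.ne_zero
  have hu : ∀ i, Ideal.Quotient.mk (eqs p c MvPowerSeries.X) (X i) ∈ J := fun i =>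
    Ideal.mem_map_of_mem _ (Ideal.subset_span ⟨i, rfl⟩)
  have hC : ∀ r : MvPowerSeries (Fin n) k, MvPowerSeries.constantCoeff r = 0 →
      algebraMap _ (MvPolynomial (Fin n) (MvPowerSeries (Fin n) k) ⧸ eqs p c MvPowerSeries.X) r ∈ J := by
    intro r hr
    refine (Ideal.span_le (I := J.comap (algebraMap _ _))).2 ?_ (mem_span_X k n hr)
    rintro _ ⟨i, rfl⟩
    show algebraMap _ _ (MvPowerSeries.X i) ∈ J
    rw [eq_sub_of_add_eq' (relation (p := p) c MvPowerSeries.X i).symm]
    exact sub_mem (Ideal.pow_mem_of_mem _ (hu i) _ hp.out.pos) (Ideal.mul_mem_left _ _ (hu i))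
  let e : MvPolynomial (Fin n) (MvPowerSeries (Fin n) k) →+* k :=
    MvPolynomial.eval₂Hom MvPowerSeries.constantCoeff 0
  have he : ∀ f ∈ eqs p c MvPowerSeries.X, e f = 0 := by
    intro f hf
    refine (Ideal.span_le (I := RingHom.ker e)).2 ?_ hf
    rintro _ ⟨i, rfl⟩
    simp [e, hc, hp0]
  let φ : (MvPolynomial (Fin n) (MvPowerSeries (Fin n) k) ⧸ eqs p c MvPowerSeries.X) →+* k :=
    Ideal.Quotient.lift _ e he
  have hφ : Function.Surjective φ := fun x =>
    ⟨Ideal.Quotient.mk _ (C (MvPowerSeries.C x)), by simp [φ, e]⟩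
  have hker : RingHom.ker φ = J := by
    refine le_antisymm (fun t ht => ?_) ?_
    · obtain ⟨f, rfl⟩ := Ideal.Quotient.mk_surjective t
      have h1 : f - C (constantCoeff f) ∈
          Ideal.span (Set.range (X : Fin n → MvPolynomial (Fin n) (MvPowerSeries (Fin n) k))) := by
        clear ht
        induction f using MvPolynomial.induction_on with
        | C a => simp
        | add f g hf hg =>
          rw [map_add, map_add, add_sub_add_comm]
          exact add_mem hf hg
        | mul_X f i hf =>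
          simp only [map_mul, constantCoeff_X, mul_zero, map_zero, sub_zero]
          exact Ideal.mul_mem_left _ _ (Ideal.subset_span ⟨i, rfl⟩)
      have h2 : MvPowerSeries.constantCoeff (constantCoeff f) = 0 := by
        have : φ (Ideal.Quotient.mk _ f) = 0 := ht
        simpa [φ, e] using this
      rw [show f = (f - C (constantCoeff f)) + C (constantCoeff f) by ring, map_add]
      exact add_mem (Ideal.mem_map_of_mem _ h1) (hC _ h2)
    · rw [Ideal.map_le_iff_le_comap, Ideal.span_le]
      rintro _ ⟨i, rfl⟩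
      simp [φ, e]
  refine ⟨hker ▸ RingHom.ker_isMaximal_of_surjective φ hφ, fun M hM => ?_⟩
  haveI := finite (R := MvPowerSeries (Fin n) k) hp.out.two_le c MvPowerSeries.X
  haveI := hM
  have hM' : (M.comap (algebraMap (MvPowerSeries (Fin n) k) _)) = maximalIdeal (MvPowerSeries (Fin n) k) :=
    IsLocalRing.eq_maximalIdeal (Ideal.isMaximal_comap_of_isIntegral_of_isMaximal M)
  have hmem : ∀ r : MvPowerSeries (Fin n) k, MvPowerSeries.constantCoeff r = 0 →
      algebraMap _ _ r ∈ M := by
    intro r hr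
    rw [← Ideal.mem_comap, hM', MvPSLib.maximalIdeal_eq]
    exact hr
  rw [Ideal.map_le_iff_le_comap, Ideal.span_le]
  rintro _ ⟨i, rfl⟩
  refine hM.isPrime.mem_of_pow_mem p ?_
  rw [relation (p := p) c MvPowerSeries.X i]
  exact add_mem (Ideal.mul_mem_right _ _ (hmem _ (hc i)))
    (hmem _ (MvPowerSeries.constantCoeff_X i))

theorem isLocalRing (hc : ∀ i, MvPowerSeries.constantCoeff (c i) = 0) :
    IsLocalRing (MvPolynomial (Fin n) (MvPowerSeries (Fin n) k) ⧸ eqs p c MvPowerSeries.X) := by
  obtain ⟨h1, h2⟩ := maximal_and_le p k n c hc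
  exact IsLocalRing.of_unique_max_ideal ⟨_, h1, fun M hM => (h1.eq_of_le hM.ne_top (h2 M hM)).symm⟩

theorem maximalIdeal_eq (hc : ∀ i, MvPowerSeries.constantCoeff (c i) = 0)
    [IsLocalRing (MvPolynomial (Fin n) (MvPowerSeries (Fin n) k) ⧸ eqs p c MvPowerSeries.X)] :
    maximalIdeal (MvPolynomial (Fin n) (MvPowerSeries (Fin n) k) ⧸ eqs p c MvPowerSeries.X) =
      Ideal.span (Set.range fun i => Ideal.Quotient.mk (eqs p c MvPowerSeries.X) (X i)) := by
  rw [← IsLocalRing.eq_maximalIdeal (maximal_and_le p k n c hc).1, Ideal.map_span, ← Set.range_comp]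
  rfl

theorem faithfulSMul :
    FaithfulSMul (MvPowerSeries (Fin n) k)
      (MvPolynomial (Fin n) (MvPowerSeries (Fin n) k) ⧸ eqs p c MvPowerSeries.X) := by
  obtain ⟨h1, h2⟩ := free_finrank (R := MvPowerSeries (Fin n) k) hp.out.two_le c MvPowerSeries.X
  haveI := h1
  haveI : Nontrivial (MvPolynomial (Fin n) (MvPowerSeries (Fin n) k) ⧸ eqs p c MvPowerSeries.X) :=
    Module.nontrivial_of_finrank_pos (R := MvPowerSeries (Fin n) k) (by
      rw [h2]; exact pow_pos hp.out.pos _)
  infer_instance

theorem isRegularLocalRing (hc : ∀ i, MvPowerSeries.constantCoeff (c i) = 0) :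
    IsRegularLocalRing (MvPolynomial (Fin n) (MvPowerSeries (Fin n) k) ⧸ eqs p c MvPowerSeries.X) := by
  haveI := isLocalRing p k n c hc
  haveI := finite (R := MvPowerSeries (Fin n) k) hp.out.two_le c MvPowerSeries.X
  haveI := faithfulSMul p k n c
  haveI : IsNoetherianRing (MvPolynomial (Fin n) (MvPowerSeries (Fin n) k) ⧸ eqs p c MvPowerSeries.X) :=
    IsNoetherianRing.of_finite (MvPowerSeries (Fin n) k) _
  refine IsRegularLocalRing.of_spanFinrank_maximalIdeal_le _ ?_
  rw [DimTheory.ringKrullDim_eq_of_integral (MvPowerSeries (Fin n) k), MvPSLib.ringKrullDim_eq,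
    maximalIdeal_eq p k n c hc]
  refine Nat.cast_le.2 ((Submodule.spanFinrank_span_le_ncard_of_finite (Set.finite_range _)).trans ?_)
  rw [← Set.image_univ]
  exact (Set.ncard_image_le).trans (by simp)

theorem isAdicComplete (hc : ∀ i, MvPowerSeries.constantCoeff (c i) = 0)
    [IsLocalRing (MvPolynomial (Fin n) (MvPowerSeries (Fin n) k) ⧸ eqs p c MvPowerSeries.X)] :
    IsAdicComplete (maximalIdeal (MvPolynomial (Fin n) (MvPowerSeries (Fin n) k) ⧸ eqs p c MvPowerSeries.X))
      (MvPolynomial (Fin n) (MvPowerSeries (Fin n) k) ⧸ eqs p c MvPowerSeries.X) := by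
  haveI := finite (R := MvPowerSeries (Fin n) k) hp.out.two_le c MvPowerSeries.X
  haveI : IsAdicComplete (maximalIdeal (MvPowerSeries (Fin n) k)) (MvPowerSeries (Fin n) k) := by
    rw [MvPSLib.maximalIdeal_eq]; infer_instance
  exact CplFin.isAdicComplete_local (MvPowerSeries (Fin n) k) _

theorem residue_surjective (hc : ∀ i, MvPowerSeries.constantCoeff (c i) = 0)
    [IsLocalRing (MvPolynomial (Fin n) (MvPowerSeries (Fin n) k) ⧸ eqs p c MvPowerSeries.X)] :
    Function.Surjective (residue (MvPolynomial (Fin n) (MvPowerSeries (Fin n) k) ⧸ eqs p c MvPowerSeries.X) ∘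
      algebraMap (MvPowerSeries (Fin n) k) _) := by
  intro x
  obtain ⟨t, rfl⟩ := IsLocalRing.residue_surjective x
  obtain ⟨f, rfl⟩ := Ideal.Quotient.mk_surjective t
  refine ⟨constantCoeff f, ?_⟩
  symm
  rw [Function.comp_apply, ← sub_eq_zero, ← map_sub, residue_eq_zero_iff, maximalIdeal_eq p k n c hc]
  induction f using MvPolynomial.induction_on with
  | C r => simp [IsScalarTower.algebraMap_apply (MvPowerSeries (Fin n) k) (MvPolynomial (Fin n) (MvPowerSeries (Fin n) k)) (MvPolynomial (Fin n) (MvPowerSeries (Fin n) k) ⧸ eqs p c MvPowerSeries.X)]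
  | add f g hf hg =>
    rw [map_add, map_add, map_add, add_sub_add_comm]
    exact add_mem hf hg
  | mul_X f i hf =>
    rw [map_mul, map_mul constantCoeff, constantCoeff_X, mul_zero, map_zero, sub_zero]
    exact Ideal.mul_mem_left _ _ (Ideal.subset_span ⟨i, rfl⟩)

theorem map_maximalIdeal_le_pow (hc : ∀ i, MvPowerSeries.constantCoeff (c i) = 0)
    [IsLocalRing (MvPolynomial (Fin n) (MvPowerSeries (Fin n) k) ⧸ eqs p c MvPowerSeries.X)] :
    (maximalIdeal (MvPowerSeries (Fin n) k)).map
        (algebraMap _ (MvPolynomial (Fin n) (MvPowerSeries (Fin n) k) ⧸ eqs p c MvPowerSeries.X)) ≤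
      maximalIdeal _ ^ p := by
  set A := MvPolynomial (Fin n) (MvPowerSeries (Fin n) k) ⧸ eqs p c MvPowerSeries.X
  have hu : ∀ i, Ideal.Quotient.mk (eqs p c MvPowerSeries.X) (X i) ∈ maximalIdeal A := fun i =>
    maximalIdeal_eq p k n c hc ▸ Ideal.subset_span ⟨i, rfl⟩
  haveI := finite (R := MvPowerSeries (Fin n) k) hp.out.two_le c MvPowerSeries.X
  haveI : IsNoetherianRing A := IsNoetherianRing.of_finite (MvPowerSeries (Fin n) k) A
  refine Submodule.le_of_le_smul_of_le_jacobson_bot (I := maximalIdeal A)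
    (IsNoetherian.noetherian _) (IsLocalRing.maximalIdeal_le_jacobson _) ?_
  rw [smul_eq_mul]
  conv_lhs => rw [MvPSLib.maximalIdeal_eq, FSAdic.augIdeal_eq_span, Ideal.map_span]
  rw [Ideal.span_le]
  rintro _ ⟨_, ⟨i, rfl⟩, rfl⟩
  rw [eq_sub_of_add_eq' (relation (p := p) c MvPowerSeries.X i).symm]
  refine sub_mem (Ideal.mem_sup_left (Ideal.pow_mem_pow (hu i) p)) (Ideal.mem_sup_right ?_)
  refine Ideal.mul_mem_mul_rev (hu i) (Ideal.mem_map_of_mem _ ?_)
  rw [MvPSLib.maximalIdeal_eq]
  exact hc i

theorem length_quotient_map (hc : ∀ i, MvPowerSeries.constantCoeff (c i) = 0)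
    (I : Ideal (MvPowerSeries (Fin n) k)) :
    Module.length (MvPolynomial (Fin n) (MvPowerSeries (Fin n) k) ⧸ eqs p c MvPowerSeries.X)
      ((MvPolynomial (Fin n) (MvPowerSeries (Fin n) k) ⧸ eqs p c MvPowerSeries.X) ⧸
        I.map (algebraMap _ (MvPolynomial (Fin n) (MvPowerSeries (Fin n) k) ⧸ eqs p c MvPowerSeries.X))) =
      (p ^ n : ℕ∞) * Module.length (MvPowerSeries (Fin n) k) (MvPowerSeries (Fin n) k ⧸ I) := by
  haveI := isLocalRing p k n c hc
  haveI := finite (R := MvPowerSeries (Fin n) k) hp.out.two_le c MvPowerSeries.X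
  obtain ⟨hfree, hrank⟩ := free_finrank_fin (R := MvPowerSeries (Fin n) k) hp.out.two_le c MvPowerSeries.X
  set A := MvPolynomial (Fin n) (MvPowerSeries (Fin n) k) ⧸ eqs p c MvPowerSeries.X
  rw [← length_eq_of_residue (residue_surjective p k n c hc)]
  let e : (A ⧸ I.map (algebraMap _ A)) ≃ₗ[MvPowerSeries (Fin n) k]
      (Module.Free.ChooseBasisIndex (MvPowerSeries (Fin n) k) A → MvPowerSeries (Fin n) k ⧸ I) :=
    (Submodule.Quotient.restrictScalarsEquiv (MvPowerSeries (Fin n) k) (I.map (algebraMap _ A))).symm ≪≫ₗ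
      Submodule.quotEquivOfEq _ _ (Ideal.smul_top_eq_map (S := A) I).symm ≪≫ₗ
      (TensorProduct.quotTensorEquivQuotSMul A I).symm ≪≫ₗ
      TensorProduct.congr (LinearEquiv.refl _ _) (Module.Free.chooseBasis _ A).equivFun ≪≫ₗ
      TensorProduct.piScalarRight _ (MvPowerSeries (Fin n) k) _ _
  rw [e.length_eq, Module.length_pi_of_fintype, Finset.sum_const, Finset.card_univ,
    ← Module.finrank_eq_card_chooseBasisIndex, nsmul_eq_mul, hrank]
  simp

theorem isDomain (hc : ∀ i, MvPowerSeries.constantCoeff (c i) = 0) :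
    IsDomain (MvPolynomial (Fin n) (MvPowerSeries (Fin n) k) ⧸ eqs p c MvPowerSeries.X) := by
  haveI := isRegularLocalRing p k n c hc
  exact CAlgReg.isDomain

end Regular


end Groth.Agent.ASFamily
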