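import Groth.Agent.WildQuotGal.ASFamily
import Mathlib.FieldTheory.Galois.Basic

/-!
Automorphisms of a family of Artin–Schreier extensions.
-/

set_option autoImplicit false

universe u

namespace Groth.Agent.ASFamily

open MvPolynomial

variable {R : Type u} [CommRing R] (p : ℕ) [hp : Fact p.Prime] [CharP R p]

theorem exists_root {L : Type*} [Field L] [CharP L p] {z α : L} (hα : α ≠ 0)
    (h : z ^ p = α ^ (p - 1) * z) : ∃ j : ZMod p, z = ZMod.castHom (dvd_refl p) L j * α := by
  have h1 : (z / α) ^ p = z / α := by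
    have e : α ^ p = α ^ (p - 1) * α := (pow_sub_one_mul hp.out.ne_zero α).symm
    rw [div_pow, h, e, mul_div_mul_left _ _ (pow_ne_zero _ hα)]
  have h2 : z / α ∈ (⊥ : Subfield L) := (Subfield.mem_bot_iff_pow_eq_self (F := L) p).2 h1
  obtain ⟨j, hj⟩ := (bot_le : (⊥ : Subfield L) ≤ (ZMod.castHom (dvd_refl p) L).fieldRange) h2
  exact ⟨j, by rw [hj, div_mul_cancel₀ _ hα]⟩

variable {ι : Type} (a b : ι → R)

/-- The family of translations `u_i ↦ u_i + ν_i a_i`. -/
noncomputable def shiftHom (ν : ι → ZMod p) :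
    (MvPolynomial ι R ⧸ eqs p (fun i => a i ^ (p - 1)) b) →ₐ[R]
      (MvPolynomial ι R ⧸ eqs p (fun i => a i ^ (p - 1)) b) :=
  Ideal.Quotient.liftₐ _ (MvPolynomial.aeval fun i =>
      Ideal.Quotient.mk (eqs p (fun i => a i ^ (p - 1)) b) (X i) +
        algebraMap R _ (ZMod.castHom (dvd_refl p) R (ν i) * a i)) (by
    intro f hf
    refine (Ideal.span_le (I := RingHom.ker (MvPolynomial.aeval fun i =>
      Ideal.Quotient.mk (eqs p (fun i => a i ^ (p - 1)) b) (X i) +
        algebraMap R _ (ZMod.castHom (dvd_refl p) R (ν i) * a i)))).2 ?_ hf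
    rintro _ ⟨i, rfl⟩
    rw [SetLike.mem_coe, RingHom.mem_ker]
    have hj : (ZMod.castHom (dvd_refl p) R (ν i)) ^ p = ZMod.castHom (dvd_refl p) R (ν i) := by
      rw [← map_pow, ZMod.pow_card]
    have hap : a i ^ p = a i ^ (p - 1) * a i := (pow_sub_one_mul hp.out.ne_zero (a i)).symm
    have hchar : ∀ x y : MvPolynomial ι R ⧸ eqs p (fun i => a i ^ (p - 1)) b,
        (x + y) ^ p = x ^ p + y ^ p := by
      intro x y
      have h0 : (p : MvPolynomial ι R ⧸ eqs p (fun i => a i ^ (p - 1)) b) = 0 := by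
        rw [← map_natCast (algebraMap R (MvPolynomial ι R ⧸ eqs p (fun i => a i ^ (p - 1)) b)),
          CharP.cast_eq_zero R p, map_zero]
      rw [(Commute.all x y).add_pow_prime_eq hp.out, h0]
      simp
    simp only [map_sub, map_mul, map_pow, aeval_X, aeval_C, hchar]
    rw [relation (p := p) (fun i => a i ^ (p - 1)) b i]
    rw [mul_pow, ← map_pow (algebraMap R _) (ZMod.castHom _ _ _), hj, ← map_pow (algebraMap R _) (a i) p, hap]
    simp only [map_mul, map_pow]
    ring)

theorem shiftHom_mk (ν : ι → ZMod p) (i : ι) :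
    shiftHom p a b ν (Ideal.Quotient.mk _ (X i)) =
      Ideal.Quotient.mk _ (X i) + algebraMap R _ (ZMod.castHom (dvd_refl p) R (ν i) * a i) := by
  simp [shiftHom]

theorem shiftHom_comp (ν μ : ι → ZMod p) :
    (shiftHom p a b ν).comp (shiftHom p a b μ) = shiftHom p a b (ν + μ) := by
  refine Ideal.Quotient.algHom_ext R (MvPolynomial.algHom_ext fun i => ?_)
  simp only [AlgHom.comp_apply, Ideal.Quotient.mkₐ_eq_mk, shiftHom_mk, map_add, AlgHom.commutes,
    Pi.add_apply, add_mul, map_mul]
  ring

theorem shiftHom_zero : shiftHom p a b 0 = AlgHom.id R _ := by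
  refine Ideal.Quotient.algHom_ext R (MvPolynomial.algHom_ext fun i => ?_)
  simp [shiftHom_mk]

/-- Translation as an automorphism. -/
noncomputable def shift (ν : ι → ZMod p) :
    (MvPolynomial ι R ⧸ eqs p (fun i => a i ^ (p - 1)) b) ≃ₐ[R]
      (MvPolynomial ι R ⧸ eqs p (fun i => a i ^ (p - 1)) b) :=
  AlgEquiv.ofAlgHom (shiftHom p a b ν) (shiftHom p a b (-ν))
    (by rw [shiftHom_comp, add_neg_cancel, shiftHom_zero])
    (by rw [shiftHom_comp, neg_add_cancel, shiftHom_zero])

theorem shift_add (ν μ : ι → ZMod p) : shift p a b (ν + μ) = shift p a b ν * shift p a b μ :=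
  AlgEquiv.ext fun x => (DFunLike.congr_fun (shiftHom_comp p a b ν μ) x).symm

theorem shift_zero : shift p a b 0 = 1 :=
  AlgEquiv.ext fun x => DFunLike.congr_fun (shiftHom_zero p a b) x

theorem shift_bijective [IsDomain (MvPolynomial ι R ⧸ eqs p (fun i => a i ^ (p - 1)) b)]
    [FaithfulSMul R (MvPolynomial ι R ⧸ eqs p (fun i => a i ^ (p - 1)) b)] (ha : ∀ i, a i ≠ 0) :
    Function.Bijective (shift p a b) := by
  haveI : IsDomain R := (FaithfulSMul.algebraMap_injective R
    (MvPolynomial ι R ⧸ eqs p (fun i => a i ^ (p - 1)) b)).isDomain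
  refine ⟨fun ν μ h => funext fun i => ?_, fun σ => ?_⟩
  · have h1 := DFunLike.congr_fun h (Ideal.Quotient.mk _ (X i))
    change shiftHom p a b ν (Ideal.Quotient.mk _ (X i)) = shiftHom p a b μ (Ideal.Quotient.mk _ (X i)) at h1
    rw [shiftHom_mk, shiftHom_mk, add_right_inj] at h1
    exact (ZMod.castHom (dvd_refl p) R).injective
      (mul_right_cancel₀ (ha i) (FaithfulSMul.algebraMap_injective R _ h1))
  · let A := MvPolynomial ι R ⧸ eqs p (fun i => a i ^ (p - 1)) b
    let L := FractionRing A
    haveI : CharP A p := charP_of_injective_algebraMap (FaithfulSMul.algebraMap_injective R A) p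
    haveI : CharP L p := charP_of_injective_algebraMap (IsFractionRing.injective A L) p
    have key : ∀ i, ∃ j : ZMod p, σ (Ideal.Quotient.mk _ (X i)) =
        Ideal.Quotient.mk _ (X i) + algebraMap R A (ZMod.castHom (dvd_refl p) R j * a i) := by
      intro i
      set u : A := Ideal.Quotient.mk _ (X i)
      have hu : u ^ p = algebraMap R A (a i ^ (p - 1)) * u + algebraMap R A (b i) :=
        relation (p := p) (fun i => a i ^ (p - 1)) b i
      have hσ : (σ u) ^ p = algebraMap R A (a i ^ (p - 1)) * σ u + algebraMap R A (b i) := by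
        rw [← map_pow, hu, map_add, map_mul, AlgEquiv.commutes, AlgEquiv.commutes]
      have hd : (σ u - u) ^ p = algebraMap R A (a i) ^ (p - 1) * (σ u - u) := by
        rw [sub_pow_char, hσ, hu, map_pow]; ring
      have hα : algebraMap A L (algebraMap R A (a i)) ≠ 0 := fun h0 => ha i
        (FaithfulSMul.algebraMap_injective R A
          ((IsFractionRing.injective A L (h0.trans (map_zero _).symm)).trans (map_zero _).symm))
      obtain ⟨j, hj⟩ := exists_root p hα (z := algebraMap A L (σ u - u)) (by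
        rw [← map_pow, hd, map_mul, map_pow])
      refine ⟨j, ?_⟩
      rw [← sub_eq_iff_eq_add']
      refine IsFractionRing.injective A L ?_
      rw [hj, map_mul, map_mul]
      congr 1
      exact (DFunLike.congr_fun (Subsingleton.elim
        ((algebraMap A L).comp ((algebraMap R A).comp (ZMod.castHom (dvd_refl p) R)))
        (ZMod.castHom (dvd_refl p) L)) j).symm
    choose ν hν using key
    refine ⟨ν, AlgEquiv.ext fun x => ?_⟩
    suffices shiftHom p a b ν = σ.toAlgHom from DFunLike.congr_fun this x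
    refine Ideal.Quotient.algHom_ext R (MvPolynomial.algHom_ext fun i => ?_)
    exact (shiftHom_mk p a b ν i).trans (hν i).symm

theorem aut_spec {n : ℕ} (a b : Fin n → R) [IsIntegrallyClosed R]
    [IsDomain (MvPolynomial (Fin n) R ⧸ eqs p (fun i => a i ^ (p - 1)) b)] (ha : ∀ i, a i ≠ 0) :
    let A := MvPolynomial (Fin n) R ⧸ eqs p (fun i => a i ^ (p - 1)) b
    Nat.card (A ≃ₐ[R] A) = p ^ n ∧ (∀ σ τ : A ≃ₐ[R] A, σ * τ = τ * σ) ∧
      (∀ σ : A ≃ₐ[R] A, σ ^ p = 1) ∧
      ∀ x : A, (∀ σ : A ≃ₐ[R] A, σ x = x) ↔ x ∈ Set.range (algebraMap R A) := by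
  intro A
  haveI : Nontrivial R := CharP.nontrivial_of_char_ne_one hp.out.ne_one (R := R) (v := p)
  obtain ⟨hfree, hrank⟩ := free_finrank_fin (R := R) hp.out.two_le (fun i => a i ^ (p - 1)) b
  haveI : Module.Finite R A := finite hp.out.two_le _ _
  haveI : FaithfulSMul R A := by
    haveI : Nontrivial A := inferInstance
    infer_instance
  haveI : IsDomain R := (FaithfulSMul.algebraMap_injective R A).isDomain
  have hbij := shift_bijective p a b ha
  have hcard : Nat.card (A ≃ₐ[R] A) = p ^ n := by
    rw [← Nat.card_congr (Equiv.ofBijective _ hbij)]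
    simp
  refine ⟨hcard, fun σ τ => ?_, fun σ => ?_, fun x => ⟨fun hx => ?_, ?_⟩⟩
  · obtain ⟨ν, rfl⟩ := hbij.2 σ
    obtain ⟨μ, rfl⟩ := hbij.2 τ
    rw [← shift_add, ← shift_add, add_comm]
  · obtain ⟨ν, rfl⟩ := hbij.2 σ
    have h : ∀ m : ℕ, shift p a b ν ^ m = shift p a b (m • ν) := by
      intro m
      induction m with
      | zero => rw [zero_smul, pow_zero, shift_zero]
      | succ m ih => rw [succ_nsmul, shift_add, pow_succ, ih]
    rw [h, ← shift_zero p a b]
    congr 1
    ext i
    simp
  · letI : Algebra (FractionRing R) (FractionRing A) := FractionRing.liftAlgebra R (FractionRing A)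
    set K := FractionRing R
    set L := FractionRing A
    have hr := IsFractionRing.finrank_eq R K A L
    haveI : FiniteDimensional K L :=
      Module.finite_of_finrank_pos (by rw [hr, hrank]; exact pow_pos hp.out.pos _)
    let F := IsFractionRing.fieldEquivOfAlgEquiv (A := R) (B := A) (C := A) K L L
    have hinj : Function.Injective F := fun f g h => AlgEquiv.ext fun y =>
      IsFractionRing.injective A L (by
        rw [← IsFractionRing.fieldEquivOfAlgEquiv_algebraMap K L L f y,
          ← IsFractionRing.fieldEquivOfAlgEquiv_algebraMap K L L g y]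
        exact DFunLike.congr_fun h _)
    have hle : Nat.card Gal(L/K) ≤ Module.finrank K L := by
      rw [Nat.card_eq_fintype_card]; exact AlgEquiv.card_le
    have hge : Module.finrank K L ≤ Nat.card (A ≃ₐ[R] A) := le_of_eq (by rw [hcard, hr, hrank])
    have hAK : Nat.card (A ≃ₐ[R] A) ≤ Nat.card Gal(L/K) := Nat.card_le_card_of_injective F hinj
    haveI : IsGalois K L := IsGalois.of_card_aut_eq_finrank K L (le_antisymm hle (hge.trans hAK))
    have hsurj : Function.Surjective F :=
      (hinj.bijective_of_nat_card_le (hle.trans hge)).2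
    have hfix : algebraMap A L x ∈ (⊥ : IntermediateField K L) := by
      rw [IsGalois.mem_bot_iff_fixed]
      intro f
      obtain ⟨σ, rfl⟩ := hsurj f
      rw [IsFractionRing.fieldEquivOfAlgEquiv_algebraMap, hx σ]
    obtain ⟨y, hy⟩ := IntermediateField.mem_bot.1 hfix
    have hint : IsIntegral R y := by
      refine (isIntegral_algebraMap_iff (algebraMap K L).injective).1 ?_
      rw [hy]
      exact (Algebra.IsIntegral.isIntegral x).algebraMap
    obtain ⟨r, rfl⟩ := IsIntegrallyClosed.isIntegral_iff.1 hint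
    refine ⟨r, IsFractionRing.injective A L ?_⟩
    rw [← hy, ← IsScalarTower.algebraMap_apply, ← IsScalarTower.algebraMap_apply]
  · rintro ⟨r, rfl⟩ σ
    exact σ.commutes r

end Groth.Agent.ASFamily
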