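import Groth.Agent.CAlgReg.AusBuch
import Groth.Agent.Depth.SeqDepth
import Mathlib.RingTheory.Length
import Mathlib.Algebra.Ring.Action.Basic

/-!
Lengths of quotients by norms.
-/

universe u v

namespace Groth.Agent.WildQuotGal

open IsLocalRing RingTheory.Sequence

variable {A : Type u} [CommRing A]

/-- length of the quotient -/
noncomputable def qlen (J : Ideal A) : ℕ∞ := Module.length A (A ⧸ J)

theorem qlen_mul (J : Ideal A) (a b : A) :
    qlen (J ⊔ Ideal.span {a * b}) ≤ qlen (J ⊔ Ideal.span {b}) + qlen (J ⊔ Ideal.span {a}) ∧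
      ((∀ x, a * x ∈ J → x ∈ J) →
        qlen (J ⊔ Ideal.span {a * b}) = qlen (J ⊔ Ideal.span {b}) + qlen (J ⊔ Ideal.span {a})) := by
  set Jab : Submodule A A := J ⊔ Ideal.span {a * b}
  set Jb : Submodule A A := J ⊔ Ideal.span {b}
  set Ja : Submodule A A := J ⊔ Ideal.span {a}
  have hf : Jb ≤ Submodule.comap (LinearMap.mulLeft A a) Jab := by
    refine sup_le (fun x hx => Submodule.mem_sup_left (J.mul_mem_left a hx)) ?_
    rw [Ideal.span_le]
    rintro x rfl
    exact Submodule.mem_sup_right (Ideal.subset_span rfl)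
  let f : (A ⧸ Jb) →ₗ[A] A ⧸ Jab := Submodule.mapQ Jb Jab (LinearMap.mulLeft A a) hf
  have hg : Jab ≤ Ja := sup_le le_sup_left (le_sup_of_le_right
    ((Ideal.span_singleton_le_iff_mem _).2 (Ideal.mul_mem_right _ _ (Ideal.subset_span rfl))))
  let g : (A ⧸ Jab) →ₗ[A] A ⧸ Ja := Submodule.factor hg
  have hex : Function.Exact (LinearMap.range f).subtype g := by
    rw [LinearMap.exact_iff, Submodule.range_subtype]
    ext y
    obtain ⟨y, rfl⟩ := Submodule.Quotient.mk_surjective _ y
    have hgy : g (Submodule.Quotient.mk y) = 0 ↔ y ∈ Ja := Submodule.Quotient.mk_eq_zero Ja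
    rw [LinearMap.mem_ker, hgy, LinearMap.mem_range]
    constructor
    · intro hy
      obtain ⟨j, hj, x, hx, rfl⟩ := Submodule.mem_sup.1 hy
      obtain ⟨t, rfl⟩ := Ideal.mem_span_singleton'.1 hx
      refine ⟨Submodule.Quotient.mk t, ?_⟩
      show Submodule.Quotient.mk (LinearMap.mulLeft A a t) = _
      rw [Submodule.Quotient.eq]
      refine Submodule.mem_sup_left ?_
      simp only [LinearMap.mulLeft_apply]
      rw [show a * t - (j + t * a) = -j by ring]
      exact J.neg_mem hj
    · rintro ⟨t, ht⟩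
      obtain ⟨t, rfl⟩ := Submodule.Quotient.mk_surjective _ t
      change Submodule.Quotient.mk (LinearMap.mulLeft A a t) = Submodule.Quotient.mk y at ht
      rw [Submodule.Quotient.eq] at ht
      have h1 := Ja.sub_mem (Submodule.mem_sup_right (Ideal.mul_mem_right t _ (Ideal.subset_span rfl)) : a * t ∈ Ja)
        (hg ht)
      simpa using h1
  have hsum : qlen (J ⊔ Ideal.span {a * b}) = Module.length A (LinearMap.range f) + qlen (J ⊔ Ideal.span {a}) :=
    Module.length_eq_add_of_exact (LinearMap.range f).subtype g (Submodule.injective_subtype _)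
      (Submodule.factor_surjective hg) hex
  refine ⟨?_, fun hreg => ?_⟩
  · rw [hsum]
    exact add_le_add (Module.length_le_of_surjective f.rangeRestrict f.surjective_rangeRestrict) le_rfl
  · have hinj : Function.Injective f := by
      rw [← LinearMap.ker_eq_bot, eq_bot_iff]
      intro x hx
      obtain ⟨x, rfl⟩ := Submodule.Quotient.mk_surjective _ x
      rw [LinearMap.mem_ker] at hx
      change Submodule.Quotient.mk (LinearMap.mulLeft A a x) = 0 at hx
      rw [Submodule.Quotient.mk_eq_zero] at hx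
      rw [Submodule.mem_bot, Submodule.Quotient.mk_eq_zero]
      obtain ⟨j, hj, y, hy, hxy⟩ := Submodule.mem_sup.1 hx
      obtain ⟨t, rfl⟩ := Ideal.mem_span_singleton'.1 hy
      have h1 : a * (x - t * b) ∈ J := by
        rw [show a * (x - t * b) = j by simp only [LinearMap.mulLeft_apply] at hxy; linear_combination -hxy]
        exact hj
      have h2 : x = (x - t * b) + t * b := by ring
      rw [h2]
      exact Jb.add_mem (Submodule.mem_sup_left (hreg _ h1))
        (Submodule.mem_sup_right (Ideal.mem_span_singleton'.2 ⟨t, rfl⟩))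
    rw [hsum, ← (LinearEquiv.ofInjective f hinj).length_eq]
    rfl

theorem qlen_prod {κ : Type*} (J : Ideal A) (s : Finset κ) (f : κ → A) :
    qlen (J ⊔ Ideal.span {∏ i ∈ s, f i}) ≤ ∑ i ∈ s, qlen (J ⊔ Ideal.span {f i}) ∧
      ((∀ i ∈ s, ∀ x, f i * x ∈ J → x ∈ J) →
        qlen (J ⊔ Ideal.span {∏ i ∈ s, f i}) = ∑ i ∈ s, qlen (J ⊔ Ideal.span {f i})) := by
  classical
  induction s using Finset.induction_on with
  | empty =>
    have h : qlen (J ⊔ Ideal.span {(1 : A)}) = 0 := by
      rw [Ideal.span_singleton_one, sup_top_eq]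
      haveI : Subsingleton (A ⧸ (⊤ : Ideal A)) := Ideal.Quotient.subsingleton_iff.2 rfl
      exact Module.length_eq_zero
    simp only [Finset.prod_empty, Finset.sum_empty, h]
    exact ⟨le_rfl, fun _ => trivial⟩
  | insert i s hi ih =>
    rw [Finset.prod_insert hi, Finset.sum_insert hi, add_comm]
    refine ⟨(qlen_mul J (f i) _).1.trans (add_le_add ih.1 le_rfl), fun h => ?_⟩
    rw [(qlen_mul J (f i) _).2 (h i (Finset.mem_insert_self _ _)),
      ih.2 fun l hl => h l (Finset.mem_insert_of_mem hl)]

variable {G : Type v} [Group G] [Fintype G] [MulSemiringAction G A] {n : ℕ} (u : Fin n → A)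

/-- partly normed sequence -/
noncomputable def mixed (S : Finset (Fin n)) (τ : Fin n → G) : Fin n → A :=
  fun i => if i ∈ S then ∏ σ : G, σ • u i else τ i • u i

theorem span_range_eq_sup (x : Fin n → A) (i : Fin n) :
    Ideal.span (Set.range x) = Ideal.span (x '' {j | j ≠ i}) ⊔ Ideal.span {x i} := by
  rw [← Ideal.span_union]
  congr 1
  ext z
  simp only [Set.mem_range, Set.mem_union, Set.mem_image, Set.mem_setOf_eq, Set.mem_singleton_iff]
  constructor
  · rintro ⟨j, rfl⟩
    by_cases h : j = i
    · exact Or.inr (h ▸ rfl)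
    · exact Or.inl ⟨j, h, rfl⟩
  · rintro (⟨j, -, rfl⟩ | rfl)
    · exact ⟨j, rfl⟩
    · exact ⟨i, rfl⟩

theorem span_mixed_insert (S : Finset (Fin n)) {i : Fin n} (hi : i ∉ S) (τ : Fin n → G) (σ : G) :
    Ideal.span (Set.range (mixed u S (Function.update τ i σ))) =
      Ideal.span (mixed u (insert i S) τ '' {j | j ≠ i}) ⊔ Ideal.span {σ • u i} := by
  classical
  rw [span_range_eq_sup _ i]
  congr 2
  · refine Set.image_congr fun j hj => ?_
    have hj' : j ≠ i := hj
    simp [mixed, hj', Function.update_of_ne hj']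
  · simp [mixed, hi]

theorem length_mixed_le (hu : ∀ τ : Fin n → G, qlen (Ideal.span (Set.range fun i => τ i • u i)) ≤ 1)
    (S : Finset (Fin n)) : ∀ τ : Fin n → G,
      qlen (Ideal.span (Set.range (mixed u S τ))) ≤ ((Fintype.card G ^ S.card : ℕ) : ℕ∞) := by
  classical
  induction S using Finset.induction_on with
  | empty =>
    intro τ
    have h : mixed u ∅ τ = fun i => τ i • u i := by funext i; simp [mixed]
    rw [h, Finset.card_empty, pow_zero, Nat.cast_one]
    exact hu τ
  | insert i S hi ih =>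
    intro τ
    rw [span_range_eq_sup _ i]
    have h1 : mixed u (insert i S) τ i = ∏ σ : G, σ • u i := by simp [mixed]
    rw [h1]
    refine (qlen_prod _ _ _).1.trans ?_
    calc ∑ σ : G, qlen (Ideal.span (mixed u (insert i S) τ '' {j | j ≠ i}) ⊔ Ideal.span {σ • u i})
        ≤ ∑ _σ : G, ((Fintype.card G ^ S.card : ℕ) : ℕ∞) := Finset.sum_le_sum fun σ _ => by
          rw [← span_mixed_insert u S hi τ σ]; exact ih _
      _ = _ := by rw [Finset.sum_const, Finset.card_univ, Finset.card_insert_of_notMem hi, pow_succ', nsmul_eq_mul]; push_cast; ring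

theorem radical_mixed (P : Ideal A) [hP : P.IsPrime] (S : Finset (Fin n)) (τ : Fin n → G)
    (h : ∀ i, mixed u S τ i ∈ P) : ∃ τ' : Fin n → G, ∀ i, τ' i • u i ∈ P := by
  classical
  have : ∀ i, ∃ σ : G, σ • u i ∈ P := fun i => by
    have hi := h i
    simp only [mixed] at hi
    split_ifs at hi with h'
    · obtain ⟨σ, -, hσ⟩ := (Ideal.IsPrime.prod_mem_iff (p := P)).1 hi
      exact ⟨σ, hσ⟩
    · exact ⟨_, hi⟩
  choose τ' hτ' using this
  exact ⟨τ', hτ'⟩

theorem isSMulRegular_of_sop [IsRegularLocalRing A] (hn : ringKrullDim A = n) (x : Fin n → A)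
    (hx : ∀ i, x i ∈ maximalIdeal A) (hrad : maximalIdeal A ≤ (Ideal.span (Set.range x)).radical) (i : Fin n)
    (z : A) (hz : x i * z ∈ Ideal.span (x '' {j | j ≠ i})) : z ∈ Ideal.span (x '' {j | j ≠ i}) := by
  classical
  set l := ((Finset.univ.erase i).toList.map x) with hl
  have hlspan : Ideal.ofList l = Ideal.span (x '' {j | j ≠ i}) := by
    rw [Ideal.ofList]; congr 1; ext w; simp [l]
  have hmem : ∀ w ∈ l ++ [x i], w ∈ maximalIdeal A := by
    intro w hw
    rcases List.mem_append.1 hw with hw | hw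
    · obtain ⟨j, -, rfl⟩ := List.mem_map.1 hw; exact hx j
    · rw [List.mem_singleton.1 hw]; exact hx i
  have hall : Ideal.ofList (l ++ [x i]) = Ideal.span (Set.range x) := by
    rw [Ideal.ofList_append, Ideal.ofList_singleton, hlspan, ← span_range_eq_sup]
  have hreg : IsWeaklyRegular A (l ++ [x i]) := by
    refine (Depth.idealDepth_ofList_eq_length_iff _ hmem).1 ?_
    have hradeq : (Ideal.ofList (l ++ [x i])).radical = (maximalIdeal A).radical := by
      rw [hall, (maximalIdeal.isMaximal A).isPrime.radical]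
      refine le_antisymm ((Ideal.IsPrime.radical_le_iff inferInstance).2 (Ideal.span_le.2 ?_)) hrad
      rintro _ ⟨j, rfl⟩; exact hx j
    rw [Depth.idealDepth_eq_of_radical_eq hradeq A]
    have hlen : (l ++ [x i]).length = n := by
      simp [l, Finset.card_erase_of_mem]
      have := i.2; omega
    rw [hlen]
    exact CAlgReg.depth_self_eq_dim hn
  have h := ((isWeaklyRegular_append_iff A l [x i]).1 hreg).2
  rw [isWeaklyRegular_singleton_iff] at h
  have hmk : ∀ w : A, (Submodule.Quotient.mk w : A ⧸ Ideal.ofList l • (⊤ : Submodule A A)) = 0 ↔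
      w ∈ Ideal.span (x '' {j | j ≠ i}) := fun w => by
    rw [Submodule.Quotient.mk_eq_zero, smul_eq_mul, Ideal.mul_top, hlspan]
  refine (hmk z).1 (h.right_eq_zero_of_smul ?_)
  rw [← Submodule.Quotient.mk_smul, hmk, smul_eq_mul]
  exact hz

theorem le_length_mixed [IsRegularLocalRing A] (hn : ringKrullDim A = n)
    (hm : ∀ (σ : G) (i), σ • u i ∈ maximalIdeal A)
    (hwa : ∀ τ : Fin n → G, maximalIdeal A ≤ (Ideal.span (Set.range fun i => τ i • u i)).radical)
    (S : Finset (Fin n)) : ∀ τ : Fin n → G,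
      ((Fintype.card G ^ S.card : ℕ) : ℕ∞) ≤ qlen (Ideal.span (Set.range (mixed u S τ))) := by
  classical
  induction S using Finset.induction_on with
  | empty =>
    intro τ
    rw [Finset.card_empty, pow_zero, Nat.cast_one, Order.one_le_iff_ne_zero]
    intro h
    rw [qlen, Module.length_eq_zero_iff] at h
    have htop := Ideal.Quotient.subsingleton_iff.1 h
    refine (maximalIdeal.isMaximal A).ne_top (top_le_iff.1 (htop ▸ Ideal.span_le.2 ?_))
    rintro _ ⟨i, rfl⟩
    simpa [mixed] using hm (τ i) i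
  | insert i S hi ih =>
    intro τ
    rw [span_range_eq_sup _ i]
    have h1 : mixed u (insert i S) τ i = ∏ σ : G, σ • u i := by simp [mixed]
    rw [h1, (qlen_prod _ _ _).2 ?_]
    · calc ((Fintype.card G ^ (insert i S).card : ℕ) : ℕ∞) = ∑ _σ : G, ((Fintype.card G ^ S.card : ℕ) : ℕ∞) := by
            rw [Finset.sum_const, Finset.card_univ, Finset.card_insert_of_notMem hi, pow_succ', nsmul_eq_mul]; push_cast; ring
        _ ≤ _ := Finset.sum_le_sum fun σ _ => by rw [← span_mixed_insert u S hi τ σ]; exact ih _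
    · intro σ _ z hz
      have hxm : ∀ j, mixed u S (Function.update τ i σ) j ∈ maximalIdeal A := fun j => by
        simp only [mixed]
        split_ifs
        · rw [← Finset.prod_erase_mul _ _ (Finset.mem_univ (1 : G))]
          exact Ideal.mul_mem_left _ _ (hm 1 j)
        · exact hm _ _
      have himg : mixed u (insert i S) τ '' {j | j ≠ i}
          = mixed u S (Function.update τ i σ) '' {j | j ≠ i} := Set.image_congr fun j hj => by
        have hj' : j ≠ i := hj
        simp [mixed, hj', Function.update_of_ne hj']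
      have hii : mixed u S (Function.update τ i σ) i = σ • u i := by simp [mixed, hi]
      rw [himg] at hz ⊢
      refine isSMulRegular_of_sop hn _ hxm ?_ i z (by rwa [hii])
      rw [Ideal.radical_eq_sInf]
      refine le_sInf fun P ⟨hP, hPp⟩ => ?_
      haveI := hPp
      obtain ⟨τ', hτ'⟩ := radical_mixed u P S _ fun j => hP (Ideal.subset_span ⟨j, rfl⟩)
      refine (hwa τ').trans ((Ideal.IsPrime.radical_le_iff hPp).2 (Ideal.span_le.2 ?_))
      rintro _ ⟨j, rfl⟩
      exact hτ' j

theorem mixed_univ (τ : Fin n → G) : mixed u Finset.univ τ = fun i => ∏ σ : G, σ • u i := by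
  funext i; simp [mixed]

end Groth.Agent.WildQuotGal
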