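import Groth.Agent.CAlgReg.Basic

/-!
Admissible systems of parameters and triangular actions.
-/

namespace Groth.Agent.WildQuotGal

open IsLocalRing

universe u v

variable {A : Type u} [CommRing A] [IsRegularLocalRing A] {G : Type v} [Group G] [Finite G]
  [MulSemiringAction G A]

theorem mem_sup_of_le {R : Type*} [CommRing R] {I J K : Ideal R} (h : I ≤ J) {x : R} (hx : x ∈ I ⊔ K) : x ∈ J ⊔ K :=
  (sup_le_sup_right h K : I ⊔ K ≤ J ⊔ K) hx

omit [Finite G] in
theorem smul_mem_maximalIdeal (σ : G) {x : A} (hx : x ∈ maximalIdeal A) : σ • x ∈ maximalIdeal A := by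
  rw [mem_maximalIdeal] at hx ⊢
  intro h
  exact hx (by simpa using h.map (MulSemiringAction.toRingHom G A σ⁻¹))

omit [Finite G] in
theorem smul_mem_sq (σ : G) {x : A} (hx : x ∈ maximalIdeal A ^ 2) : σ • x ∈ maximalIdeal A ^ 2 := by
  have h : (maximalIdeal A ^ 2).map (MulSemiringAction.toRingHom G A σ) ≤ maximalIdeal A ^ 2 := by
    rw [Ideal.map_pow]
    exact Ideal.pow_right_mono (Ideal.map_le_iff_le_comap.2 fun _ h => Ideal.mem_comap.2 (smul_mem_maximalIdeal σ h)) 2
  exact h (Ideal.mem_map_of_mem _ hx)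

/-- An element of a minimal generating system is not in the ideal of the others plus `m²`. -/
theorem notMem_span_others {n : ℕ} (hn : ringKrullDim A = n) (u : Fin n → A)
    (hu : Ideal.span (Set.range u) = maximalIdeal A) (i : Fin n) :
    u i ∉ Ideal.span (u '' {j | j ≠ i}) ⊔ maximalIdeal A ^ 2 := by
  classical
  intro h
  have hm : maximalIdeal A ≤ Ideal.span (u '' {j | j ≠ i}) := by
    refine Submodule.le_of_le_smul_of_le_jacobson_bot (maximalIdeal A).fg_of_isNoetherianRing
      (maximalIdeal_le_jacobson _) ?_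
    rw [smul_eq_mul, ← pow_two]
    conv_lhs => rw [← hu]
    rw [Ideal.span_le]
    rintro _ ⟨j, rfl⟩
    by_cases hj : j = i
    · exact hj ▸ h
    · exact Ideal.mem_sup_left (Ideal.subset_span ⟨j, hj, rfl⟩)
  have he : Ideal.span (u '' {j | j ≠ i}) = maximalIdeal A :=
    le_antisymm (hu ▸ Ideal.span_mono (Set.image_subset_range _ _)) hm
  have h1 := CAlgReg.card_ge_of_span_eq hn (Set.toFinite _) he
  have h2 : (u '' {j | j ≠ i}).ncard ≤ n - 1 := by
    refine (Set.ncard_image_le (Set.toFinite _)).trans ?_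
    rw [show {j : Fin n | j ≠ i} = ({i} : Set (Fin n))ᶜ from rfl, Set.ncard_compl, Set.ncard_singleton]
    simp
  have := i.pos
  omega

theorem admissible_of_triangular {n : ℕ} (hn : ringKrullDim A = n) (u : Fin n → A)
    (hu : Ideal.span (Set.range u) = maximalIdeal A)
    (htri : ∀ (σ : G) (i : Fin n), σ • u i ∈ Ideal.span (u '' {j | j ≤ i}) ⊔ maximalIdeal A ^ 2)
    (τ : Fin n → G) : Ideal.span (Set.range fun i => τ i • u i) = maximalIdeal A := by
  classical
  set J := Ideal.span (Set.range fun i => τ i • u i) with hJ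
  have hJm : J ≤ maximalIdeal A := by
    rw [hJ, Ideal.span_le]
    rintro _ ⟨i, rfl⟩
    exact smul_mem_maximalIdeal _ (hu ▸ Ideal.subset_span ⟨i, rfl⟩)
  suffices h : ∀ (k : ℕ) (i : Fin n), (i : ℕ) = k → u i ∈ J ⊔ maximalIdeal A ^ 2 by
    refine le_antisymm hJm (Submodule.le_of_le_smul_of_le_jacobson_bot (maximalIdeal A).fg_of_isNoetherianRing
      (maximalIdeal_le_jacobson _) ?_)
    rw [smul_eq_mul, ← pow_two]
    conv_lhs => rw [← hu]
    rw [Ideal.span_le]
    rintro _ ⟨i, rfl⟩
    exact h _ i rfl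
  intro k
  induction k using Nat.strong_induction_on with
  | _ k ih =>
    intro i hi
    set V := Ideal.span (u '' {j | j < i}) ⊔ maximalIdeal A ^ 2 with hV
    have hVJ : V ≤ J ⊔ maximalIdeal A ^ 2 := by
      refine sup_le (Ideal.span_le.2 ?_) le_sup_right
      rintro _ ⟨j, hj, rfl⟩
      exact ih j (hi ▸ hj) j rfl
    have hle : Ideal.span (u '' {j | j ≤ i}) ⊔ maximalIdeal A ^ 2 = Ideal.span {u i} ⊔ V := by
      rw [hV, ← sup_assoc, ← Ideal.span_union, ← Set.image_singleton (f := u), ← Set.image_union]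
      congr 3
      ext j
      simp [le_iff_eq_or_lt]
    obtain ⟨c, v, hv, hcv⟩ : ∃ c v, v ∈ V ∧ τ i • u i = c * u i + v := by
      have := htri (τ i) i
      rw [hle, Submodule.mem_sup] at this
      obtain ⟨a, ha, b, hb, hab⟩ := this
      obtain ⟨c, rfl⟩ := Ideal.mem_span_singleton'.1 ha
      exact ⟨c, b, hb, hab.symm⟩
    have hVG : ∀ (σ : G) {x : A}, x ∈ V → σ • x ∈ V := by
      intro σ x hx
      have h : V.map (MulSemiringAction.toRingHom G A σ) ≤ V := by
        rw [hV, Ideal.map_sup, Ideal.map_span]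
        refine sup_le (Ideal.span_le.2 ?_) ?_
        · rintro _ ⟨_, ⟨j, hj, rfl⟩, rfl⟩
          refine mem_sup_of_le (Ideal.span_mono (Set.image_mono ?_)) (htri σ j)
          exact fun l (hl : l ≤ j) => lt_of_le_of_lt hl hj
        · exact le_trans (Ideal.map_le_iff_le_comap.2 fun y hy => Ideal.mem_comap.2 (smul_mem_sq σ hy)) le_sup_right
      exact h (Ideal.mem_map_of_mem _ hx)
    by_cases hc : IsUnit c
    · have h1 : c * u i ∈ J ⊔ maximalIdeal A ^ 2 := by
        rw [show c * u i = τ i • u i - v by rw [hcv]; ring]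
        exact Ideal.sub_mem _ (Ideal.mem_sup_left (Ideal.subset_span ⟨i, rfl⟩)) (hVJ hv)
      exact (Ideal.unit_mul_mem_iff_mem _ hc).1 h1
    · exfalso
      have h1 : τ i • u i ∈ V := by
        rw [hcv]
        refine Ideal.add_mem _ (Ideal.mem_sup_right ?_) hv
        rw [pow_two]
        exact Ideal.mul_mem_mul ((mem_maximalIdeal _).2 hc) (hu ▸ Ideal.subset_span ⟨i, rfl⟩)
      have h2 : ∀ m, τ i ^ (m + 1) • u i ∈ V := by
        intro m
        induction m with
        | zero => simpa using h1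
        | succ m ihm => rw [pow_succ', mul_smul]; exact hVG _ ihm
      have h3 := h2 (orderOf (τ i) - 1)
      rw [Nat.sub_add_cancel (orderOf_pos (τ i)), pow_orderOf_eq_one, one_smul] at h3
      refine notMem_span_others hn u hu i (mem_sup_of_le (Ideal.span_mono (Set.image_mono ?_)) h3)
      exact fun l (hl : l < i) => ne_of_lt hl

theorem exists_fixed_mod {p : ℕ} [Fact p.Prime] [CharP A p] (hG : IsPGroup p G) (J : Ideal A)
    (hJG : ∀ (σ : G) {x : A}, x ∈ J → σ • x ∈ J) (hJ : ¬ maximalIdeal A ≤ J) :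
    ∃ x ∈ maximalIdeal A, x ∉ J ∧ ∀ σ : G, σ • x - x ∈ J := by
  classical
  have : Fintype G := Fintype.ofFinite G
  obtain ⟨v, hv, hvJ⟩ := SetLike.not_le_iff_exists.1 hJ
  letI : MulAction G (A ⧸ J) :=
    { smul := fun σ => Ideal.quotientMap J (MulSemiringAction.toRingHom G A σ) (fun _ h => Ideal.mem_comap.2 (hJG σ h))
      one_smul := fun q => by
        obtain ⟨a, rfl⟩ := Ideal.Quotient.mk_surjective q
        exact congrArg (Ideal.Quotient.mk J) (one_smul G a)
      mul_smul := fun σ τ q => by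
        obtain ⟨a, rfl⟩ := Ideal.Quotient.mk_surjective q
        exact congrArg (Ideal.Quotient.mk J) (mul_smul σ τ a) }
  let χ : ZMod p →+* A := ZMod.castHom dvd_rfl A
  have hχ : ∀ (σ : G) (c : ZMod p), σ • χ c = χ c := fun σ c =>
    RingHom.congr_fun (Subsingleton.elim ((MulSemiringAction.toRingHom G A σ).comp χ) χ) c
  let E : (G → ZMod p) →+ A ⧸ J :=
    { toFun := fun f => Ideal.Quotient.mk J (∑ g, χ (f g) * g • v)
      map_zero' := by simp
      map_add' := fun f f' => by simp [add_mul, Finset.sum_add_distrib] }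
  let S : SubMulAction G (A ⧸ J) :=
    { carrier := Set.range E
      smul_mem' := by
        rintro σ _ ⟨f, rfl⟩
        refine ⟨fun g => f (σ⁻¹ * g), ?_⟩
        show Ideal.Quotient.mk J _ = Ideal.Quotient.mk J (σ • ∑ g, χ (f g) * g • v)
        congr 1
        rw [Finset.smul_sum, ← Equiv.sum_comp (Equiv.mulLeft σ)]
        simp [smul_mul', hχ, mul_smul] }
  haveI : Finite S := (Set.finite_range E).to_subtype
  have hnt : Nontrivial E.range := by
    refine ⟨⟨⟨E (Pi.single 1 1), ⟨_, rfl⟩⟩, 0, fun h => hvJ (Ideal.Quotient.eq_zero_iff_mem.1 ?_)⟩⟩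
    have h' : E (Pi.single 1 1) = 0 := congrArg Subtype.val h
    rw [← h']
    show _ = Ideal.Quotient.mk J _
    simp [Pi.single_apply, apply_ite χ]
  have hdvd : p ∣ Nat.card S := by
    show p ∣ Nat.card E.range
    have h1 : Nat.card E.range ∣ p ^ Nat.card G := by
      refine (AddSubgroup.card_dvd_of_surjective E.rangeRestrict E.rangeRestrict_surjective).trans ?_
      simp [Nat.card_fun]
    obtain ⟨i, -, hi⟩ := (Nat.dvd_prime_pow Fact.out).1 h1
    haveI : Finite E.range := (Set.finite_range E).to_subtype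
    have h2 : 1 < Nat.card E.range := Finite.one_lt_card
    rcases i with _ | i
    · rw [hi, pow_zero] at h2; omega
    · exact hi ▸ dvd_pow_self p i.succ_ne_zero
  obtain ⟨⟨_, f, rfl⟩, hb, hne⟩ := hG.exists_fixed_point_of_prime_dvd_card_of_fixed_point S hdvd
    (a := (⟨0, 0, map_zero E⟩ : S)) (fun σ => Subtype.ext (map_zero (Ideal.quotientMap J _ fun _ h => Ideal.mem_comap.2 (hJG σ h))))
  refine ⟨∑ g, χ (f g) * g • v, Ideal.sum_mem _ fun g _ => Ideal.mul_mem_left _ _ (smul_mem_maximalIdeal g hv),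
    fun h => hne (Subtype.ext (Ideal.Quotient.eq_zero_iff_mem.2 h).symm), fun σ => ?_⟩
  exact Ideal.Quotient.eq.1 (congrArg Subtype.val (hb σ))

omit [Finite G] in
theorem toCotangent_mem_span {s : Set A} (hs : s ⊆ maximalIdeal A) {x : A} (hx : x ∈ maximalIdeal A)
    (h : (maximalIdeal A).toCotangent ⟨x, hx⟩ ∈ Submodule.span (ResidueField A)
      ((maximalIdeal A).toCotangent '' ((↑) ⁻¹' s))) : x ∈ Ideal.span s ⊔ maximalIdeal A ^ 2 := by
  rw [← Submodule.restrictScalars_mem A, Submodule.restrictScalars_span A (ResidueField A)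
    IsLocalRing.residue_surjective, ← Submodule.map_span] at h
  obtain ⟨y, hy, hyx⟩ := Submodule.mem_map.1 h
  have h1 : (y : A) ∈ Ideal.span s := by
    have hmap : (Submodule.span A ((↑) ⁻¹' s : Set (maximalIdeal A))).map (maximalIdeal A).subtype ≤ Ideal.span s := by
      rw [Submodule.map_span]
      exact Submodule.span_mono (Set.image_preimage_subset _ _)
    exact hmap ⟨y, hy, rfl⟩
  rw [show x = (y : A) - ((y : A) - x) by ring]
  exact Ideal.sub_mem _ (Ideal.mem_sup_left h1) (Ideal.mem_sup_right ((Ideal.toCotangent_eq _).1 hyx))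

theorem exists_triangular {p : ℕ} [Fact p.Prime] [CharP A p] (hG : IsPGroup p G) {n : ℕ} (hn : ringKrullDim A = n) :
    ∃ u : Fin n → A, Ideal.span (Set.range u) = maximalIdeal A ∧
      ∀ (σ : G) (i : Fin n), σ • u i ∈ Ideal.span (u '' {j | j ≤ i}) ⊔ maximalIdeal A ^ 2 := by
  classical
  let ι := (maximalIdeal A).toCotangent
  have hfin : Module.finrank (ResidueField A) (CotangentSpace A) = n := by
    rw [← spanFinrank_maximalIdeal_eq_finrank_cotangentSpace, CAlgReg.spanFinrank_eq_of_dim hn]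
  have key : ∀ k ≤ n, ∃ u : Fin k → A, ∃ hu : ∀ i, u i ∈ maximalIdeal A,
      (∀ (σ : G) (i : Fin k), σ • u i ∈ Ideal.span (u '' {j | j ≤ i}) ⊔ maximalIdeal A ^ 2) ∧
      LinearIndependent (ResidueField A) fun i => ι ⟨u i, hu i⟩ := by
    intro k
    induction k with
    | zero => exact fun _ => ⟨Fin.elim0, fun i => i.elim0, fun _ i => i.elim0, linearIndependent_empty_type⟩
    | succ k ih =>
      intro hk
      obtain ⟨u, hu, htri, hli⟩ := ih (by omega)
      set J := Ideal.span (Set.range u) ⊔ maximalIdeal A ^ 2 with hJdef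
      have hJ : ¬ maximalIdeal A ≤ J := by
        intro hle
        have h1 : maximalIdeal A ≤ Ideal.span (Set.range u) :=
          Submodule.le_of_le_smul_of_le_jacobson_bot (maximalIdeal A).fg_of_isNoetherianRing
            (maximalIdeal_le_jacobson _) (by rw [smul_eq_mul, ← pow_two]; exact hle)
        have he := le_antisymm (Ideal.span_le.2 (by rintro _ ⟨i, rfl⟩; exact hu i)) h1
        have h2 := CAlgReg.card_ge_of_span_eq hn (Set.finite_range u) he
        have h3 : (Set.range u).ncard ≤ k := by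
          rw [← Set.image_univ]
          exact (Set.ncard_image_le (Set.toFinite _)).trans (by simp)
        omega
      have hJG : ∀ (σ : G) {x : A}, x ∈ J → σ • x ∈ J := by
        intro σ x hx
        have h : J.map (MulSemiringAction.toRingHom G A σ) ≤ J := by
          rw [hJdef, Ideal.map_sup, Ideal.map_span]
          refine sup_le (Ideal.span_le.2 ?_) ?_
          · rintro _ ⟨_, ⟨j, rfl⟩, rfl⟩
            exact mem_sup_of_le (Ideal.span_mono (Set.image_subset_range _ _)) (htri σ j)
          · exact le_trans (Ideal.map_le_iff_le_comap.2 fun y hy => Ideal.mem_comap.2 (smul_mem_sq σ hy)) le_sup_right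
        exact h (Ideal.mem_map_of_mem _ hx)
      obtain ⟨x, hxm, hxJ, hfix⟩ := exists_fixed_mod hG J hJG hJ
      refine ⟨Fin.snoc u x, Fin.lastCases (by simpa using hxm) (fun i => by simpa using hu i), ?_, ?_⟩
      · intro σ i
        induction i using Fin.lastCases with
        | last =>
          rw [Fin.snoc_last, show σ • x = x + (σ • x - x) by ring]
          refine Ideal.add_mem _ (Ideal.mem_sup_left (Ideal.subset_span ⟨Fin.last k, le_rfl (a := Fin.last k), by simp⟩))
            (mem_sup_of_le (Ideal.span_mono ?_) (hfix σ))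
          rintro _ ⟨j, rfl⟩
          exact ⟨j.castSucc, Fin.le_last _, by simp⟩
        | cast i =>
          rw [Fin.snoc_castSucc]
          refine mem_sup_of_le (Ideal.span_mono ?_) (htri σ i)
          rintro _ ⟨j, hj, rfl⟩
          exact ⟨j.castSucc, Fin.castSucc_le_castSucc_iff.2 hj, by simp⟩
      · have heq : (fun i : Fin (k + 1) => ι ⟨(Fin.snoc u x : Fin (k + 1) → A) i,
            Fin.lastCases (motive := fun i => (Fin.snoc u x : Fin (k + 1) → A) i ∈ maximalIdeal A)
              (by simpa using hxm) (fun i => by simpa using hu i) i⟩) = Fin.snoc (fun i => ι ⟨u i, hu i⟩) (ι ⟨x, hxm⟩) := by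
          funext i
          induction i using Fin.lastCases with
          | last => simp
          | cast i => simp
        rw [heq, linearIndependent_finSnoc]
        refine ⟨hli, fun h => hxJ (toCotangent_mem_span (s := Set.range u) ?_ hxm (Submodule.span_mono ?_ h))⟩
        · rintro _ ⟨i, rfl⟩
          exact hu i
        · rintro _ ⟨i, rfl⟩
          exact ⟨⟨u i, hu i⟩, ⟨i, rfl⟩, rfl⟩
  obtain ⟨u, hu, htri, hli⟩ := key n le_rfl
  refine ⟨u, ?_, htri⟩
  refine le_antisymm (Ideal.span_le.2 (by rintro _ ⟨i, rfl⟩; exact hu i)) ?_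
  refine Submodule.le_of_le_smul_of_le_jacobson_bot (maximalIdeal A).fg_of_isNoetherianRing
    (maximalIdeal_le_jacobson _) fun x hx => ?_
  rw [smul_eq_mul, ← pow_two]
  have htop := hli.span_eq_top_of_card_eq_finrank' (by rw [hfin, Fintype.card_fin])
  refine toCotangent_mem_span (by rintro _ ⟨i, rfl⟩; exact hu i) hx (Submodule.span_mono ?_ (htop.ge (Submodule.mem_top)))
  rintro _ ⟨i, rfl⟩
  exact ⟨⟨u i, hu i⟩, ⟨i, rfl⟩, rfl⟩

/-- A generating system containing `v` when `v ∈ m ∖ m²`. -/
theorem exists_generators_cons {n : ℕ} (hn : ringKrullDim A = n) {v : A} (hv : v ∈ maximalIdeal A)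
    (hv2 : v ∉ maximalIdeal A ^ 2) :
    ∃ t : Finset A, t.card < n ∧ Ideal.span (insert v ↑t : Set A) = maximalIdeal A := by
  classical
  have hfg := (maximalIdeal A).fg_of_isNoetherianRing
  obtain ⟨g, hgm⟩ : ∃ g : Fin n → A, Ideal.span (Set.range g) = maximalIdeal A := by
    obtain ⟨S, hS, hSspan⟩ := Submodule.FG.exists_span_finset_card_eq_spanFinrank hfg
    rw [CAlgReg.spanFinrank_eq_of_dim hn] at hS
    refine ⟨fun i => ((S.equivFinOfCardEq hS).symm i : A), ?_⟩
    rw [← hSspan]
    congr 1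
    ext z
    exact ⟨fun ⟨i, hi⟩ => hi ▸ ((S.equivFinOfCardEq hS).symm i).2, fun hz => ⟨S.equivFinOfCardEq hS ⟨z, hz⟩, by simp⟩⟩
  rw [← hgm] at hv
  obtain ⟨a, ha⟩ := Ideal.mem_span_range_iff_exists_fun.1 hv
  obtain ⟨i, hi⟩ : ∃ i, IsUnit (a i) := by
    by_contra h
    push Not at h
    refine hv2 (ha ▸ Ideal.sum_mem _ fun i _ => ?_)
    rw [pow_two]
    exact Ideal.mul_mem_mul ((mem_maximalIdeal _).2 (h i)) (hgm ▸ Ideal.subset_span ⟨i, rfl⟩)
  refine ⟨(Finset.univ.erase i).image g, lt_of_le_of_lt Finset.card_image_le ?_, le_antisymm ?_ ?_⟩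
  · rw [Finset.card_erase_of_mem (Finset.mem_univ i), Finset.card_univ, Fintype.card_fin]
    exact Nat.sub_lt i.pos Nat.one_pos
  · rw [Ideal.span_le]
    rintro x (rfl | hx)
    · exact hgm ▸ hv
    · obtain ⟨j, -, rfl⟩ := Finset.mem_image.1 hx
      exact hgm ▸ Ideal.subset_span ⟨j, rfl⟩
  · rw [← hgm]
    refine Ideal.span_le.2 ?_
    rintro _ ⟨j, rfl⟩
    by_cases hj : j = i
    · subst hj
      refine (Ideal.unit_mul_mem_iff_mem _ hi).1 ?_
      rw [← Finset.add_sum_erase _ _ (Finset.mem_univ j), ← eq_sub_iff_add_eq] at ha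
      rw [ha]
      exact Ideal.sub_mem _ (Ideal.subset_span (Set.mem_insert _ _)) (Ideal.sum_mem _ fun l hl =>
        Ideal.mul_mem_left _ _ (Ideal.subset_span (Set.mem_insert_of_mem _ (Finset.mem_image_of_mem g hl))))
    · exact Ideal.subset_span (Set.mem_insert_of_mem _ (Finset.mem_image_of_mem g
        (Finset.mem_erase.2 ⟨hj, Finset.mem_univ j⟩)))

omit [Finite G] in
/-- Fixed-point ideal of one automorphism is spanned by the shifts of generators. -/
theorem smul_sub_mem_span {k : Type*} [Field k] [Algebra k A] (hk : Function.Surjective (residue A ∘ algebraMap k A))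
    (σ : G) (hσk : ∀ c : k, σ • algebraMap k A c = algebraMap k A c) (s : Set A)
    (hs : Ideal.span s = maximalIdeal A) (x : A) :
    σ • x - x ∈ Ideal.span ((fun y => σ • y - y) '' s) := by
  set K := Ideal.span ((fun y => σ • y - y) '' s)
  have hj : ∀ (j : ℕ) (y : A), σ • y - y ∈ K ⊔ maximalIdeal A ^ j := by
    intro j
    induction j with
    | zero => exact fun y => by simp
    | succ j ih =>
      intro y
      obtain ⟨c, hc⟩ := hk (residue A y)
      have hm : y - algebraMap k A c ∈ Ideal.span s := by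
        rw [hs, ← residue_eq_zero_iff, map_sub, sub_eq_zero]; exact hc.symm
      have e : σ • y - y = σ • (y - algebraMap k A c) - (y - algebraMap k A c) := by
        rw [smul_sub, hσk]; ring
      rw [e]
      generalize y - algebraMap k A c = z at hm
      induction hm using Submodule.span_induction with
      | mem z hz => exact Ideal.mem_sup_left (Ideal.subset_span ⟨z, hz, rfl⟩)
      | zero => simp
      | add a b _ _ ha hb => rw [smul_add, add_sub_add_comm]; exact Ideal.add_mem _ ha hb
      | smul a b hb hb' =>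
        rw [smul_eq_mul, smul_mul', show σ • a * σ • b - a * b = (σ • a - a) * σ • b + a * (σ • b - b) by ring]
        refine Ideal.add_mem _ ?_ (Ideal.mul_mem_left _ _ hb')
        have h1 := Ideal.mul_mem_mul (ih a) (smul_mem_maximalIdeal σ (hs ▸ hb : b ∈ maximalIdeal A))
        rw [Ideal.sup_mul, ← pow_succ] at h1
        exact mem_sup_of_le Ideal.mul_le_left h1
  by_cases hK : K = ⊤
  · rw [hK]; exact Submodule.mem_top
  haveI : Nontrivial (A ⧸ K) := Ideal.Quotient.nontrivial_iff.2 hK
  have : IsLocalRing (A ⧸ K) := .of_surjective' (Ideal.Quotient.mk K) Ideal.Quotient.mk_surjective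
  rw [← Ideal.Quotient.eq_zero_iff_mem, ← Ideal.mem_bot,
    ← Ideal.iInf_pow_eq_bot_of_isLocalRing (maximalIdeal (A ⧸ K)) (maximalIdeal.isMaximal _).ne_top]
  refine Submodule.mem_iInf _ |>.2 fun j => ?_
  have h1 := Ideal.mem_map_of_mem (Ideal.Quotient.mk K) (hj j x)
  rw [Ideal.map_sup, Ideal.map_quotient_self, bot_sup_eq, Ideal.map_pow] at h1
  haveI : IsLocalHom (Ideal.Quotient.mk K) := IsLocalHom.of_surjective _ Ideal.Quotient.mk_surjective
  exact Ideal.pow_right_mono (((local_hom_TFAE (Ideal.Quotient.mk K)).out 0 2).1 ‹IsLocalHom (Ideal.Quotient.mk K)›) j h1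

end Groth.Agent.WildQuotGal
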