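import Groth.Agent.WildQuotGal.ASExt
import Groth.Agent.WildQuotGal.Invariants
import Groth.Agent.WildQuotGal.Length

/-!
The norm subring: finiteness and separability.
-/

universe u v w

namespace Groth.Agent.WildQuotGal

open IsLocalRing

theorem exists_local_slope {A : Type*} [CommRing A] {G : Type*} [Group G] [Fintype G] [MulSemiringAction G A]
    (p : ℕ) [Fact p.Prime] [CharP A p] (hcard : Nat.card G = p) (g : G) (hg : g ≠ 1) (P : Ideal A) [P.IsPrime]
    (hP : P.inertia G = ⊥) : ∃ n t : A, (∀ h : G, h • t = t) ∧ t ∉ P ∧ g • n = n - t := by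
  classical
  obtain ⟨a, ha⟩ := trace_notMem P hP
  have hord : orderOf g = p := by
    have := orderOf_dvd_natCard g
    rw [hcard] at this
    exact ((Nat.dvd_prime (Fact.out : p.Prime)).1 this).resolve_left fun h => hg (orderOf_eq_one_iff.1 h)
  have htf : ∀ h : G, h • (∑ h : G, h • a) = ∑ h : G, h • a := fun h => by
    rw [Finset.smul_sum]
    simp only [← mul_smul]
    exact Equiv.sum_comp (Equiv.mulLeft h) fun h => h • a
  refine ⟨∑ i ∈ Finset.range p, (i : A) * g ^ i • a, ∑ h : G, h • a, htf, ha, eq_sub_of_add_eq ?_⟩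
  have ht : (∑ h : G, h • a) = ∑ i ∈ Finset.range p, g ^ i • a := by
    rw [← hord, ← IsCyclic.image_range_orderOf (a := g)
      (fun x => (zpowers_eq_top_of_prime_card hcard hg).symm ▸ Subgroup.mem_top x),
      Finset.sum_image fun i hi j hj h => pow_injOn_Iio_orderOf (Finset.mem_range.1 hi) (Finset.mem_range.1 hj) h]
  rw [← htf g, ht, Finset.smul_sum, Finset.smul_sum, ← Finset.sum_add_distrib]
  have e1 : ∀ i ∈ Finset.range p, g • ((i : A) * g ^ i • a) + g • g ^ i • a = ((i + 1 : ℕ) : A) * g ^ (i + 1) • a := by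
    intro i _
    rw [smul_mul', ← MulSemiringAction.toRingHom_apply G A g (i : A), map_natCast, pow_succ', mul_smul]
    push_cast
    ring
  rw [Finset.sum_congr rfl e1]
  have h2 := Finset.sum_range_succ' (fun i : ℕ => (i : A) * g ^ i • a) p
  rw [Finset.sum_range_succ, CharP.cast_eq_zero, Nat.cast_zero, zero_mul, zero_mul, add_zero, add_zero] at h2
  exact h2.symm

theorem slope_identity {L : Type*} [Field L] (q : ℕ) (N T : L) (hT : T ≠ 0) :
    (N / T) ^ (q + 1) - N / T = (N ^ (q + 1) - N * T ^ q) / T ^ (q + 1) := by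
  rw [div_pow, sub_div, pow_succ T, mul_comm (T ^ q) T, mul_div_mul_right _ _ (pow_ne_zero _ hT)]

theorem telescope {L : Type*} [Field L] {p : ℕ} [Fact p.Prime] [CharP L p] (x : L) (j : ℕ) :
    (∑ i ∈ Finset.range j, x ^ p ^ i) ^ p - (∑ i ∈ Finset.range j, x ^ p ^ i) = x ^ p ^ j - x := by
  rw [sum_pow_char]
  simp_rw [← pow_mul, ← pow_succ]
  rw [← Finset.sum_sub_distrib, Finset.sum_range_sub (fun i => x ^ p ^ i), pow_zero, pow_one]

variable {A : Type u} [CommRing A] [IsLocalRing A] [IsNoetherianRing A] [IsAdicComplete (maximalIdeal A) A]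
  {k : Type v} [Field k] [Algebra k A] {G : Type w} [Group G] [Fintype G] [MulSemiringAction G A]
  [SMulCommClass G k A] {n : ℕ} (φ : MvPowerSeries (Fin n) k →ₐ[k] A)

theorem finite_of_radical (hk : Function.Surjective (residue A ∘ algebraMap k A))
    (hmem : ∀ i, φ (MvPowerSeries.X i) ∈ maximalIdeal A)
    (hrad : maximalIdeal A ≤ (Ideal.span (Set.range fun i => φ (MvPowerSeries.X i))).radical) :
    φ.toRingHom.Finite := by
  let k' := ResidueField A
  let e : k ≃+* k' := RingEquiv.ofBijective ((residue A).comp (algebraMap k A))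
    ⟨((residue A).comp (algebraMap k A)).injective, hk⟩
  letI : Algebra k' A := ((algebraMap k A).comp (e.symm : k' →+* k)).toAlgebra
  let R := MvPowerSeries (Fin n) k'
  let μ : R →+* MvPowerSeries (Fin n) k := MvPowerSeries.map (e.symm : k' →+* k)
  let ψ : R →ₐ[k'] A :=
    { φ.toRingHom.comp μ with
      commutes' := fun c => by
        show φ (μ (algebraMap k' R c)) = algebraMap k A (e.symm c)
        rw [MvPowerSeries.algebraMap_apply, Algebra.algebraMap_self, RingHom.id_apply, MvPowerSeries.map_C]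
        exact φ.commutes _ }
  have hψX : ∀ i, ψ (MvPowerSeries.X i) = φ (MvPowerSeries.X i) := fun i => by
    show φ (μ _) = _
    rw [MvPowerSeries.map_X]
  have hmaxR : maximalIdeal R = FSAdic.augIdeal k' n := MvPSLib.maximalIdeal_eq
  haveI : IsAdicComplete (maximalIdeal R) R := hmaxR ▸ MvPSLib.isAdicComplete
  have hmapR : (maximalIdeal R).map ψ.toRingHom = Ideal.span (Set.range fun i => φ (MvPowerSeries.X i)) := by
    rw [hmaxR]
    show (FSAdic.augIdeal k' n).map ψ = _
    rw [MvPSLib.map_augIdeal]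
    simp only [hψX]
  have hfin : ψ.toRingHom.Finite := by
    refine CAlgCohen.finite_eval _ (fun x => ?_) ?_ ?_
    · obtain ⟨c, rfl⟩ := hk x
      refine ⟨algebraMap k' R (e c), ?_⟩
      show residue A (ψ (algebraMap k' R (e c))) = residue A (algebraMap k A c)
      rw [AlgHom.commutes]
      show residue A (algebraMap k A (e.symm (e c))) = _
      rw [RingEquiv.symm_apply_apply]
    · rw [hmapR, Ideal.span_le]
      rintro _ ⟨i, rfl⟩
      exact hmem i
    · rw [hmapR]
      exact Ideal.exists_pow_le_of_le_radical_of_fg hrad (maximalIdeal A).fg_of_isNoetherianRing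
  exact RingHom.Finite.of_comp_finite (f := μ) hfin

theorem injective_of_finite (hfin : φ.toRingHom.Finite) (hn : ringKrullDim A = n) : Function.Injective φ := by
  rw [injective_iff_map_eq_zero]
  intro x hx
  by_contra hx0
  haveI := CAlgReg.isDomain (R := MvPowerSeries (Fin n) k)
  have h1 := ringKrullDim_quotient_succ_le_of_nonZeroDivisor (mem_nonZeroDivisors_of_ne_zero hx0)
  rw [MvPSLib.ringKrullDim_eq] at h1
  let K := RingHom.ker φ.toRingHom
  let f : MvPowerSeries (Fin n) k ⧸ K →+* A := RingHom.kerLift φ.toRingHom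
  have hle : Ideal.span {x} ≤ K := (Ideal.span_singleton_le_iff_mem _).2 hx
  algebraize [f]
  haveI : Module.Finite (MvPowerSeries (Fin n) k ⧸ K) A :=
    RingHom.Finite.of_comp_finite (g := f) (f := Ideal.Quotient.mk K) hfin
  haveI : FaithfulSMul (MvPowerSeries (Fin n) k ⧸ K) A :=
    (faithfulSMul_iff_algebraMap_injective _ A).2 (RingHom.kerLift_injective _)
  have h2 : ringKrullDim A ≤ ringKrullDim (MvPowerSeries (Fin n) k ⧸ Ideal.span {x}) := by
    rw [DimTheory.ringKrullDim_eq_of_integral (MvPowerSeries (Fin n) k ⧸ K) A]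
    exact ringKrullDim_le_of_surjective (Ideal.Quotient.factor hle) (Ideal.Quotient.factor_surjective hle)
  rw [hn] at h2
  have h3 : (n : WithBot ℕ∞) + 1 ≤ n := le_trans (add_le_add h2 le_rfl) h1
  have h4 : n + 1 ≤ n := by exact_mod_cast h3
  omega

theorem exists_not_pow_mem [IsRegularLocalRing A] {p : ℕ} [Fact p.Prime] [CharP A p] (hn : ringKrullDim A = n) (h2 : 2 ≤ n)
    (hk : Function.Surjective (residue A ∘ algebraMap k A)) (hcard : Nat.card G = p)
    (hram : ∀ P : Ideal A, P.IsPrime → P ≠ maximalIdeal A → P.inertia G = ⊥)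
    (hmem : ∀ i, φ (MvPowerSeries.X i) ∈ maximalIdeal A)
    (hrad : maximalIdeal A ≤ (Ideal.span (Set.range fun i => φ (MvPowerSeries.X i))).radical)
    (hfixX : ∀ i (σ : G), σ • φ (MvPowerSeries.X i) = φ (MvPowerSeries.X i)) :
    ∃ y : A, (∀ σ : G, σ • y = y) ∧ ∀ e : ℕ, y ^ p ^ e ∉ Set.range φ := by
  classical
  by_contra hne
  push Not at hne
  haveI : IsDomain A := CAlgReg.isDomain
  haveI : IsIntegrallyClosed A := RegNormal.isIntegrallyClosed A
  have hp : 2 ≤ p := (Fact.out : p.Prime).two_le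
  have hdim : 2 ≤ ringKrullDim A := by rw [hn]; exact_mod_cast h2
  -- the norm subring
  let R := MvPowerSeries (Fin n) k
  have hfin := finite_of_radical φ hk hmem hrad
  have hinj : Function.Injective φ := injective_of_finite φ hfin hn
  haveI : IsDomain R := CAlgReg.isDomain
  haveI : IsIntegrallyClosed R := RegNormal.isIntegrallyClosed R
  haveI : CharP k p := (RingHom.charP_iff (algebraMap k A) (algebraMap k A).injective p).2 inferInstance
  haveI : CharP R p := charP_of_injective_algebraMap (algebraMap k R).injective p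
  letI : Algebra R A := φ.toRingHom.toAlgebra
  haveI : Module.Finite R A := hfin
  let L := FractionRing A
  let F := FractionRing R
  have hAL : Function.Injective (algebraMap A L) := IsFractionRing.injective A L
  haveI : CharP L p := charP_of_injective_algebraMap hAL p
  haveI : CharP F p := charP_of_injective_algebraMap (IsFractionRing.injective R F) p
  let ι : F →+* L := IsFractionRing.lift (A := R) (g := (algebraMap A L).comp φ.toRingHom) (hAL.comp hinj)
  have hι : ∀ r : R, ι (algebraMap R F r) = algebraMap A L (φ r) := fun r => IsFractionRing.lift_algebraMap _ r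
  letI : MulSemiringAction G L := IsFractionRing.mulSemiringAction G A L
  have hGA : ∀ (g : G) (a : A), g • algebraMap A L a = algebraMap A L (g • a) := fun g a =>
    (algebraMap.coe_smul' (B := A) (C := L) g a).symm
  have hGφ : ∀ (g : G) (r : R), g • φ r = φ r := by
    intro g r
    let gA : A →ₐ[k] A := { MulSemiringAction.toRingHom G A g with commutes' := fun c => smul_algebraMap g c }
    exact DFunLike.congr_fun (algHom_ext_complete (maximalIdeal A) (ψ₁ := gA.comp φ) (ψ₂ := φ)
      (fun i => hfixX i g) (fun i => by show g • φ _ ∈ _; rw [hfixX]; exact hmem i)) r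
  have hGι : ∀ (g : G) (f : F), g • ι f = ι f := by
    intro g f
    obtain ⟨r, s, -, rfl⟩ := IsFractionRing.div_surjective (A := R) f
    rw [map_div₀, smul_div₀', hι, hι, hGA, hGA, hGφ, hGφ]
  -- a generator and a global Artin–Schreier element
  obtain ⟨g, hg⟩ : ∃ g : G, g ≠ 1 := by
    by_contra h
    push Not at h
    have : Nat.card G = 1 := Nat.card_eq_one_iff_unique.2 ⟨⟨fun a b => by rw [h a, h b]⟩, ⟨1⟩⟩
    omega
  have hgen : ∀ x : L, g • x = x → ∀ h : G, h • x = x := fun x hx h => by
    obtain ⟨i, rfl⟩ : h ∈ Submonoid.powers g :=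
      mem_powers_iff_mem_zpowers.2 ((zpowers_eq_top_of_prime_card hcard hg).symm ▸ Subgroup.mem_top h)
    clear * - hx
    show g ^ i • x = x
    induction i with
    | zero => rw [pow_zero, one_smul]
    | succ i ih => rw [pow_succ, mul_smul, hx, ih]
  have hgenA : ∀ x : A, g • x = x → ∀ h : G, h • x = x := fun x hx h =>
    hAL (by rw [← hGA]; exact hgen _ (by rw [hGA, hx]) h)
  have hfrac : ∀ x : L, g • x = x → ∃ d s : A, (∀ h : G, h • d = d) ∧ (∀ h : G, h • s = s) ∧ s ≠ 0 ∧
      x = algebraMap A L d / algebraMap A L s := by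
    intro x hx
    obtain ⟨N, D, hD, rfl⟩ := IsFractionRing.div_surjective (A := A) x
    have hD0 : D ≠ 0 := nonZeroDivisors.ne_zero hD
    set s := ∏ h : G, h • D with hs
    have hs0 : s ≠ 0 := Finset.prod_ne_zero_iff.2 fun h _ h0 => hD0 (by simpa using congrArg (h⁻¹ • ·) h0)
    have hsfix : ∀ h : G, h • s = s := fun h => by
      rw [hs, Finset.smul_prod']
      simp only [← mul_smul]
      exact Equiv.prod_comp (Equiv.mulLeft h) fun t => t • D
    have hxd : algebraMap A L N / algebraMap A L D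
        = algebraMap A L (N * ∏ h ∈ Finset.univ.erase (1 : G), h • D) / algebraMap A L s := by
      rw [hs, ← Finset.mul_prod_erase Finset.univ (fun h : G => h • D) (Finset.mem_univ (1 : G))]
      simp only [map_mul, one_smul]
      have hne : algebraMap A L (∏ h ∈ Finset.univ.erase (1 : G), h • D) ≠ 0 := (map_ne_zero_iff _ hAL).2
        (Finset.prod_ne_zero_iff.2 fun h _ h0 => hD0 (by simpa using congrArg (h⁻¹ • ·) h0))
      rw [mul_div_mul_right _ _ hne]
    refine ⟨_, s, hgenA _ (hAL ?_), hsfix, hs0, hxd⟩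
    rw [← hGA]
    have hsL : algebraMap A L s ≠ 0 := (map_ne_zero_iff _ hAL).2 hs0
    have h1 : algebraMap A L (N * ∏ h ∈ Finset.univ.erase (1 : G), h • D)
        = (algebraMap A L N / algebraMap A L D) * algebraMap A L s := by
      rw [hxd, div_mul_cancel₀ _ hsL]
    rw [h1, smul_mul', hx, hGA, hsfix g]
  have hbot : (⊥ : Ideal A) ≠ maximalIdeal A := fun h => by
    have := ringKrullDim_eq_zero_of_isField (isField_iff_maximalIdeal_eq.2 h.symm)
    rw [this] at hdim
    exact absurd hdim (by decide)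
  obtain ⟨n₀, t₀, ht₀f, ht₀, hn₀⟩ := exists_local_slope p hcard g hg ⊥ (hram ⊥ Ideal.isPrime_bot hbot)
  have hcfix : ∀ n t : A, (∀ h : G, h • t = t) → g • n = n - t →
      ∀ h : G, h • (n ^ p - n * t ^ (p - 1)) = n ^ p - n * t ^ (p - 1) := fun n t ht hn => hgenA _ (by
    obtain ⟨q, hq⟩ : ∃ q, p = q + 1 := ⟨p - 1, by omega⟩
    rw [smul_sub, smul_pow', smul_mul', smul_pow', hn, ht g, sub_pow_char]
    rw [hq, Nat.add_sub_cancel, pow_succ t q]
    ring)
  have hdiv : ∀ n t : A, t ≠ 0 → (∀ h : G, h • t = t) → g • n = n - t →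
      g • (algebraMap A L n / algebraMap A L t) = algebraMap A L n / algebraMap A L t - 1 ∧
      (algebraMap A L n / algebraMap A L t) ^ p - algebraMap A L n / algebraMap A L t
        = algebraMap A L (n ^ p - n * t ^ (p - 1)) / algebraMap A L t ^ p := by
    intro n t ht0 ht hn
    have htL : algebraMap A L t ≠ 0 := (map_ne_zero_iff _ hAL).2 ht0
    refine ⟨by rw [smul_div₀', hGA, hGA, hn, ht g, map_sub, sub_div, div_self htL], ?_⟩
    obtain ⟨q, hq⟩ : ∃ q, p = q + 1 := ⟨p - 1, by omega⟩
    simp only [map_sub, map_mul, map_pow, hq, Nat.add_sub_cancel]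
    exact slope_identity q _ _ htL
  have ht₀0 : t₀ ≠ 0 := fun h => ht₀ (by rw [h]; exact Ideal.zero_mem _)
  set y := algebraMap A L n₀ / algebraMap A L t₀ with hy
  obtain ⟨hgy, hwy⟩ := hdiv n₀ t₀ ht₀0 ht₀f hn₀
  -- raising to `p`-th powers lands in the norm subring
  have hpow : ∀ x : A, (∀ h : G, h • x = x) → ∃ e, ∀ E, e ≤ E → ∃ r : R, φ r = x ^ p ^ E := by
    intro x hx
    obtain ⟨e, r, hr⟩ := hne x hx
    refine ⟨e, fun E hE => ⟨r ^ p ^ (E - e), ?_⟩⟩
    rw [map_pow, hr, ← pow_mul, ← pow_add, Nat.add_sub_cancel' hE]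
  obtain ⟨ec, hec⟩ := hpow _ (hcfix n₀ t₀ ht₀f hn₀)
  obtain ⟨et, het⟩ := hpow t₀ ht₀f
  set e := max ec et with he
  obtain ⟨cR, hcR⟩ := hec e (le_max_left _ _)
  obtain ⟨tR, htR⟩ := het e (le_max_right _ _)
  set α : F := algebraMap R F cR / algebraMap R F tR ^ p with hα
  have hια : ι α = (y ^ p - y) ^ p ^ e := by
    rw [hwy, hα, map_div₀, map_pow, hι, hι, hcR, htR, div_pow, map_pow, map_pow, ← pow_mul, ← pow_mul, mul_comm p]
  -- purity on the norm subring
  have hcond : ∀ (q : Ideal R) [q.IsPrime], q.height ≤ 1 → ∃ b : F, RegAt q (α - (b ^ p - b)) := by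
    intro q hq hq1
    haveI : FaithfulSMul R A := (faithfulSMul_iff_algebraMap_injective R A).2 hinj
    obtain ⟨P, -, hP, hPq⟩ := Ideal.exists_ideal_over_prime_of_isIntegral (R := R) (S := A) q ⊥ (by
      rw [← RingHom.ker_eq_comap_bot, (RingHom.injective_iff_ker_eq_bot _).1
        (FaithfulSMul.algebraMap_injective R A)]
      exact bot_le)
    haveI := hP
    have hPm : P ≠ maximalIdeal A := fun h => by
      haveI : P.IsMaximal := h ▸ maximalIdeal.isMaximal A
      have h1 : (P.under R).IsMaximal := Ideal.isMaximal_comap_of_isIntegral_of_isMaximal P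
      rw [show P.under R = q from hPq] at h1
      rw [IsLocalRing.eq_maximalIdeal h1] at hq1
      have h3 := WithBot.coe_le_coe.2 hq1
      rw [maximalIdeal_height_eq_ringKrullDim, MvPSLib.ringKrullDim_eq] at h3
      have h4 : n ≤ 1 := by exact_mod_cast h3
      omega
    obtain ⟨m, t, htf, ht, hm⟩ := exists_local_slope p hcard g hg P (hram P hP hPm)
    have ht0 : t ≠ 0 := fun h => ht (by rw [h]; exact Ideal.zero_mem _)
    obtain ⟨hgz, hwz⟩ := hdiv m t ht0 htf hm
    obtain ⟨d, s, hdf, hsf, hs0, hds⟩ := hfrac (y - algebraMap A L m / algebraMap A L t)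
      (by rw [smul_sub, hgy, hgz]; ring)
    obtain ⟨e1, he1⟩ := hpow _ (hcfix m t htf hm)
    obtain ⟨e2, he2⟩ := hpow t htf
    obtain ⟨e3, he3⟩ := hpow d hdf
    obtain ⟨e4, he4⟩ := hpow s hsf
    set E := max (max e e1) (max e2 (max e3 e4)) with hE
    obtain ⟨c', hc'⟩ := he1 E (by omega)
    obtain ⟨t', ht'⟩ := he2 E (by omega)
    obtain ⟨d', hd'⟩ := he3 E (by omega)
    obtain ⟨s', hs'⟩ := he4 E (by omega)
    set j := E - e with hj
    refine ⟨algebraMap R F d' / algebraMap R F s' - ∑ i ∈ Finset.range j, α ^ p ^ i, c', t' ^ p, ?_, ?_⟩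
    · intro h
      have h1 : t' ∈ q := hq.mem_of_pow_mem p h
      rw [← hPq] at h1
      have h2 : φ t' ∈ P := h1
      rw [ht'] at h2
      exact ht (hP.mem_of_pow_mem _ h2)
    · apply ι.injective
      have key : (y ^ p - y) ^ p ^ E = algebraMap A L (m ^ p - m * t ^ (p - 1)) ^ p ^ E / (algebraMap A L t ^ p) ^ p ^ E
          + (((algebraMap A L d / algebraMap A L s) ^ p ^ E) ^ p - (algebraMap A L d / algebraMap A L s) ^ p ^ E) := by
        rw [← hds, ← div_pow, ← hwz, ← pow_mul, mul_comm (p ^ E) p, pow_mul, ← sub_pow_char_pow (p := p) (n := E), ← add_pow_char_pow (p := p) (n := E),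
          sub_pow_char (p := p)]
        ring
      have hαE : ι α ^ p ^ j = (y ^ p - y) ^ p ^ E := by
        rw [hια, ← pow_mul, ← pow_add, hj, Nat.add_sub_cancel' (by omega)]
      have hS := telescope (ι α) j
      rw [hαE, key] at hS
      simp only [map_mul, map_sub, map_pow, map_div₀, map_sum, hι, hc', ht', hd', hs', ← div_pow, sub_pow_char]
      have htL : algebraMap A L t ≠ 0 := (map_ne_zero_iff _ hAL).2 ht0
      generalize ι α = a at hS ⊢
      simp only [map_sub, map_mul, map_pow] at hS ⊢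
      generalize algebraMap A L d / algebraMap A L s = D at hS ⊢
      generalize algebraMap A L t = T at hS htL ⊢
      generalize algebraMap A L m ^ p - algebraMap A L m * T ^ (p - 1) = C at hS ⊢
      generalize (∑ i ∈ Finset.range j, a ^ p ^ i) = S at hS ⊢
      rw [← pow_mul T, mul_comm (p ^ E) p, pow_mul T]
      have h0 : C ^ p ^ E / (T ^ p) ^ p ^ E * (T ^ p) ^ p ^ E = C ^ p ^ E :=
        div_mul_cancel₀ _ (pow_ne_zero _ (pow_ne_zero _ htL))
      linear_combination h0 + (T ^ p) ^ p ^ E * hS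
  obtain ⟨b, c, hb⟩ := as_purity p α hcond
  -- a root over the residue field
  set z := y + (∑ i ∈ Finset.range e, (y ^ p - y) ^ p ^ i) - ι b with hz
  have hwz : z ^ p - z = algebraMap A L (φ c) := by
    rw [← hι, ← hb, map_sub, map_sub, map_pow, hια, hz, sub_pow_char, add_pow_char]
    linear_combination telescope (y ^ p - y) e
  have hzint : IsIntegral A z := by
    refine ⟨Polynomial.X ^ p - (Polynomial.X + Polynomial.C (φ c)), Polynomial.monic_X_pow_sub ?_, ?_⟩
    · rw [Polynomial.degree_X_add_C]; exact_mod_cast hp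
    · simp [← hwz]
  obtain ⟨zA, hzA⟩ := IsIntegrallyClosed.isIntegral_iff.1 hzint
  obtain ⟨κ, hκ⟩ := hk (residue A zA)
  have hzAeq : zA ^ p - zA = φ c := hAL (by rw [map_sub, map_pow, hzA, hwz])
  have hcc : MvPowerSeries.C (MvPowerSeries.constantCoeff c) - c ∈ maximalIdeal R := by
    rw [mem_maximalIdeal, mem_nonunits_iff, MvPowerSeries.isUnit_iff_constantCoeff]
    simp
  have hroot : κ ^ p - κ = MvPowerSeries.constantCoeff c := by
    apply ((residue A).comp (algebraMap k A)).injective
    rw [map_sub, map_pow]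
    show residue A (algebraMap k A κ) ^ p - residue A (algebraMap k A κ) = residue A (algebraMap k A _)
    rw [show residue A (algebraMap k A κ) = residue A zA from hκ, ← map_pow, ← map_sub, hzAeq, ← φ.commutes]
    rw [← sub_eq_zero, ← map_sub, residue_eq_zero_iff, ← map_sub]
    have hle : (maximalIdeal R).map φ.toRingHom ≤ maximalIdeal A := by
      rw [show maximalIdeal R = FSAdic.augIdeal k n from MvPSLib.maximalIdeal_eq]
      show (FSAdic.augIdeal k n).map φ ≤ _
      rw [MvPSLib.map_augIdeal, Ideal.span_le]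
      rintro _ ⟨i, rfl⟩
      exact hmem i
    refine hle (Ideal.mem_map_of_mem _ ?_)
    rw [← neg_sub]
    exact (maximalIdeal R).neg_mem hcc
  haveI : IsAdicComplete (maximalIdeal R) R :=
    (show maximalIdeal R = FSAdic.augIdeal k n from MvPSLib.maximalIdeal_eq) ▸ MvPSLib.isAdicComplete
  obtain ⟨ρ, hρ, -⟩ := HenselianRing.is_henselian (I := maximalIdeal R)
    (Polynomial.X ^ p - (Polynomial.X + Polynomial.C c))
    (Polynomial.monic_X_pow_sub (by rw [Polynomial.degree_X_add_C]; exact_mod_cast hp))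
    (MvPowerSeries.C κ) (by
      simp only [Polynomial.eval_sub, Polynomial.eval_pow, Polynomial.eval_X, Polynomial.eval_add, Polynomial.eval_C]
      rw [← sub_sub, ← map_pow, ← map_sub, hroot]
      exact hcc) (by simp [Polynomial.derivative_X_pow, CharP.cast_eq_zero])
  simp only [Polynomial.IsRoot.def, Polynomial.eval_sub, Polynomial.eval_pow, Polynomial.eval_X,
    Polynomial.eval_add, Polynomial.eval_C] at hρ
  have hρ' : ρ ^ p - ρ = c := by linear_combination hρ
  have hfix : g • (z - algebraMap A L (φ ρ)) = z - algebraMap A L (φ ρ) := by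
    refine apply_eq_of_pow_eq_self (MulSemiringAction.toRingHom G L g) ?_
    rw [sub_pow_char, ← map_pow, ← map_pow]
    have := congrArg (fun r => algebraMap A L (φ r)) hρ'
    simp only [map_sub] at this
    linear_combination hwz - this
  rw [smul_sub, hGA, hGφ, sub_left_inj, hz, smul_sub, hGι, smul_add, hgy, Finset.smul_sum] at hfix
  have hsum : ∀ i ∈ Finset.range e, g • (y ^ p - y) ^ p ^ i = (y ^ p - y) ^ p ^ i := fun i _ => by
    rw [smul_pow', smul_sub, smul_pow', hgy, sub_pow_char (p := p) y 1, one_pow]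
    ring
  rw [Finset.sum_congr rfl hsum] at hfix
  exact one_ne_zero (by linear_combination -hfix : (1 : L) = 0)

end Groth.Agent.WildQuotGal
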