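import Mathlib.FieldTheory.Galois.Basic
import Mathlib.FieldTheory.Finite.Basic
import Mathlib.FieldTheory.SplittingField.Construction
import Mathlib.RingTheory.Henselian
import Mathlib.RingTheory.LocalRing.ResidueField.Basic

/-!
Artin–Schreier equations over a field without cyclic extensions of degree `p`, and over complete local rings.
-/

universe u v

namespace Groth.Agent.WildQuotGal

open Polynomial

theorem apply_eq_of_pow_eq_self {K : Type*} [Field K] {p : ℕ} [Fact p.Prime] [CharP K p] (σ : K →+* K) {z : K}
    (hz : z ^ p = z) : σ z = z := by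
  have h : z ∈ (⊥ : Subfield K) := (Subfield.mem_bot_iff_pow_eq_self (F := K) p).2 hz
  exact (bot_le : (⊥ : Subfield K) ≤ RingHom.eqLocusField σ (RingHom.id K)) h

theorem exists_root_field (p : ℕ) [Fact p.Prime] (k : Type v) [Field k] [CharP k p]
    (hkp : ∀ (L : Type v) [Field L] [Algebra k L], IsGalois k L → Module.finrank k L ≠ p) (c : k) :
    ∃ r : k, r ^ p - r = c := by
  classical
  have hp : 2 ≤ p := (Fact.out : p.Prime).two_le
  set f : k[X] := X ^ p - (X + C c) with hf
  have hdeg : (X + C c : k[X]).degree < (p : WithBot ℕ) := by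
    rw [degree_X_add_C]; exact_mod_cast hp
  have hmon : f.Monic := monic_X_pow_sub hdeg
  have hfd : f.natDegree = p := by
    refine natDegree_eq_of_degree_eq_some ?_
    rw [hf, degree_sub_eq_left_of_degree_lt (by rwa [degree_X_pow]), degree_X_pow]
  have hsep : f.Separable := by
    have : f.derivative = -1 := by simp [hf, derivative_X_pow, CharP.cast_eq_zero]
    rw [separable_def, this]
    exact ⟨0, -1, by ring⟩
  let L := f.SplittingField
  haveI : IsGalois k L := IsGalois.of_separable_splitting_field hsep
  haveI : CharP L p := charP_of_injective_algebraMap (algebraMap k L).injective p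
  have hroot : ∀ β : L, β ∈ f.rootSet L ↔ β ^ p = β + algebraMap k L c := fun β => by
    rw [mem_rootSet, and_iff_right hmon.ne_zero]
    simp [f, sub_eq_zero]
  obtain ⟨α, hα⟩ : (f.rootSet L).Nonempty := by
    by_contra h
    rw [Set.not_nonempty_iff_eq_empty] at h
    have h0 := SplittingField.splits f
    have h1 : ((f.map (algebraMap k L)).roots).card = p := by
      rw [← h0.natDegree_eq_card_roots, natDegree_map, hfd]
    have : (f.map (algebraMap k L)).roots = 0 := by
      refine Multiset.eq_zero_of_forall_notMem fun x hx => ?_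
      have hx' : x ∈ f.rootSet L := by
        rw [mem_rootSet, and_iff_right hmon.ne_zero]
        have := (mem_roots'.1 hx).2
        rwa [IsRoot.def, eval_map_algebraMap] at this
      rw [h] at hx'
      exact hx'
    rw [this] at h1
    simp at h1; omega
  have hdiff : ∀ β ∈ f.rootSet L, (β - α) ^ p = β - α := fun β hβ => by
    rw [sub_pow_char, (hroot β).1 hβ, (hroot α).1 hα]; ring
  have hext : ∀ σ τ : Gal(L/k), σ α = τ α → σ = τ := by
    intro σ τ h
    refine AlgEquiv.coe_algHom_injective (AlgHom.ext_of_adjoin_eq_top (SplittingField.adjoin_rootSet f) ?_)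
    intro β hβ
    show σ β = τ β
    have e1 := apply_eq_of_pow_eq_self (σ : L →+* L) (hdiff β hβ)
    have e2 := apply_eq_of_pow_eq_self (τ : L →+* L) (hdiff β hβ)
    simp only [RingHom.coe_coe, map_sub] at e1 e2
    linear_combination e1 - e2 + h
  by_cases hall : ∀ σ : Gal(L/k), σ α = α
  · obtain ⟨r, hr⟩ : α ∈ Set.range (algebraMap k L) :=
      (IsGalois.mem_range_algebraMap_iff_fixed α).2 hall
    refine ⟨r, (algebraMap k L).injective ?_⟩
    rw [map_sub, map_pow, hr, (hroot α).1 hα]; ring
  · exfalso
    push Not at hall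
    obtain ⟨σ, hσ⟩ := hall
    have hmem : ∀ τ : Gal(L/k), τ α ∈ f.rootSet L := fun τ => by
      rw [hroot, ← map_pow, (hroot α).1 hα, map_add, AlgEquiv.commutes]
    set e := σ α - α with he
    have hpow : ∀ j : ℕ, (σ ^ j) α = α + j * e := by
      intro j
      induction j with
      | zero => simp
      | succ j ih =>
        have h3 := apply_eq_of_pow_eq_self (σ : L →+* L) (hdiff _ (hmem σ))
        simp only [RingHom.coe_coe] at h3
        rw [pow_succ', AlgEquiv.mul_apply, ih, map_add, map_mul, map_natCast, h3, he]
        push_cast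
        ring
    have hσp : σ ^ p = 1 := hext _ _ (by rw [hpow, CharP.cast_eq_zero, zero_mul, add_zero]; rfl)
    have hord : orderOf σ = p := orderOf_eq_prime hσp fun h => hσ (by rw [h]; rfl)
    refine hkp L inferInstance ?_
    rw [← IsGalois.card_aut_eq_finrank]
    refine le_antisymm ?_ (Nat.le_of_dvd Nat.card_pos (hord ▸ orderOf_dvd_natCard σ))
    calc Nat.card (Gal(L/k)) ≤ Nat.card (f.rootSet L) :=
          Nat.card_le_card_of_injective (fun τ => ⟨τ α, hmem τ⟩) fun σ τ h => hext σ τ (congrArg Subtype.val h)
      _ ≤ p := by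
          rw [Nat.card_eq_fintype_card, card_rootSet_eq_natDegree hsep (SplittingField.splits f), hfd]

theorem exists_root_complete (p : ℕ) [Fact p.Prime] {A : Type u} [CommRing A] [IsLocalRing A] [CharP A p]
    [IsAdicComplete (IsLocalRing.maximalIdeal A) A] (k : Type v) [Field k] [Algebra k A]
    (hk : Function.Surjective (IsLocalRing.residue A ∘ algebraMap k A))
    (hkp : ∀ (L : Type v) [Field L] [Algebra k L], IsGalois k L → Module.finrank k L ≠ p) (c : A) :
    ∃ r : A, r ^ p - r = c := by
  haveI : CharP k p := (RingHom.charP_iff (algebraMap k A) (algebraMap k A).injective p).2 inferInstance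
  obtain ⟨c₀, hc₀⟩ := hk (IsLocalRing.residue A c)
  obtain ⟨r₀, hr₀⟩ := exists_root_field p k hkp c₀
  have hp : 2 ≤ p := (Fact.out : p.Prime).two_le
  have hdeg : (X + C c : A[X]).degree < (p : WithBot ℕ) := by
    rw [degree_X_add_C]; exact_mod_cast hp
  obtain ⟨r, hr, -⟩ := HenselianRing.is_henselian (I := IsLocalRing.maximalIdeal A) (X ^ p - (X + C c))
    (monic_X_pow_sub hdeg) (algebraMap k A r₀) (by
      rw [← IsLocalRing.residue_eq_zero_iff]
      simp only [eval_sub, eval_pow, eval_X, eval_add, eval_C, map_sub, map_add, map_pow]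
      rw [← hc₀, ← hr₀]
      simp only [Function.comp_apply, map_sub, map_pow]
      ring) (by simp [derivative_X_pow, CharP.cast_eq_zero])
  refine ⟨r, ?_⟩
  simp only [IsRoot.def, eval_sub, eval_pow, eval_X, eval_add, eval_C] at hr
  linear_combination hr

end Groth.Agent.WildQuotGal
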