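import Groth.Agent.WildQuotGal.ASPurity
import Groth.Agent.WildQuotGal.ASRoot
import Groth.Agent.DimTheory.Algebra
import Groth.Agent.RegNormal.Basic
import Mathlib.FieldTheory.Galois.IsGaloisGroup
import Mathlib.RingTheory.IsGaloisGroup.Basic
import Mathlib.RingTheory.Invariant.Basic
import Mathlib.GroupTheory.SpecificGroups.Cyclic
import Mathlib.FieldTheory.IntermediateField.Adjoin.Basic

/-!
Extending automorphisms of a ring of invariants.
-/

universe u v w

namespace Groth.Agent.WildQuotGal

open IsLocalRing Polynomial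

theorem trace_notMem {A : Type u} [CommRing A] {G : Type w} [Group G] [Fintype G] [MulSemiringAction G A]
    (P : Ideal A) [P.IsPrime] (hP : P.inertia G = ⊥) : ∃ a : A, (∑ g : G, g • a) ∉ P := by
  by_contra h
  push Not at h
  let χ : G → (A →* A ⧸ P) := fun g =>
    ((Ideal.Quotient.mk P).comp (MulSemiringAction.toRingHom G A g)).toMonoidHom
  have hinj : Function.Injective χ := by
    intro g g' hgg
    have hmem : g * g'⁻¹ ∈ P.inertia G := fun y => by
      have := DFunLike.congr_fun hgg (g'⁻¹ • y)
      change Ideal.Quotient.mk P (g • g'⁻¹ • y) = Ideal.Quotient.mk P (g' • g'⁻¹ • y) at this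
      rw [smul_inv_smul, ← mul_smul, Ideal.Quotient.mk_eq_mk_iff_sub_mem] at this
      exact this
    rw [hP, Subgroup.mem_bot, mul_inv_eq_one] at hmem
    exact hmem
  have hli := (linearIndependent_monoidHom A (A ⧸ P)).comp χ hinj
  have := Fintype.linearIndependent_iff.1 hli (fun _ => 1) (funext fun x => by
    simp only [one_smul, Finset.sum_apply, Pi.zero_apply, Function.comp_apply]
    show ∑ g : G, Ideal.Quotient.mk P (g • x) = 0
    rw [← map_sum, Ideal.Quotient.eq_zero_iff_mem]
    exact h x) 1
  exact one_ne_zero this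

theorem adjoin_eq_top_of_notMem {K L : Type*} [Field K] [Field L] [Algebra K L]
    (hp : Nat.Prime (Module.finrank K L)) {y : L} (hy : y ∉ Set.range (algebraMap K L)) :
    Algebra.adjoin K {y} = ⊤ := by
  haveI := Subalgebra.isSimpleOrder_of_finrank_prime K L hp
  refine (IsSimpleOrder.eq_bot_or_eq_top _).resolve_left fun h => hy ?_
  have hmem : y ∈ Algebra.adjoin K {y} := Algebra.subset_adjoin rfl
  rw [h] at hmem
  exact Algebra.mem_bot.1 hmem

theorem as_identity {L : Type*} [Field L] (Y N T : L) (q : ℕ) (hT : T ≠ 0) :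
    Y ^ q * Y - Y = (N ^ q * N - N * T ^ q) / (T ^ q * T)
      + (Y ^ q * Y - N ^ q / T ^ q * (N / T) - (Y - N / T)) := by
  field_simp
  ring

variable {A : Type u} [CommRing A] [IsRegularLocalRing A] {p : ℕ} [Fact p.Prime] [CharP A p]
  [IsAdicComplete (maximalIdeal A) A] {k : Type v} [Field k] [Algebra k A]
  {G : Type w} [Group G] [Finite G] [MulSemiringAction G A] [SMulCommClass G k A]

theorem faithful_of_inertia (hram : ∀ P : Ideal A, P.IsPrime → P ≠ maximalIdeal A → P.inertia G = ⊥)
    (hdim : 2 ≤ ringKrullDim A) : FaithfulSMul G A := by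
  haveI : IsDomain A := CAlgReg.isDomain
  have hne : (⊥ : Ideal A) ≠ maximalIdeal A := fun h => by
    have := ringKrullDim_eq_zero_of_isField (isField_iff_maximalIdeal_eq.2 h.symm)
    rw [this] at hdim
    exact absurd hdim (by decide)
  refine ⟨fun {g g'} h => ?_⟩
  have : g * g'⁻¹ ∈ (⊥ : Ideal A).inertia G := fun y => by
    have := h (g'⁻¹ • y)
    rw [smul_inv_smul, ← mul_smul] at this
    show (g * g'⁻¹) • y - y ∈ (⊥ : Ideal A)
    rw [Ideal.mem_bot, sub_eq_zero]
    exact this
  rw [hram ⊥ Ideal.isPrime_bot hne, Subgroup.mem_bot, mul_inv_eq_one] at this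
  exact this

theorem exists_extension (hdim : 2 ≤ ringKrullDim A)
    (hk : Function.Surjective (IsLocalRing.residue A ∘ algebraMap k A))
    (hkp : ∀ (L : Type v) [Field L] [Algebra k L], IsGalois k L → Module.finrank k L ≠ p)
    (hcard : Nat.card G = p)
    (hram : ∀ P : Ideal A, P.IsPrime → P ≠ maximalIdeal A → P.inertia G = ⊥)
    (φ : FixedPoints.subalgebra k A G ≃ₐ[k] FixedPoints.subalgebra k A G) :
    ∃ ψ : A ≃ₐ[k] A, ∀ x : FixedPoints.subalgebra k A G, ψ x = φ x := by
  classical
  haveI : IsDomain A := CAlgReg.isDomain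
  haveI : IsIntegrallyClosed A := RegNormal.isIntegrallyClosed A
  haveI : Fintype G := Fintype.ofFinite G
  haveI := faithful_of_inertia hram hdim
  have hp : 2 ≤ p := (Fact.out : p.Prime).two_le
  let B := FixedPoints.subalgebra k A G
  haveI : IsGaloisGroup G B A :=
    ⟨inferInstance, ⟨fun g b x => by
      show g • ((b : A) * x) = (b : A) * g • x
      rw [smul_mul']
      exact congrArg (· * g • x) (b.2 g)⟩, ⟨fun a ha => ⟨⟨a, ha⟩, rfl⟩⟩⟩
  haveI : Algebra.IsIntegral B A := Algebra.IsInvariant.isIntegral B A G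
  let L := FractionRing A
  let F := FractionRing B
  letI : Algebra F L := FractionRing.liftAlgebra B L
  letI : MulSemiringAction G L := IsFractionRing.mulSemiringAction G A L
  haveI : IsGaloisGroup G F L := IsGaloisGroup.to_isFractionRing_of_isIntegral G B A F L
  haveI : CharP L p := charP_of_injective_algebraMap (IsFractionRing.injective A L) p
  haveI : CharP F p := (RingHom.charP_iff (algebraMap F L) (algebraMap F L).injective p).2 inferInstance
  have hrank : Module.finrank F L = p := by rw [← IsGaloisGroup.card_eq_finrank G F L, hcard]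
  haveI : FiniteDimensional F L := IsGaloisGroup.finiteDimensional G F L
  have hGA : ∀ (g : G) (a : A), g • algebraMap A L a = algebraMap A L (g • a) := fun g a =>
    (algebraMap.coe_smul' (B := A) (C := L) g a).symm
  have hBL : ∀ b : B, algebraMap F L (algebraMap B F b) = algebraMap A L (b : A) := fun b =>
    ((IsScalarTower.algebraMap_apply B F L b).symm).trans (IsScalarTower.algebraMap_apply B A L b)
  -- a generator
  obtain ⟨g, hg⟩ : ∃ g : G, g ≠ 1 := by
    by_contra h
    push Not at h
    have : Nat.card G = 1 := Nat.card_eq_one_iff_unique.2 ⟨⟨fun a b => by rw [h a, h b]⟩, ⟨1⟩⟩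
    omega
  have hord : orderOf g = p := by
    have := orderOf_dvd_natCard g
    rw [hcard] at this
    exact ((Nat.dvd_prime (Fact.out : p.Prime)).1 this).resolve_left fun h => hg (orderOf_eq_one_iff.1 h)
  have hfix : ∀ x : L, g • x = x → x ∈ Set.range (algebraMap F L) := by
    intro x hx
    refine IsGaloisGroup.isInvariant.isInvariant (G := G) x fun h => ?_
    obtain ⟨i, rfl⟩ : h ∈ Submonoid.powers g :=
      mem_powers_iff_mem_zpowers.2 ((zpowers_eq_top_of_prime_card hcard hg).symm ▸ Subgroup.mem_top h)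
    clear * - hx
    show g ^ i • x = x
    induction i with
    | zero => rw [pow_zero, one_smul]
    | succ i ih => rw [pow_succ, mul_smul, hx, ih]
  have hgF : ∀ e : F, g • algebraMap F L e = algebraMap F L e := fun e => by
    haveI := IsGaloisGroup.commutes (G := G) (A := F) (B := L)
    exact smul_algebraMap g e
  -- local trivialisations
  have hloc : ∀ P : Ideal A, P.IsPrime → P ≠ maximalIdeal A →
      ∃ (n : A) (t : B), (t : A) ∉ P ∧ g • n = n - (t : A) := by
    intro P hP hPm
    haveI := hP
    obtain ⟨a, ha⟩ := trace_notMem P (hram P hP hPm)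
    let t : B := ⟨∑ h : G, h • a, fun h => by
      rw [Finset.smul_sum]
      simp only [← mul_smul]
      exact Equiv.sum_comp (Equiv.mulLeft h) fun h => h • a⟩
    refine ⟨∑ i ∈ Finset.range p, (i : A) * g ^ i • a, t, ha, eq_sub_of_add_eq ?_⟩
    have ht : (t : A) = ∑ i ∈ Finset.range p, g ^ i • a := by
      show ∑ h : G, h • a = _
      rw [← hord, ← IsCyclic.image_range_orderOf (a := g) (fun x => (zpowers_eq_top_of_prime_card hcard hg).symm ▸ Subgroup.mem_top x),
        Finset.sum_image fun i hi j hj h => pow_injOn_Iio_orderOf (Finset.mem_range.1 hi) (Finset.mem_range.1 hj) h]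
    have hgt : g • (t : A) = t := t.2 g
    rw [← hgt, ht, Finset.smul_sum, Finset.smul_sum, ← Finset.sum_add_distrib]
    have e1 : ∀ i ∈ Finset.range p, g • ((i : A) * g ^ i • a) + g • g ^ i • a = ((i + 1 : ℕ) : A) * g ^ (i + 1) • a := by
      intro i _
      rw [smul_mul', ← map_natCast (algebraMap k A), smul_algebraMap, map_natCast, pow_succ', mul_smul]
      push_cast
      ring
    rw [Finset.sum_congr rfl e1]
    have h2 := Finset.sum_range_succ' (fun i : ℕ => (i : A) * g ^ i • a) p
    rw [Finset.sum_range_succ, CharP.cast_eq_zero, Nat.cast_zero, zero_mul, zero_mul, add_zero, add_zero] at h2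
    exact h2.symm
  have hbot : (⊥ : Ideal A) ≠ maximalIdeal A := fun h => by
    have := ringKrullDim_eq_zero_of_isField (isField_iff_maximalIdeal_eq.2 h.symm)
    rw [this] at hdim
    exact absurd hdim (by decide)
  obtain ⟨n₀, t₀, ht₀, hn₀⟩ := hloc ⊥ Ideal.isPrime_bot hbot
  have htL : ∀ {t : A}, t ≠ 0 → algebraMap A L t ≠ 0 := fun h =>
    (map_ne_zero_iff _ (IsFractionRing.injective A L)).2 h
  have hgdiv : ∀ (n : A) (t : B), (t : A) ≠ 0 → g • n = n - (t : A) →
      g • (algebraMap A L n / algebraMap A L t) = algebraMap A L n / algebraMap A L t - 1 := by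
    intro n t ht hn
    rw [smul_div₀', hGA, hGA, hn, t.2 g, map_sub, sub_div, div_self (htL ht)]
  set y := algebraMap A L n₀ / algebraMap A L t₀ with hy
  have ht₀' : (t₀ : A) ≠ 0 := fun h => ht₀ (by rw [h]; exact Ideal.zero_mem _)
  have hgy : g • y = y - 1 := hgdiv n₀ t₀ ht₀' hn₀
  have hynot : y ∉ Set.range (algebraMap F L) := by
    rintro ⟨e, he⟩
    rw [← he, hgF, he] at hgy
    exact one_ne_zero (by linear_combination hgy : (1 : L) = 0)
  have hwp : ∀ z : L, g • z = z - 1 → z ^ p - z ∈ Set.range (algebraMap F L) := fun z hz => by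
    refine hfix _ ?_
    rw [smul_sub, smul_pow', hz, sub_pow_char, one_pow]
    ring
  obtain ⟨a, ha⟩ := hwp y hgy
  -- the twisted element
  let φF : F ≃+* F := IsFractionRing.ringEquivOfRingEquiv (φ : B ≃+* B)
  have hφF : ∀ b : B, φF (algebraMap B F b) = algebraMap B F (φ b) := fun b =>
    IsFractionRing.ringEquivOfRingEquiv_algebraMap _ b
  let Ψ : F →+* L := (algebraMap F L).comp (φF : F →+* F)
  have hΨB : ∀ b : B, Ψ (algebraMap B F b) = algebraMap A L ((φ b : B) : A) := fun b => by
    show algebraMap F L (φF (algebraMap B F b)) = _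
    rw [hφF, hBL]
  -- purity
  have hcond : ∀ (Q : Ideal A) [Q.IsPrime], Q.height ≤ 1 → ∃ b : L, RegAt Q (Ψ a - (b ^ p - b)) := by
    intro Q hQ hQ1
    have hQm : ¬ Q.IsMaximal := fun hmax => by
      rw [IsLocalRing.eq_maximalIdeal hmax] at hQ1
      have h2 := WithBot.coe_le_coe.2 hQ1
      rw [maximalIdeal_height_eq_ringKrullDim] at h2
      exact absurd (hdim.trans h2) (by decide)
    let q : Ideal B := (Q.under B).comap (φ : B ≃+* B)
    haveI : q.IsPrime := Ideal.comap_isPrime _ _
    obtain ⟨P, -, hP, hPq⟩ := Ideal.exists_ideal_over_prime_of_isIntegral (R := B) (S := A) q ⊥ (by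
      rw [← RingHom.ker_eq_comap_bot, (RingHom.injective_iff_ker_eq_bot _).1 Subtype.val_injective]
      exact bot_le)
    haveI := hP
    have hPm : P ≠ maximalIdeal A := fun h => by
      have h1 : (P.under B).IsMaximal := by
        haveI : P.IsMaximal := h ▸ maximalIdeal.isMaximal A
        exact Ideal.isMaximal_comap_of_isIntegral_of_isMaximal P
      rw [show P.under B = q from hPq] at h1
      have h2 : (Q.under B).IsMaximal := by
        haveI := h1
        rw [← Ideal.map_comap_of_surjective (φ : B ≃+* B) (RingEquiv.surjective _) (Q.under B)]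
        exact Ideal.map_isMaximal_of_equiv (φ : B ≃+* B)
      exact hQm (Ideal.isMaximal_of_isIntegral_of_isMaximal_comap Q h2)
    obtain ⟨n, t, ht, hn⟩ := hloc P hP hPm
    have ht' : (t : A) ≠ 0 := fun h => ht (by rw [h]; exact Ideal.zero_mem _)
    have hgz := hgdiv n t ht' hn
    set z := algebraMap A L n / algebraMap A L t with hz
    obtain ⟨e, he⟩ : y - z ∈ Set.range (algebraMap F L) :=
      hfix _ (by rw [smul_sub, hgy, hgz]; ring)
    have hc : n ^ p - n * (t : A) ^ (p - 1) ∈ B := by
      intro h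
      obtain ⟨i, rfl⟩ : h ∈ Submonoid.powers g :=
        mem_powers_iff_mem_zpowers.2 ((zpowers_eq_top_of_prime_card hcard hg).symm ▸ Subgroup.mem_top h)
      show g ^ i • _ = _
      clear * - hn hp
      have h1 : g • (n ^ p - n * (t : A) ^ (p - 1)) = n ^ p - n * (t : A) ^ (p - 1) := by
        obtain ⟨q, hq⟩ : ∃ q, p = q + 1 := ⟨p - 1, by omega⟩
        rw [smul_sub, smul_pow', smul_mul', smul_pow', hn, t.2 g, sub_pow_char]
        rw [hq, Nat.add_sub_cancel, pow_succ (t : A) q]
        ring
      induction i with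
      | zero => rw [pow_zero, one_smul]
      | succ i ih => rw [pow_succ, mul_smul, h1, ih]
    have key : a = algebraMap B F ⟨_, hc⟩ / algebraMap B F t ^ p + (e ^ p - e) := by
      refine (algebraMap F L).injective ?_
      rw [map_add, map_div₀, map_pow, map_sub, map_pow, hBL, hBL, he, ha, sub_pow_char, hz]
      have htne := htL ht'
      obtain ⟨q, hq⟩ : ∃ q, p = q + 1 := ⟨p - 1, by omega⟩
      simp only [map_sub, map_mul, map_pow, hq, Nat.add_sub_cancel, div_pow, pow_succ]
      exact as_identity _ _ _ q htne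
    refine ⟨Ψ e, ((φ ⟨_, hc⟩ : B) : A), ((φ t : B) : A) ^ p, fun h => ht ?_, ?_⟩
    · have h1 : φ t ∈ Q.under B := hQ.mem_of_pow_mem p h
      have h2 : t ∈ q := h1
      rw [← hPq] at h2
      exact h2
    · have hne : Ψ (algebraMap B F t) ≠ 0 := (map_ne_zero_iff _ Ψ.injective).2
        ((map_ne_zero_iff _ (IsFractionRing.injective B F)).2 fun h => ht' (by rw [h]; rfl))
      rw [key, map_add, map_div₀, map_pow, map_sub, map_pow, map_pow, ← hΨB, ← hΨB, add_sub_cancel_right,
        div_mul_cancel₀ _ (pow_ne_zero _ hne)]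
  obtain ⟨b₁, c, hb₁⟩ := as_purity p (Ψ a) hcond
  obtain ⟨r, hr⟩ := exists_root_complete p k hk hkp c
  set b := b₁ + algebraMap A L r with hb
  have hbeq : b ^ p - b = Ψ a := by
    rw [hb, add_pow_char]
    have := congrArg (algebraMap A L) hr
    rw [map_sub, map_pow] at this
    linear_combination this - hb₁
  -- no solution in the fixed field
  have hbnot : b ∉ Set.range (algebraMap F L) := by
    rintro ⟨e, he⟩
    obtain ⟨e', rfl⟩ := φF.surjective e
    have h1 : e' ^ p - e' = a := Ψ.injective (by
      rw [map_sub, map_pow, show Ψ e' = b from he, hbeq])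
    have h2 : (y - algebraMap F L e') ^ p = y - algebraMap F L e' := by
      rw [sub_pow_char, ← map_pow]
      have h3 := congrArg (algebraMap F L) h1
      rw [map_sub, ha] at h3
      linear_combination (-1 : L) * h3
    have h4 := apply_eq_of_pow_eq_self (MulSemiringAction.toRingHom G L g) h2
    simp only [MulSemiringAction.toRingHom_apply, smul_sub, hgy, hgF] at h4
    exact one_ne_zero (by linear_combination -h4 : (1 : L) = 0)
  -- the extension to the fraction field
  have hpr : Nat.Prime (Module.finrank F L) := hrank ▸ Fact.out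
  have htopy := adjoin_eq_top_of_notMem hpr hynot
  have htopb := adjoin_eq_top_of_notMem hpr hbnot
  have hdeg : (X + C a : F[X]).degree < (p : WithBot ℕ) := by
    rw [degree_X_add_C]; exact_mod_cast hp
  set f : F[X] := X ^ p - (X + C a) with hf
  have hmon : f.Monic := monic_X_pow_sub hdeg
  have hfd : f.natDegree = p := by
    refine natDegree_eq_of_degree_eq_some ?_
    rw [hf, degree_sub_eq_left_of_degree_lt (by rwa [degree_X_pow]), degree_X_pow]
  have hfy : f.eval₂ (algebraMap F L) y = 0 := by
    simp [f, ha]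
  have hfb : f.eval₂ Ψ b = 0 := by
    simp [f, ← hbeq]
  have hmin : minpoly F y = f := by
    have hint : IsIntegral F y := IsIntegral.of_finite F y
    have h1 : minpoly F y ∣ f := minpoly.dvd F y (by rw [aeval_def]; exact hfy)
    have h2 : (minpoly F y).natDegree = p := by
      rw [← IntermediateField.adjoin.finrank hint, ← hrank]
      have h : IntermediateField.adjoin F {y} = ⊤ := by
        rw [eq_top_iff]
        intro x _
        exact IntermediateField.algebra_adjoin_le_adjoin F {y} (htopy.symm ▸ Algebra.mem_top)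
      rw [h]; exact IntermediateField.finrank_top'
    exact (eq_of_monic_of_dvd_of_natDegree_le (minpoly.monic hint) hmon h1 (by rw [hfd, h2])).symm
  haveI hirr : Fact (Irreducible f) := ⟨hmin ▸ minpoly.irreducible (IsIntegral.of_finite F y)⟩
  let e₁ : AdjoinRoot f →+* L := AdjoinRoot.lift (algebraMap F L) y hfy
  let e₂ : AdjoinRoot f →+* L := AdjoinRoot.lift Ψ b hfb
  have hsurj₁ : Function.Surjective e₁ := fun x => by
    have hx : x ∈ Algebra.adjoin F {y} := htopy.symm ▸ Algebra.mem_top
    rw [Algebra.adjoin_singleton_eq_range_aeval] at hx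
    obtain ⟨P, rfl⟩ := hx
    exact ⟨AdjoinRoot.mk f P, by rw [AdjoinRoot.lift_mk]; rfl⟩
  have hsurj₂ : Function.Surjective e₂ := fun x => by
    have hx : x ∈ Algebra.adjoin F {b} := htopb.symm ▸ Algebra.mem_top
    rw [Algebra.adjoin_singleton_eq_range_aeval] at hx
    obtain ⟨P, rfl⟩ := hx
    refine ⟨AdjoinRoot.mk f (P.map (φF.symm : F →+* F)), ?_⟩
    rw [AdjoinRoot.lift_mk, eval₂_map]
    show eval₂ _ b P = eval₂ _ b P
    congr 1
    ext e
    show algebraMap F L (φF (φF.symm e)) = algebraMap F L e
    rw [RingEquiv.apply_symm_apply]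
  let E₁ := RingEquiv.ofBijective e₁ ⟨e₁.injective, hsurj₁⟩
  let E₂ := RingEquiv.ofBijective e₂ ⟨e₂.injective, hsurj₂⟩
  let T : L ≃+* L := E₁.symm.trans E₂
  have hT : ∀ b' : B, T (algebraMap A L (b' : A)) = algebraMap A L ((φ b' : B) : A) := by
    intro b'
    show E₂ (E₁.symm _) = _
    rw [show E₁.symm (algebraMap A L (b' : A)) = AdjoinRoot.of f (algebraMap B F b') from
      (RingEquiv.symm_apply_eq E₁).2 (by
        show _ = e₁ (AdjoinRoot.of f (algebraMap B F b'))
        rw [AdjoinRoot.lift_of, hBL])]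
    show e₂ (AdjoinRoot.of f (algebraMap B F b')) = _
    rw [AdjoinRoot.lift_of, hΨB]
  -- restriction to `A`
  have hintA : ∀ (T : L ≃+* L) (φ : B ≃ₐ[k] B),
      (∀ b' : B, T (algebraMap A L (b' : A)) = algebraMap A L ((φ b' : B) : A)) →
      ∀ x : A, ∃ x' : A, algebraMap A L x' = T (algebraMap A L x) := by
    intro T φ hT x
    refine IsIntegrallyClosed.isIntegral_iff.1 ?_
    have h1 : IsIntegral B (algebraMap A L x) := (Algebra.IsIntegral.isIntegral (R := B) x).map
      (IsScalarTower.toAlgHom B A L)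
    refine IsIntegral.map_of_comp_eq ((algebraMap B A).comp ((φ : B →ₐ[k] B) : B →+* B)) (T : L →+* L) ?_ h1
    ext b'
    show algebraMap A L ((φ b' : B) : A) = T (algebraMap B L b')
    rw [IsScalarTower.algebraMap_apply B A L]
    exact (hT b').symm
  have hT' : ∀ b' : B, T.symm (algebraMap A L (b' : A)) = algebraMap A L ((φ.symm b' : B) : A) := fun b' => by
    rw [RingEquiv.symm_apply_eq, hT, AlgEquiv.apply_symm_apply]
  choose f₁ hf₁ using hintA T φ hT
  choose f₂ hf₂ using hintA T.symm φ.symm hT'
  have hj : Function.Injective (algebraMap A L) := IsFractionRing.injective A L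
  refine ⟨
    { toFun := f₁
      invFun := f₂
      left_inv := fun x => hj (by rw [hf₂, hf₁, RingEquiv.symm_apply_apply])
      right_inv := fun x => hj (by rw [hf₁, hf₂, RingEquiv.apply_symm_apply])
      map_mul' := fun x x' => hj (by rw [map_mul, hf₁, hf₁, hf₁, map_mul, map_mul])
      map_add' := fun x x' => hj (by rw [map_add, hf₁, hf₁, hf₁, map_add, map_add])
      commutes' := fun c => hj (by
        show algebraMap A L (f₁ ((algebraMap k B c : B) : A)) = _
        rw [hf₁, hT, AlgEquiv.commutes]
        rfl) }, fun x => hj ?_⟩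
  show algebraMap A L (f₁ (x : A)) = _
  rw [hf₁, hT]

end Groth.Agent.WildQuotGal
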