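import Groth.Agent.WildQuotGal.ASFamily
import Mathlib.Algebra.SkewMonoidAlgebra.Single

/-!
The top coefficient form of a family of additive equations, and the symmetric form on skew group rings.
-/

set_option autoImplicit false

universe u v w

namespace Groth.Agent.ASFamily

open MvPolynomial IsLocalRing

variable {R : Type u} [CommRing R] [IsLocalRing R] {n p : ℕ}

section Basis

variable (c b : Fin n → R)

/-- The monomials of degree `< p` in each variable. -/
noncomputable def mono (e : Fin n → Fin p) : MvPolynomial (Fin n) R ⧸ eqs p c b :=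
  ∏ i, Ideal.Quotient.mk (eqs p c b) (X i) ^ (e i : ℕ)

theorem prod_pow_mem_map (hc : ∀ i, c i ∈ maximalIdeal R) (hb : ∀ i, b i ∈ maximalIdeal R)
    (f : Fin n → ℕ) (i : Fin n) (hi : p ≤ f i) :
    ∏ j, Ideal.Quotient.mk (eqs p c b) (X j) ^ f j ∈
      (maximalIdeal R).map (algebraMap R (MvPolynomial (Fin n) R ⧸ eqs p c b)) := by
  rw [← Finset.mul_prod_erase _ _ (Finset.mem_univ i)]
  refine Ideal.mul_mem_right _ _ ?_
  rw [← Nat.add_sub_cancel' hi, pow_add]
  refine Ideal.mul_mem_right _ _ ?_
  rw [relation (p := p) c b i]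
  exact add_mem (Ideal.mul_mem_right _ _ (Ideal.mem_map_of_mem _ (hc i))) (Ideal.mem_map_of_mem _ (hb i))

theorem span_mono_eq_top (hp : 2 ≤ p) (hc : ∀ i, c i ∈ maximalIdeal R) (hb : ∀ i, b i ∈ maximalIdeal R) :
    Submodule.span R (Set.range (mono c b : (Fin n → Fin p) → _)) = ⊤ := by
  classical
  haveI := finite hp c b
  refine top_le_iff.1 (Submodule.le_of_le_smul_of_le_jacobson_bot (I := maximalIdeal R)
    (Module.finite_def.1 inferInstance) (IsLocalRing.maximalIdeal_le_jacobson _) ?_)
  rintro x -
  obtain ⟨f, rfl⟩ := Ideal.Quotient.mk_surjective x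
  induction f using MvPolynomial.induction_on' with
  | add f g hf hg => rw [map_add]; exact add_mem hf hg
  | monomial s r =>
    have he : Ideal.Quotient.mk (eqs p c b) (monomial s r) =
        algebraMap R _ r * ∏ j, Ideal.Quotient.mk (eqs p c b) (X j) ^ s j := by
      rw [monomial_eq, map_mul]
      congr 1
      rw [Finsupp.prod_fintype _ _ (fun _ => pow_zero _), map_prod]
      simp
    rw [he, ← Algebra.smul_def]
    refine Submodule.smul_mem _ r ?_
    by_cases h : ∀ j, s j < p
    · exact Submodule.mem_sup_left (Submodule.subset_span ⟨fun j => ⟨s j, h j⟩, rfl⟩)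
    · push Not at h
      obtain ⟨i, hi⟩ := h
      refine Submodule.mem_sup_right ?_
      rw [Ideal.smul_top_eq_map]
      exact prod_pow_mem_map c b hc hb s i hi

/-- The monomial basis. -/
noncomputable def monoBasis (hp : 2 ≤ p) (hc : ∀ i, c i ∈ maximalIdeal R)
    (hb : ∀ i, b i ∈ maximalIdeal R) :
    Module.Basis (Fin n → Fin p) R (MvPolynomial (Fin n) R ⧸ eqs p c b) :=
  haveI := (free_finrank_fin hp c b).1
  haveI := finite hp c b
  basisOfTopLeSpanOfCardEqFinrank (mono c b) (span_mono_eq_top c b hp hc hb).ge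
    (by rw [(free_finrank_fin hp c b).2]; simp)

theorem monoBasis_apply (hp : 2 ≤ p) (hc : ∀ i, c i ∈ maximalIdeal R)
    (hb : ∀ i, b i ∈ maximalIdeal R) (e : Fin n → Fin p) :
    monoBasis c b hp hc hb e = mono c b e := by
  simp [monoBasis]

/-- The coefficient of the top monomial. -/
noncomputable def topForm (hp : 2 ≤ p) (hc : ∀ i, c i ∈ maximalIdeal R)
    (hb : ∀ i, b i ∈ maximalIdeal R) : (MvPolynomial (Fin n) R ⧸ eqs p c b) →ₗ[R] R :=
  (monoBasis c b hp hc hb).coord fun _ => ⟨p - 1, by omega⟩

theorem topForm_prod (hp : 2 ≤ p) (hc : ∀ i, c i ∈ maximalIdeal R)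
    (hb : ∀ i, b i ∈ maximalIdeal R) (f : Fin n → ℕ) (hf : ∀ i, f i < p) :
    topForm c b hp hc hb (∏ i, Ideal.Quotient.mk (eqs p c b) (X i) ^ f i) =
      if ∀ i, f i = p - 1 then 1 else 0 := by
  classical
  have : (∏ i, Ideal.Quotient.mk (eqs p c b) (X i) ^ f i) =
      monoBasis c b hp hc hb (fun i => ⟨f i, hf i⟩) := by rw [monoBasis_apply]; rfl
  rw [this, topForm, Module.Basis.coord_apply, Module.Basis.repr_self, Finsupp.single_apply]
  simp [_root_.funext_iff, Fin.ext_iff]

theorem topForm_shift (hp : 2 ≤ p) (hc : ∀ i, c i ∈ maximalIdeal R)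
    (hb : ∀ i, b i ∈ maximalIdeal R) (d : Fin n → R)
    (σ : (MvPolynomial (Fin n) R ⧸ eqs p c b) →ₐ[R] MvPolynomial (Fin n) R ⧸ eqs p c b)
    (hσ : ∀ i, σ (Ideal.Quotient.mk _ (X i)) = Ideal.Quotient.mk _ (X i) + algebraMap R _ (d i))
    (x : MvPolynomial (Fin n) R ⧸ eqs p c b) :
    topForm c b hp hc hb (σ x) = topForm c b hp hc hb x := by
  classical
  suffices (topForm c b hp hc hb).comp σ.toLinearMap = topForm c b hp hc hb from
    DFunLike.congr_fun this x
  refine (monoBasis c b hp hc hb).ext fun e => ?_
  rw [LinearMap.comp_apply, monoBasis_apply]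
  show topForm c b hp hc hb (σ (mono c b e)) = topForm c b hp hc hb (mono c b e)
  simp only [mono, map_prod, map_pow, hσ, add_pow]
  rw [Finset.prod_univ_sum, map_sum]
  have key : ∀ z ∈ Fintype.piFinset (fun i => Finset.range ((e i : ℕ) + 1)),
      topForm c b hp hc hb (∏ i, (Ideal.Quotient.mk (eqs p c b) (X i) ^ z i *
        algebraMap R _ (d i) ^ ((e i : ℕ) - z i) * ((e i : ℕ).choose (z i) : MvPolynomial (Fin n) R ⧸ eqs p c b))) =
      if z = fun i => (e i : ℕ) then topForm c b hp hc hb (mono c b e) else 0 := by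
    intro z hz
    rw [Fintype.mem_piFinset] at hz
    have hzle : ∀ i, z i ≤ e i := fun i => by have := hz i; rw [Finset.mem_range] at this; omega
    have hzp : ∀ i, z i < p := fun i => lt_of_le_of_lt (hzle i) (e i).2
    simp only [← map_natCast (algebraMap R (MvPolynomial (Fin n) R ⧸ eqs p c b)), ← map_pow (algebraMap R _), mul_assoc,
      ← map_mul (algebraMap R _)]
    rw [Finset.prod_mul_distrib, ← map_prod (algebraMap R _), mul_comm, ← Algebra.smul_def, map_smul,
      smul_eq_mul, topForm_prod c b hp hc hb z hzp]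
    split_ifs with h1 h2 h2
    · subst h2
      simp only [tsub_self, pow_zero, Nat.choose_self, Nat.cast_one, mul_one, Finset.prod_const_one]
      rw [mono, topForm_prod c b hp hc hb _ (fun i => (e i).2), if_pos h1]
    · exfalso
      refine h2 (funext fun i => ?_)
      have := hzle i
      have := (e i).2
      have := h1 i
      omega
    · subst h2
      rw [mono, topForm_prod c b hp hc hb _ (fun i => (e i).2), if_neg h1, mul_zero]
    · rw [mul_zero]
  rw [Finset.sum_congr rfl key, Finset.sum_ite_eq', if_pos]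
  · simp [mono]
  · simp [Fintype.mem_piFinset]

theorem topForm_pairing_bijective (hp : 2 ≤ p) (hc : ∀ i, c i ∈ maximalIdeal R)
    (hb : ∀ i, b i ∈ maximalIdeal R) :
    Function.Bijective ((LinearMap.mul R (MvPolynomial (Fin n) R ⧸ eqs p c b)).compr₂
      (topForm c b hp hc hb)) := by
  classical
  set A := MvPolynomial (Fin n) R ⧸ eqs p c b
  set B := monoBasis c b hp hc hb
  set τ := topForm c b hp hc hb
  set P := (LinearMap.mul R A).compr₂ τ
  haveI := finite hp c b
  haveI := (free_finrank_fin hp c b).1
  have hrev : ∀ f e : Fin n → Fin p, P (B fun i => (f i).rev) (B e) - B.coord f (B e) ∈ maximalIdeal R := by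
    intro f e
    show τ (B _ * B e) - _ ∈ _
    rw [Module.Basis.coord_apply, Module.Basis.repr_self, Finsupp.single_apply,
      monoBasis_apply, monoBasis_apply, mono, mono, ← Finset.prod_mul_distrib]
    simp only [← pow_add]
    by_cases h : ∀ i, ((f i).rev : ℕ) + (e i : ℕ) < p
    · rw [topForm_prod c b hp hc hb _ h]
      have : (∀ i, ((f i).rev : ℕ) + (e i : ℕ) = p - 1) ↔ e = f := by
        simp only [_root_.funext_iff, Fin.ext_iff, Fin.val_rev]
        exact forall_congr' fun i => by have := (f i).2; have := (e i).2; omega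
      rw [if_congr this rfl rfl, sub_self]
      exact zero_mem _
    · push Not at h
      obtain ⟨i, hi⟩ := h
      have hef : e ≠ f := fun he => by
        subst he
        rw [Fin.val_rev] at hi
        have := (e i).2
        omega
      rw [if_neg hef, sub_zero]
      have hmem := prod_pow_mem_map c b hc hb (fun j => ((f j).rev : ℕ) + (e j : ℕ)) i hi
      have := Ideal.smul_top_eq_map (S := A) (maximalIdeal R)
      rw [← Submodule.restrictScalars_mem R, ← this] at hmem
      have h2 := Submodule.mem_map_of_mem (f := τ) hmem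
      rw [Submodule.map_smul''] at h2
      exact Submodule.smul_le.2 (fun r hr m _ => Ideal.mul_mem_right _ _ hr) h2
  have hsurj : Function.Surjective P := by
    rw [← LinearMap.range_eq_top]
    refine top_le_iff.1 (Submodule.le_of_le_smul_of_le_jacobson_bot (I := maximalIdeal R)
      (Module.finite_def.1 inferInstance) (IsLocalRing.maximalIdeal_le_jacobson _) ?_)
    rw [← B.dualBasis.span_eq, Submodule.span_le]
    rintro _ ⟨f, rfl⟩
    rw [Module.Basis.coe_dualBasis]
    have hdiff : P (B fun i => (f i).rev) - B.coord f ∈ maximalIdeal R • (⊤ : Submodule R (Module.Dual R A)) := by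
      rw [← B.sum_dual_apply_smul_coord (P (B fun i => (f i).rev) - B.coord f)]
      exact sum_mem fun e _ => Submodule.smul_mem_smul (hrev f e) Submodule.mem_top
    rw [SetLike.mem_coe, show B.coord f = P (B fun i => (f i).rev) - (P (B fun i => (f i).rev) - B.coord f) by abel]
    refine sub_mem (Submodule.mem_sup_left (LinearMap.mem_range_self _ _)) (Submodule.mem_sup_right ?_)
    rw [show Set.range B.coord = Set.range B.dualBasis by rw [Module.Basis.coe_dualBasis],
      B.dualBasis.span_eq]
    exact hdiff
  refine ⟨?_, hsurj⟩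
  have h := OrzechProperty.injective_of_surjective_endomorphism
    (B.toDualEquiv.symm.toLinearMap.comp P) (B.toDualEquiv.symm.surjective.comp hsurj)
  exact Function.Injective.of_comp (f := B.toDualEquiv.symm) h

end Basis

section Skew

theorem symmetric_skew {R : Type u} [CommRing R] {A : Type w} [CommRing A] [Algebra R A]
    {G : Type v} [Group G] [MulSemiringAction G A] [SMulCommClass G R A] [Finite G]
    (τ : A →ₗ[R] R) (hτ : ∀ (g : G) (x : A), τ (g • x) = τ x)
    (hbij : Function.Bijective ((LinearMap.mul R A).compr₂ τ)) :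
    ∃ φ : SkewMonoidAlgebra A G →ₗ[R] R,
      (∀ x y : SkewMonoidAlgebra A G, φ (x * y) = φ (y * x)) ∧
      Function.Injective (fun y : SkewMonoidAlgebra A G => fun x : SkewMonoidAlgebra A G => φ (x * y)) ∧
      ∀ ψ : SkewMonoidAlgebra A G →ₗ[R] R, ∃ y : SkewMonoidAlgebra A G, ∀ x, ψ x = φ (x * y) := by
  classical
  let φ : SkewMonoidAlgebra A G →ₗ[R] R :=
    { toFun := fun x => τ (x.coeff 1)
      map_add' := fun x y => by simp
      map_smul' := fun r x => by simp }
  have hφ : ∀ (g h : G) (x y : A),
      φ (SkewMonoidAlgebra.single g x * SkewMonoidAlgebra.single h y) = if h = g⁻¹ then τ (x * g • y) else 0 := by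
    intro g h x y
    show τ ((SkewMonoidAlgebra.single g x * SkewMonoidAlgebra.single h y).coeff 1) = _
    rw [SkewMonoidAlgebra.single_mul_single, SkewMonoidAlgebra.coeff_single_apply]
    simp only [mul_eq_one_iff_eq_inv']
    split_ifs <;> simp
  have hφs : ∀ (g : G) (x : A) (y : SkewMonoidAlgebra A G),
      φ (SkewMonoidAlgebra.single g x * y) = τ (x * g • y.coeff g⁻¹) := by
    intro g x y
    induction y using SkewMonoidAlgebra.induction_on with
    | zero => simp
    | single h c =>
      rw [hφ, SkewMonoidAlgebra.coeff_single_apply]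
      split_ifs <;> simp
    | add y z hy hz => rw [mul_add, map_add, hy, hz, SkewMonoidAlgebra.coeff_add]; simp [mul_add]
  refine ⟨φ, ?_, ?_, ?_⟩
  · intro x y
    induction x using SkewMonoidAlgebra.induction_on with
    | zero => simp
    | add x x' hx hx' => rw [add_mul, mul_add, map_add, map_add, hx, hx']
    | single g a =>
      induction y using SkewMonoidAlgebra.induction_on with
      | zero => simp
      | add y y' hy hy' => rw [add_mul, mul_add, map_add, map_add, hy, hy']
      | single h c =>
        rw [hφ, hφ]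
        by_cases hh : h = g⁻¹
        · subst hh
          rw [if_pos rfl, if_pos (inv_inv g).symm, ← hτ g⁻¹, smul_mul', inv_smul_smul, mul_comm]
        · rw [if_neg hh, if_neg]
          intro hg
          exact hh (by rw [hg, inv_inv])
  · intro y y' h
    refine SkewMonoidAlgebra.ext fun g => ?_
    have : ∀ x : A, τ (x * g⁻¹ • y.coeff g) = τ (x * g⁻¹ • y'.coeff g) := fun x => by
      have := congrFun h (SkewMonoidAlgebra.single g⁻¹ x)
      simpa [hφs] using this
    have e := hbij.1 (a₁ := g⁻¹ • y.coeff g) (a₂ := g⁻¹ • y'.coeff g) (LinearMap.ext fun x => by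
      simpa [mul_comm] using this x)
    simpa using congrArg (fun t => g • t) e
  · intro ψ
    haveI := Fintype.ofFinite G
    choose c hc using fun g : G => hbij.2
      { toFun := fun x : A => ψ (SkewMonoidAlgebra.single g x)
        map_add' := fun x y => by rw [SkewMonoidAlgebra.single_add, map_add]
        map_smul' := fun r x => by rw [← SkewMonoidAlgebra.smul_single, map_smul]; rfl }
    refine ⟨SkewMonoidAlgebra.ofCoeff (Finsupp.equivFunOnFinite.symm fun g => g • c g⁻¹), fun x => ?_⟩
    induction x using SkewMonoidAlgebra.induction_on with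
    | zero => simp
    | add x x' hx hx' => rw [add_mul, map_add, map_add, hx, hx']
    | single g a =>
      rw [hφs]
      have := DFunLike.congr_fun (hc g) a
      simp only [LinearMap.compr₂_apply, LinearMap.mul_apply', LinearMap.coe_mk, AddHom.coe_mk] at this
      rw [← this]
      simp [mul_comm]

end Skew

end Groth.Agent.ASFamily
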