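import Groth.Agent.WildQuotGal.ASFamily

/-!
Minor elements in a family of additive extensions.
-/

set_option autoImplicit false

universe u

namespace Groth.Agent.ASFamily

open MvPolynomial

theorem isIntegrallyClosed_of_retraction {B B' A E : Type u} [CommRing B] [IsDomain B] [CommRing B']
    [IsDomain B'] [Algebra B B'] (M : Submonoid B) [IsLocalization M B'] (hM : M ≤ nonZeroDivisors B)
    [CommRing A] [IsDomain A] [IsIntegrallyClosed A] [CommRing E] [Algebra B' E]
    (φ : B →+* A) (hφ : Function.Injective φ) (ψ : A →+* E) (r : E →ₗ[B'] B') (hr : r 1 = 1)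
    (hψ : ∀ x : B, ψ (φ x) = algebraMap B' E (algebraMap B B' x)) :
    IsIntegrallyClosed B' := by
  let K := FractionRing B
  have hu : ∀ y : M, IsUnit (algebraMap B K y) := fun y =>
    IsLocalization.map_units K (⟨y.1, hM y.2⟩ : nonZeroDivisors B)
  letI : Algebra B' K := (IsLocalization.lift (S := B') hu).toAlgebra
  haveI : IsScalarTower B B' K := IsScalarTower.of_algebraMap_eq fun b => (IsLocalization.lift_eq hu b).symm
  haveI : IsFractionRing B' K := IsFractionRing.isFractionRing_of_isDomain_of_isLocalization M B' K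
  have hrb : ∀ y : B', r (algebraMap B' E y) = y := fun y => by
    rw [Algebra.algebraMap_eq_smul_one (R := B') (A := E), map_smul, hr, smul_eq_mul, mul_one]
  refine (isIntegrallyClosed_iff K).2 fun {x} hx => ?_
  obtain ⟨⟨m, hm⟩, hmx⟩ := IsIntegral.exists_multiple_integral_of_isLocalization M x hx
  rw [Submonoid.smul_def, Algebra.smul_def] at hmx
  obtain ⟨s, t, ht, hst⟩ := IsFractionRing.div_surjective B (algebraMap B K m * x)
  let L := FractionRing A
  let j : K →+* L := IsFractionRing.map (A := B) (B := A) hφ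
  have hj : ∀ b : B, j (algebraMap B K b) = algebraMap A L (φ b) := fun b =>
    IsLocalization.map_eq _ b
  have hint : IsIntegral A (j (algebraMap B K m * x)) := by
    obtain ⟨P, hP, hPx⟩ := hmx
    refine ⟨P.map φ, hP.map φ, ?_⟩
    rw [Polynomial.eval₂_map]
    have : (algebraMap A L).comp φ = j.comp (algebraMap B K) := RingHom.ext fun b => (hj b).symm
    rw [this, ← Polynomial.hom_eval₂, hPx, map_zero]
  obtain ⟨c, hc⟩ := IsIntegrallyClosed.isIntegral_iff.1 hint
  have ht0 : t ≠ 0 := nonZeroDivisors.ne_zero ht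
  have htK : algebraMap B K t ≠ 0 := fun h => ht0 (IsFractionRing.injective B K (h.trans (map_zero _).symm))
  have h1 : φ s = φ t * c := by
    refine IsFractionRing.injective A L ?_
    rw [map_mul, hc, ← hj, ← hj, ← map_mul, ← hst, mul_div_cancel₀ _ htK]
  have h2 : algebraMap B B' s = algebraMap B B' t * r (ψ c) := by
    have h := congrArg (fun z => r (ψ z)) h1
    simp only [map_mul, hψ] at h
    rw [← Algebra.smul_def, map_smul, smul_eq_mul] at h
    rw [← h, hrb]
  obtain ⟨v, hv⟩ := IsLocalization.map_units B' (⟨m, hm⟩ : M)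
  refine ⟨(↑v⁻¹ : B') * r (ψ c), ?_⟩
  have h3 : algebraMap B' K (r (ψ c)) = algebraMap B K m * x := by
    rw [← hst, eq_div_iff htK, IsScalarTower.algebraMap_apply B B' K s, h2, map_mul,
      IsScalarTower.algebraMap_apply B B' K t, mul_comm]
  rw [map_mul, h3, IsScalarTower.algebraMap_apply B B' K m, ← mul_assoc, ← map_mul]
  simp only at hv
  rw [← hv, Units.inv_mul, map_one, one_mul]

variable {R : Type u} [CommRing R] (p : ℕ) [hp : Fact p.Prime] [CharP R p] {n : ℕ}
variable (μ : R) (a x : Fin n → R) (i₀ : Fin n)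

/-- The relations of the minor elements. -/
noncomputable abbrev minorEqs : Ideal (MvPolynomial {j : Fin n // j ≠ i₀} R) :=
  eqs p (fun j : {j : Fin n // j ≠ i₀} => (μ * a i₀ * a j.1) ^ (p - 1))
    (fun j => a i₀ ^ p * x j.1 - a j.1 ^ p * x i₀)

/-- The minor elements. -/
noncomputable def minor (j : {j : Fin n // j ≠ i₀}) :
    MvPolynomial (Fin n) R ⧸ eqs p (fun i => (μ * a i) ^ (p - 1)) x :=
  algebraMap R _ (a i₀) * Ideal.Quotient.mk _ (X j.1) - algebraMap R _ (a j.1) * Ideal.Quotient.mk _ (X i₀)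

theorem sub_pow_of_char {S : Type u} [CommRing S] [Algebra R S] (y z : S) :
    (y - z) ^ p = y ^ p - z ^ p := by
  rcases subsingleton_or_nontrivial S with h | h
  · exact Subsingleton.elim _ _
  · have h0 : (p : S) = 0 := by rw [← map_natCast (algebraMap R S), CharP.cast_eq_zero R p, map_zero]
    haveI : CharP S p := (CharP.charP_iff_prime_eq_zero hp.out).2 h0
    exact sub_pow_char _ _

theorem minorEqs_le_ker :
    minorEqs p μ a x i₀ ≤ RingHom.ker (MvPolynomial.aeval (minor p μ a x i₀)) := by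
  rw [Ideal.span_le]
  rintro _ ⟨j, rfl⟩
  rw [SetLike.mem_coe, RingHom.mem_ker]
  have e0 := relation (p := p) (fun i => (μ * a i) ^ (p - 1)) x i₀
  have ej := relation (p := p) (fun i => (μ * a i) ^ (p - 1)) x j.1
  have h0 := fun r : R => (pow_sub_one_mul hp.out.ne_zero
    (algebraMap R (MvPolynomial (Fin n) R ⧸ eqs p (fun i => (μ * a i) ^ (p - 1)) x) r)).symm
  simp only [minor, map_sub, map_mul, map_pow, aeval_X, aeval_C, sub_pow_of_char (R := R) p, mul_pow, e0, ej,
    h0 (a i₀), h0 (a j.1)]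
  ring

theorem exists_lift [IsDomain R] (d : R) [Fact (d ≠ 0)] (hd : a i₀ ∣ d) :
    ∃ (E : Type u) (_ : CommRing E)
      (_ : Algebra (Localization.Away (algebraMap R (MvPolynomial _ R ⧸ minorEqs p μ a x i₀) d)) E)
      (_ : Module.Free (Localization.Away (algebraMap R (MvPolynomial _ R ⧸ minorEqs p μ a x i₀) d)) E)
      (r : E →ₗ[Localization.Away (algebraMap R (MvPolynomial _ R ⧸ minorEqs p μ a x i₀) d)]
        Localization.Away (algebraMap R (MvPolynomial _ R ⧸ minorEqs p μ a x i₀) d))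
      (ψ : MvPolynomial (Fin n) R ⧸ eqs p (fun i => (μ * a i) ^ (p - 1)) x →+* E),
      r 1 = 1 ∧ ∀ f : MvPolynomial {j : Fin n // j ≠ i₀} R,
        ψ (MvPolynomial.aeval (minor p μ a x i₀) f) =
          algebraMap (Localization.Away (algebraMap R (MvPolynomial _ R ⧸ minorEqs p μ a x i₀) d)) E
            (algebraMap (MvPolynomial _ R ⧸ minorEqs p μ a x i₀)
              (Localization.Away (algebraMap R (MvPolynomial _ R ⧸ minorEqs p μ a x i₀) d))
              (Ideal.Quotient.mk (minorEqs p μ a x i₀) f)) := by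
  classical
  set B := MvPolynomial {j : Fin n // j ≠ i₀} R ⧸ minorEqs p μ a x i₀
  set B' := Localization.Away (algebraMap R B d)
  haveI : Nontrivial R := inferInstance
  obtain ⟨hfree, hrank⟩ := free_finrank (R := R) (ι := {j : Fin n // j ≠ i₀}) hp.out.two_le
    (fun j => (μ * a i₀ * a j.1) ^ (p - 1)) (fun j => a i₀ ^ p * x j.1 - a j.1 ^ p * x i₀)
  have hinj : ∀ y : B, algebraMap R B d * y = 0 → y = 0 := fun y hy => by
    rw [← Algebra.smul_def] at hy
    exact (smul_eq_zero.1 hy).resolve_left Fact.out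
  haveI : Nontrivial B' := by
    refine ⟨⟨algebraMap B B' 1, algebraMap B B' 0, fun h => ?_⟩⟩
    obtain ⟨⟨_, N, rfl⟩, hN⟩ := (IsLocalization.eq_iff_exists (Submonoid.powers (algebraMap R B d)) B').1 h
    simp only [mul_one, mul_zero, ← map_pow] at hN
    have hB : Nontrivial B := Module.nontrivial_of_finrank_pos (R := R) (by
      rw [hrank]; exact pow_pos hp.out.pos _)
    have := hN.symm.trans (mul_one _).symm
    rw [← Algebra.smul_def, eq_comm, smul_eq_zero] at this
    exact this.elim (pow_ne_zero N Fact.out) one_ne_zero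
  let G : Polynomial B' := Polynomial.X ^ p -
    (Polynomial.C (algebraMap R B' ((μ * a i₀) ^ (p - 1))) * Polynomial.X + Polynomial.C (algebraMap R B' (x i₀)))
  have hdeg := lt_of_le_of_lt (Polynomial.degree_linear_le
    (a := algebraMap R B' ((μ * a i₀) ^ (p - 1))) (b := algebraMap R B' (x i₀)))
    (show (1 : WithBot ℕ) < (p : WithBot ℕ) by exact_mod_cast hp.out.one_lt)
  have hG : G.Monic := Polynomial.monic_X_pow_sub hdeg
  haveI := hG.free_adjoinRoot
  let E := AdjoinRoot G
  obtain ⟨v, hv⟩ : IsUnit (algebraMap R E (a i₀)) := by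
    have h1 : IsUnit (algebraMap R B' d) := by
      rw [IsScalarTower.algebraMap_apply R B B']
      exact IsLocalization.map_units B' ⟨_, Submonoid.mem_powers (algebraMap R B d)⟩
    rw [IsScalarTower.algebraMap_apply R B' E]
    exact (isUnit_of_dvd_unit (map_dvd _ hd) h1).map _
  have hroot : AdjoinRoot.root G ^ p =
      algebraMap R E ((μ * a i₀) ^ (p - 1)) * AdjoinRoot.root G + algebraMap R E (x i₀) := by
    have h := AdjoinRoot.eval₂_root G
    simp only [G, Polynomial.eval₂_sub, Polynomial.eval₂_pow, Polynomial.eval₂_X, Polynomial.eval₂_add,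
      Polynomial.eval₂_mul, Polynomial.eval₂_C] at h
    rw [sub_eq_zero] at h
    exact h
  let Z : {j : Fin n // j ≠ i₀} → E := fun j =>
    algebraMap B' E (algebraMap B B' (Ideal.Quotient.mk (minorEqs p μ a x i₀) (X j)))
  have hZ : ∀ j, Z j ^ p = algebraMap R E ((μ * a i₀ * a j.1) ^ (p - 1)) * Z j +
      algebraMap R E (a i₀ ^ p * x j.1 - a j.1 ^ p * x i₀) := fun j => by
    simp only [Z, ← map_pow]
    rw [map_pow (Ideal.Quotient.mk _), relation (p := p)]
    simp only [map_add, map_mul, IsScalarTower.algebraMap_apply R B' E, IsScalarTower.algebraMap_apply R B B']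
    rfl
  let w : Fin n → E := fun i => if h : i = i₀ then AdjoinRoot.root G else
    (↑v⁻¹ : E) * (Z ⟨i, h⟩ + algebraMap R E (a i) * AdjoinRoot.root G)
  have hw : ∀ f ∈ eqs p (fun i => (μ * a i) ^ (p - 1)) x, MvPolynomial.aeval w f = 0 := by
    intro f hf
    refine (Ideal.span_le (I := RingHom.ker (MvPolynomial.aeval w))).2 ?_ hf
    rintro _ ⟨i, rfl⟩
    rw [SetLike.mem_coe, RingHom.mem_ker]
    simp only [map_sub, map_mul, map_pow, aeval_X, aeval_C, w]
    by_cases h : i = i₀
    · subst h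
      rw [dif_pos rfl, hroot]
      simp only [map_mul, map_pow]
      ring
    · rw [dif_neg h]
      have key : (Z ⟨i, h⟩ + algebraMap R E (a i) * AdjoinRoot.root G) ^ p =
          (↑v : E) ^ (p - 1) * algebraMap R E ((μ * a i) ^ (p - 1)) *
            (Z ⟨i, h⟩ + algebraMap R E (a i) * AdjoinRoot.root G) + (↑v : E) ^ p * algebraMap R E (x i) := by
        have e1 : (Z ⟨i, h⟩ + algebraMap R E (a i) * AdjoinRoot.root G) ^ p =
            Z ⟨i, h⟩ ^ p + (algebraMap R E (a i) * AdjoinRoot.root G) ^ p := by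
          have h0 : (p : E) = 0 := by rw [← map_natCast (algebraMap R E), CharP.cast_eq_zero R p, map_zero]
          rw [(Commute.all _ _).add_pow_prime_eq hp.out, h0]
          simp
        rw [e1, hZ, mul_pow (algebraMap R E (a i)) (AdjoinRoot.root G), hroot, hv]
        simp only [map_sub, map_mul, map_pow, mul_pow]
        rw [← pow_sub_one_mul hp.out.ne_zero (algebraMap R E (a i))]
        ring
      rw [mul_pow, key]
      have hvp : (↑v⁻¹ : E) ^ p * (↑v : E) ^ p = 1 := by rw [← mul_pow, Units.inv_mul, one_pow]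
      have hvp' : (↑v⁻¹ : E) ^ p * (↑v : E) ^ (p - 1) = ↑v⁻¹ := by
        rw [← pow_sub_one_mul hp.out.ne_zero (↑v⁻¹ : E), mul_right_comm, ← mul_pow, Units.inv_mul, one_pow, one_mul]
      simp only [← mul_assoc, mul_add, hvp, hvp', one_mul, map_mul, map_pow]
      ring
  let ψ := Ideal.Quotient.liftₐ (eqs p (fun i => (μ * a i) ^ (p - 1)) x) (MvPolynomial.aeval w) hw
  let pb := AdjoinRoot.powerBasis' hG
  have hpb : 0 < pb.dim := by
    rw [show pb.dim = G.natDegree from AdjoinRoot.powerBasis'_dim hG,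
      show G.natDegree = p from Polynomial.natDegree_eq_of_degree_eq_some (by
        show (Polynomial.X ^ p - _ : Polynomial B').degree = _
        rw [Polynomial.degree_sub_eq_left_of_degree_lt] <;> rw [Polynomial.degree_X_pow]
        exact hdeg)]
    exact hp.out.pos
  refine ⟨E, inferInstance, inferInstance, inferInstance, pb.basis.coord ⟨0, hpb⟩, ψ.toRingHom, ?_, ?_⟩
  · have : (1 : E) = pb.basis ⟨0, hpb⟩ := by simp
    rw [this, Module.Basis.coord_apply, Module.Basis.repr_self, Finsupp.single_eq_same]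
  · suffices ψ.comp (MvPolynomial.aeval (minor p μ a x i₀)) =
        ((IsScalarTower.toAlgHom R B' E).comp (IsScalarTower.toAlgHom R B B')).comp
          (Ideal.Quotient.mkₐ R (minorEqs p μ a x i₀)) from fun f => DFunLike.congr_fun this f
    refine MvPolynomial.algHom_ext fun j => ?_
    show ψ (MvPolynomial.aeval (minor p μ a x i₀) (X j)) = Z j
    rw [aeval_X]
    simp only [minor, map_sub, map_mul, AlgHom.commutes]
    show algebraMap R E (a i₀) * MvPolynomial.aeval w (X j.1) - algebraMap R E (a j.1) * MvPolynomial.aeval w (X i₀) = _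
    simp only [aeval_X, w, dif_neg j.2, dif_pos]
    rw [← mul_assoc, ← hv, Units.mul_inv, one_mul, add_sub_cancel_right]

theorem ker_aeval_minor [IsDomain R] (ha : a i₀ ≠ 0) :
    RingHom.ker (MvPolynomial.aeval (minor p μ a x i₀)) = minorEqs p μ a x i₀ := by
  refine le_antisymm (fun f hf => ?_) (minorEqs_le_ker p μ a x i₀)
  haveI := Fact.mk ha
  haveI : Nontrivial R := inferInstance
  obtain ⟨E, iE, iA, iF, r, ψ, hr, hψ⟩ := exists_lift p μ a x i₀ (a i₀) (dvd_refl _)
  have h := hψ f
  rw [RingHom.mem_ker.1 hf, map_zero] at h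
  have h2 := congrArg r h
  rw [map_zero, Algebra.algebraMap_eq_smul_one (R := Localization.Away (algebraMap R
    (MvPolynomial {j : Fin n // j ≠ i₀} R ⧸ minorEqs p μ a x i₀) (a i₀))) (A := E), map_smul, hr, smul_eq_mul,
    mul_one] at h2
  obtain ⟨⟨_, N, rfl⟩, hN⟩ := (IsLocalization.map_eq_zero_iff
    (Submonoid.powers (algebraMap R (MvPolynomial {j : Fin n // j ≠ i₀} R ⧸ minorEqs p μ a x i₀) (a i₀))) _ _).1 h2.symm
  haveI := (free_finrank (R := R) (ι := {j : Fin n // j ≠ i₀}) hp.out.two_le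
    (fun j => (μ * a i₀ * a j.1) ^ (p - 1)) (fun j => a i₀ ^ p * x j.1 - a j.1 ^ p * x i₀)).1
  simp only [← map_pow] at hN
  rw [← Algebra.smul_def, smul_eq_zero] at hN
  exact Ideal.Quotient.eq_zero_iff_mem.1 (hN.resolve_left (pow_ne_zero N ha))

theorem minor_spec [IsDomain R] (ha : a i₀ ≠ 0) (hμ : μ ≠ 0)
    [IsDomain (MvPolynomial (Fin n) R ⧸ eqs p (fun i => (μ * a i) ^ (p - 1)) x)]
    [IsIntegrallyClosed (MvPolynomial (Fin n) R ⧸ eqs p (fun i => (μ * a i) ^ (p - 1)) x)] :
    let B := MvPolynomial {j : Fin n // j ≠ i₀} R ⧸ minorEqs p μ a x i₀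
    Module.Free R B ∧ Module.finrank R B = p ^ (n - 1) ∧ IsDomain B ∧
      IsIntegrallyClosed (Localization.Away (algebraMap R B (μ * a i₀))) := by
  intro B
  obtain ⟨hfree, hrank⟩ := free_finrank (R := R) (ι := {j : Fin n // j ≠ i₀}) hp.out.two_le
    (fun j => (μ * a i₀ * a j.1) ^ (p - 1)) (fun j => a i₀ ^ p * x j.1 - a j.1 ^ p * x i₀)
  let φ : B →+* MvPolynomial (Fin n) R ⧸ eqs p (fun i => (μ * a i) ^ (p - 1)) x :=
    Ideal.Quotient.lift _ (MvPolynomial.aeval (minor p μ a x i₀)).toRingHom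
      fun f hf => minorEqs_le_ker p μ a x i₀ hf
  have hφ : Function.Injective φ := RingHom.lift_injective_of_ker_le_ideal _ _
    (ker_aeval_minor p μ a x i₀ ha).le
  haveI hdom : IsDomain B := hφ.isDomain
  refine ⟨hfree, ?_, hdom, ?_⟩
  · rw [hrank, Fintype.card_subtype_compl, Fintype.card_fin, Fintype.card_subtype_eq]
  · have hd : μ * a i₀ ≠ 0 := mul_ne_zero hμ ha
    haveI := Fact.mk hd
    haveI := hfree
    haveI : Nontrivial B := inferInstance
    have hd' : algebraMap R B (μ * a i₀) ≠ 0 := fun h => hd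
      (FaithfulSMul.algebraMap_injective R B (h.trans (map_zero _).symm))
    have hM := powers_le_nonZeroDivisors_of_noZeroDivisors hd'
    haveI : IsDomain (Localization.Away (algebraMap R B (μ * a i₀))) :=
      IsLocalization.isDomain_localization hM
    obtain ⟨E, iE, iA, iF, r, ψ, hr, hψ⟩ := exists_lift p μ a x i₀ (μ * a i₀) (dvd_mul_left _ _)
    refine isIntegrallyClosed_of_retraction (Submonoid.powers (algebraMap R B (μ * a i₀))) hM φ hφ ψ r hr ?_
    intro b
    obtain ⟨f, rfl⟩ := Ideal.Quotient.mk_surjective b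
    exact hψ f

end Groth.Agent.ASFamily
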