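import Groth.Agent.WildQuotGal.CodimOneBij
import Groth.Agent.IsoLocus.Basic

/-!
# Morphisms of finite flat schemes which are isomorphisms in codimension one
-/

set_option autoImplicit false

universe u

open CategoryTheory Limits AlgebraicGeometry TopologicalSpace

namespace Groth.Agent.WildQuotGal

theorem isIso_fiberMap_of_eq {X Y S : Scheme.{u}} (f : X ⟶ Y) (h : Y ⟶ S) (k : X ⟶ S) (hk : f ≫ h = k)
    (s : S) {h₁ h₂}
    (H : IsIso (pullback.map k (S.fromSpecResidueField s) h (S.fromSpecResidueField s) f (𝟙 _) (𝟙 S) h₁ h₂)) :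
    IsIso (MoreMor.fiberMap f h s) := by
  subst hk
  have e : MoreMor.fiberMap f h s =
      pullback.map (f ≫ h) (S.fromSpecResidueField s) h (S.fromSpecResidueField s) f (𝟙 _) (𝟙 S) h₁ h₂ := by
    refine pullback.hom_ext (f := h) (g := S.fromSpecResidueField s) ?_ ?_ <;>
      (simp [MoreMor.fiberMap, Scheme.Hom.fiberι, Scheme.Hom.fiberToSpecResidueField, pullback.map]; try rfl)
  rw [e]
  exact H

theorem ringKrullDim_stalk_fromSpec {S : Scheme.{u}} {V : S.Opens} (hV : IsAffineOpen V)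
    (p : PrimeSpectrum Γ(S, V)) :
    ringKrullDim (S.presheaf.stalk (hV.fromSpec p)) = p.asIdeal.height := by
  have hm : hV.fromSpec p ∈ V := by
    have : hV.fromSpec p ∈ Set.range hV.fromSpec := ⟨p, rfl⟩
    rwa [hV.range_fromSpec] at this
  exact @IsLocalization.AtPrime.ringKrullDim_eq_height _ _ p.asIdeal _ _ _
    (TopCat.Presheaf.algebra_section_stalk S.presheaf (⟨hV.fromSpec p, hm⟩ : V))
    (hV.isLocalization_stalk' p hm)

/-- every open containing the points of codimension `0` of `S`, and stable under specialization, is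
everything -/
theorem eq_univ_of_isClosed_of_codimOne {S : Scheme.{u}} (Z : Set S) (hZ : IsClosed Z)
    (h : ∀ s : S, ringKrullDim (S.presheaf.stalk s) ≤ 1 → s ∈ Z) : Z = Set.univ := by
  refine Set.eq_univ_of_forall fun s => ?_
  obtain ⟨V, hV, hsV, -⟩ := exists_isAffineOpen_mem_and_subset (Opens.mem_top s)
  obtain ⟨q, hq, hle⟩ := Ideal.exists_minimalPrimes_le (I := (⊥ : Ideal Γ(S, V)))
    (J := (hV.primeIdealOf ⟨s, hsV⟩).asIdeal) bot_le
  haveI := hq.1.1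
  have h0 : q.height = 0 := Ideal.height_eq_zero_iff.mpr (by simpa [minimalPrimes] using hq)
  have hd : hV.fromSpec ⟨q, inferInstance⟩ ∈ Z := h _ (by
    rw [ringKrullDim_stalk_fromSpec hV]
    change ((q.height : WithBot ℕ∞)) ≤ 1
    rw [h0]; exact zero_le_one)
  have hsp : hV.fromSpec ⟨q, inferInstance⟩ ⤳ hV.fromSpec (hV.primeIdealOf ⟨s, hsV⟩) :=
    ((PrimeSpectrum.le_iff_specializes ⟨q, inferInstance⟩ (hV.primeIdealOf ⟨s, hsV⟩)).mp hle).map
      hV.fromSpec.continuous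
  rw [hV.fromSpec_primeIdealOf] at hsp
  exact hsp.mem_closed hZ hd

variable {X Z S : Scheme.{u}} (f : X ⟶ Z) (h : Z ⟶ S) [IsLocallyNoetherian S]
  [IsFinite (f ≫ h)] [Flat (f ≫ h)] [IsFinite h] [Flat h]

include h in
/-- A morphism of finite flat schemes over a locally Noetherian base which is fibrewise an
isomorphism in codimension at most one is an isomorphism. -/
theorem isIso_of_fiberMap_codimOne
    (hs : ∀ s : S, ringKrullDim (S.presheaf.stalk s) ≤ 1 → IsIso (MoreMor.fiberMap f h s)) : IsIso f := by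
  haveI : IsFinite f := IsFinite.of_comp f h
  obtain ⟨U, hU, hiso⟩ := IsoLocus.exists_open_iff f h
  refine IsZariskiLocalAtTarget.of_iSup_eq_top (P := MorphismProperty.isomorphisms Scheme.{u})
    (fun V : S.affineOpens => h ⁻¹ᵁ V.1) ?_ fun V => ?_
  · rw [← Scheme.Hom.preimage_iSup, iSup_affineOpens_eq_top]; rfl
  obtain ⟨V, hV⟩ := V
  change IsIso (f ∣_ (h ⁻¹ᵁ V))
  set W := h ⁻¹ᵁ V with hWdef
  have hW : IsAffineOpen W := hV.preimage h
  rw [isIso_morphismRestrict_iff_isIso_app f hW, ConcreteCategory.isIso_iff_bijective]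
  letI : Algebra Γ(S, V) Γ(Z, W) := (h.app V).hom.toAlgebra
  letI : Algebra Γ(S, V) Γ(X, f ⁻¹ᵁ W) := ((f.app W).hom.comp (h.app V).hom).toAlgebra
  haveI : IsNoetherianRing Γ(S, V) := IsLocallyNoetherian.component_noetherian ⟨V, hV⟩
  haveI : Module.Finite Γ(S, V) Γ(Z, W) := h.finite_app V hV
  haveI : Module.Finite Γ(S, V) Γ(X, f ⁻¹ᵁ W) := (f ≫ h).finite_app V hV
  haveI : Module.Flat Γ(S, V) Γ(Z, W) := by
    have := HasRingHomProperty.appLE (P := @Flat) h inferInstance ⟨V, hV⟩ ⟨W, hW⟩ le_rfl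
    rw [← Scheme.Hom.app_eq_appLE] at this
    exact this
  haveI : Module.Flat Γ(S, V) Γ(X, f ⁻¹ᵁ W) := by
    have := HasRingHomProperty.appLE (P := @Flat) (f ≫ h) inferInstance ⟨V, hV⟩
      ⟨(f ≫ h) ⁻¹ᵁ V, hV.preimage _⟩ le_rfl
    rw [← Scheme.Hom.app_eq_appLE] at this
    exact this
  let φ : Γ(Z, W) →ₐ[Γ(S, V)] Γ(X, f ⁻¹ᵁ W) := { (f.app W).hom with commutes' := fun _ => rfl }
  refine bijective_of_height_le_one φ.toLinearMap fun p hp hp1 => ?_
  haveI := hp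
  have hsU : hV.fromSpec ⟨p, hp⟩ ∈ U := (hU _).mpr (hs _ (by
    rw [ringKrullDim_stalk_fromSpec hV]; exact WithBot.coe_le_coe.mpr hp1))
  have hsV : hV.fromSpec ⟨p, hp⟩ ∈ V := by
    have : hV.fromSpec ⟨p, hp⟩ ∈ Set.range hV.fromSpec := ⟨_, rfl⟩
    rwa [hV.range_fromSpec] at this
  obtain ⟨a, haU, has⟩ := hV.exists_basicOpen_le (V := U) ⟨_, hsU⟩ hsV
  have hap : a ∉ p := by
    intro hap
    have : (⟨p, hp⟩ : PrimeSpectrum Γ(S, V)) ∈ hV.fromSpec ⁻¹ᵁ (S.basicOpen a) := has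
    rw [hV.fromSpec_preimage_basicOpen] at this
    exact (PrimeSpectrum.mem_basicOpen _ _).mp this hap
  set r : Γ(Z, W) := h.app V a with hr
  have hle : Z.basicOpen r ≤ h ⁻¹ᵁ U := by
    rw [hr, ← Scheme.preimage_basicOpen]; exact fun x hx => haU hx
  have hbij : Function.Bijective (f.app (Z.basicOpen r)) := by
    rw [← ConcreteCategory.isIso_iff_bijective, ← isIso_morphismRestrict_iff_isIso_app f (hW.basicOpen r)]
    refine ((MorphismProperty.isomorphisms _).arrow_mk_iso_iff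
      (morphismRestrictRestrict f (h ⁻¹ᵁ U) ((h ⁻¹ᵁ U).ι ⁻¹ᵁ Z.basicOpen r) ≪≫ morphismRestrictEq f ?_)).mp ?_
    · rw [Scheme.Hom.image_preimage_eq_opensRange_inf, Scheme.Opens.opensRange_ι]
      exact inf_eq_right.mpr hle
    · exact IsZariskiLocalAtTarget.restrict (P := MorphismProperty.isomorphisms Scheme.{u}) hiso _
  let iZ : Z.basicOpen r ⟶ W := homOfLE (Z.basicOpen_le r)
  let iX : f ⁻¹ᵁ Z.basicOpen r ⟶ f ⁻¹ᵁ W := homOfLE fun x hx => Z.basicOpen_le r hx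
  letI := (Z.presheaf.map iZ.op).hom.toAlgebra
  letI := (X.presheaf.map iX.op).hom.toAlgebra
  haveI := hW.isLocalization_of_eq_basicOpen (f := r) iZ rfl
  haveI := (hW.preimage f).isLocalization_of_eq_basicOpen (f := f.app W r) iX (Scheme.preimage_basicOpen f r)
  have nat : ∀ z, algebraMap Γ(X, f ⁻¹ᵁ W) Γ(X, f ⁻¹ᵁ Z.basicOpen r) (f.app W z) =
      f.app (Z.basicOpen r) (algebraMap Γ(Z, W) Γ(Z, Z.basicOpen r) z) := fun z =>
    (congr($(f.naturality iZ.op) z)).symm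
  have hpow : ∀ n, a ^ n ∉ p := fun n hn => hap (hp.mem_of_pow_mem n hn)
  have smulZ : ∀ n (z : Γ(Z, W)), a ^ n • z = r ^ n * z := fun n z => by
    rw [Algebra.smul_def, map_pow]; rfl
  refine ⟨fun x hx => ?_, fun y => ?_⟩
  · have h0 : algebraMap Γ(Z, W) Γ(Z, Z.basicOpen r) x = 0 := hbij.1 (by
      rw [← nat, map_zero, show f.app W x = 0 from hx, map_zero])
    obtain ⟨⟨_, n, rfl⟩, hn⟩ := (IsLocalization.map_eq_zero_iff (Submonoid.powers r) _ x).mp h0
    exact ⟨a ^ n, hpow n, (smulZ n x).trans hn⟩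
  · obtain ⟨z, hz⟩ := hbij.2 (algebraMap Γ(X, f ⁻¹ᵁ W) Γ(X, f ⁻¹ᵁ Z.basicOpen r) y)
    obtain ⟨⟨x, ⟨_, n, rfl⟩⟩, hxz⟩ := IsLocalization.surj (Submonoid.powers r) z
    have h1 : algebraMap Γ(X, f ⁻¹ᵁ W) Γ(X, f ⁻¹ᵁ Z.basicOpen r) (f.app W (r ^ n) * y) =
        algebraMap Γ(X, f ⁻¹ᵁ W) Γ(X, f ⁻¹ᵁ Z.basicOpen r) (f.app W x) := by
      rw [map_mul, nat, nat, ← hz, ← map_mul, mul_comm, hxz]
    obtain ⟨⟨_, m, rfl⟩, hm⟩ := (IsLocalization.eq_iff_exists (Submonoid.powers (f.app W r)) _).mp h1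
    refine ⟨a ^ (m + n), hpow _, r ^ m * x, ?_⟩
    change f.app W (r ^ m * x) = _
    rw [map_mul, map_pow, ← hm, Algebra.smul_def, map_pow, map_pow]
    change f.app W r ^ m * (f.app W r ^ n * y) = f.app W r ^ (m + n) * y
    rw [pow_add, mul_assoc]

end Groth.Agent.WildQuotGal
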