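import Groth.Agent.WildQuotGal.ASFamilyAut
import Groth.Agent.WildQuotGal.ASFamilyFrob
import Groth.Agent.RegUFD.Basic

/-!
Invariants of hyperplane subgroups in a family of Artin–Schreier extensions.
-/

set_option autoImplicit false

universe u

namespace Groth.Agent.ASFamily

open MvPolynomial IsLocalRing

theorem dvd_of_forall_dvd_mul_pow {R : Type u} [CommRing R] [IsDomain R] [UniqueFactorizationMonoid R]
    {ι : Type*} {S : Finset ι} (hS : S.Nonempty) (f : ι → R) (m : ℕ)
    (h0 : ∀ q : R, Prime q → ∃ i ∈ S, ¬ q ∣ f i) :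
    ∀ d : R, d ≠ 0 → ∀ y : R, (∀ i ∈ S, d ∣ f i ^ m * y) → d ∣ y := by
  intro d
  induction d using UniqueFactorizationMonoid.induction_on_prime with
  | h₁ => intro h; exact absurd rfl h
  | h₂ u hu => intro _ y _; exact hu.dvd
  | h₃ d q hd hq ih =>
    intro _ y hy
    obtain ⟨i, hi, hqi⟩ := h0 q hq
    have hqy : q ∣ y := by
      rcases hq.dvd_or_dvd (dvd_trans (dvd_mul_right q d) (hy i hi)) with h | h
      · exact absurd (hq.dvd_of_dvd_pow h) hqi
      · exact h
    obtain ⟨y', rfl⟩ := hqy
    refine mul_dvd_mul_left q (ih hd y' fun j hj => ?_)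
    have := hy j hj
    rwa [mul_left_comm, mul_dvd_mul_iff_left hq.ne_zero] at this

section Coeff

variable {R : Type u} [CommRing R] [IsLocalRing R] {n p : ℕ} (c b : Fin n → R)

theorem monoBasis_repr_mk (hp : 2 ≤ p) (hc : ∀ i, c i ∈ maximalIdeal R) (hb : ∀ i, b i ∈ maximalIdeal R)
    (P : MvPolynomial (Fin n) R) (hP : ∀ d ∈ P.support, ∀ j, d j < p) (e : Fin n → Fin p) :
    (monoBasis c b hp hc hb).repr (Ideal.Quotient.mk _ P) e =
      coeff (Finsupp.equivFunOnFinite.symm fun j => (e j : ℕ)) P := by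
  classical
  conv_lhs => rw [P.as_sum, map_sum, map_sum, Finsupp.finsetSum_apply]
  have key : ∀ d ∈ P.support, (monoBasis c b hp hc hb).repr (Ideal.Quotient.mk _ (monomial d (coeff d P))) e =
      if d = Finsupp.equivFunOnFinite.symm (fun j => (e j : ℕ)) then coeff d P else 0 := by
    intro d hd
    have h1 : Ideal.Quotient.mk (eqs p c b) (monomial d (coeff d P)) =
        algebraMap R _ (coeff d P) * monoBasis c b hp hc hb (fun j => ⟨d j, hP d hd j⟩) := by
      rw [monoBasis_apply, mono, monomial_eq, map_mul, Finsupp.prod_fintype _ _ (fun _ => pow_zero _), map_prod]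
      simp only [map_pow]
      rfl
    rw [h1, ← Algebra.smul_def, map_smul, Module.Basis.repr_self, Finsupp.smul_apply, Finsupp.single_apply,
      smul_eq_mul, mul_ite, mul_one, mul_zero]
    refine if_congr ⟨fun h => Finsupp.ext fun j => ?_, fun h => funext fun j => Fin.ext ?_⟩ rfl rfl
    · rw [← h]; rfl
    · exact DFunLike.congr_fun h j
  rw [Finset.sum_congr rfl key, Finset.sum_ite_eq']
  split_ifs with h
  · rfl
  · exact (notMem_support_iff.1 h).symm

theorem monoBasis_repr_linear_pow (hp : 2 ≤ p) (hc : ∀ i, c i ∈ maximalIdeal R)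
    (hb : ∀ i, b i ∈ maximalIdeal R) (w : Fin n → R) (i : Fin n) (l : ℕ) (hl : l < p) (m : Fin p) :
    (monoBasis c b hp hc hb).repr
        ((∑ j, algebraMap R _ (w j) * Ideal.Quotient.mk (eqs p c b) (X j)) ^ l)
        (fun j => if j = i then m else ⟨0, by omega⟩) =
      if l = m then w i ^ l else 0 := by
  classical
  let Z : MvPolynomial (Fin n) R := ∑ j, C (w j) * X j
  have hZ : Ideal.Quotient.mk (eqs p c b) (Z ^ l) =
      (∑ j, algebraMap R _ (w j) * Ideal.Quotient.mk (eqs p c b) (X j)) ^ l := by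
    simp only [Z, map_pow, map_sum, map_mul]
    rfl
  have hdeg : (Z ^ l).totalDegree ≤ l := by
    refine (totalDegree_pow Z l).trans ?_
    refine (Nat.mul_le_mul_left l ?_).trans_eq (mul_one l)
    refine (totalDegree_finset_sum _ _).trans (Finset.sup_le fun j _ => ?_)
    rw [C_mul_X_eq_monomial]
    refine (totalDegree_monomial_le _ _).trans ?_
    simp
  rw [← hZ, monoBasis_repr_mk c b hp hc hb (Z ^ l) fun d hd j => by
    have h1 := le_totalDegree hd
    have h2 : d j ≤ d.sum fun _ e => e := by
      by_cases hj : j ∈ d.support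
      · exact Finset.single_le_sum (f := fun a => d a) (fun _ _ => Nat.zero_le _) hj
      · simp [Finsupp.notMem_support_iff.1 hj]
    omega]
  have he : (Finsupp.equivFunOnFinite.symm fun j =>
      (((if j = i then m else ⟨0, by omega⟩ : Fin p)) : ℕ)) = Finsupp.single i (m : ℕ) := by
    refine Finsupp.ext fun j => ?_
    by_cases hj : j = i
    · subst hj; simp
    · simp [hj, Finsupp.single_eq_of_ne hj]
  rw [he]
  let ev : MvPolynomial (Fin n) R →ₐ[R] Polynomial R :=
    MvPolynomial.aeval fun j => if j = i then Polynomial.X else 0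
  have hev : ∀ P : MvPolynomial (Fin n) R, coeff (Finsupp.single i (m : ℕ)) P = (ev P).coeff m := by
    intro P
    induction P using MvPolynomial.induction_on' with
    | add P Q hP hQ => rw [coeff_add, map_add, Polynomial.coeff_add, hP, hQ]
    | monomial d r =>
      rw [coeff_monomial]
      simp only [ev, aeval_monomial]
      rw [Finsupp.prod_fintype _ _ (fun _ => pow_zero _)]
      by_cases hd : ∀ j, j ≠ i → d j = 0
      · have hdi : d = Finsupp.single i (d i) := Finsupp.ext fun j => by
          by_cases hj : j = i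
          · subst hj; simp
          · simp [hd j hj, Finsupp.single_eq_of_ne hj]
        have hprod : (∏ j, (if j = i then (Polynomial.X : Polynomial R) else 0) ^ d j) = Polynomial.X ^ d i := by
          rw [Finset.prod_eq_single i (fun j _ hj => by rw [hd j hj, pow_zero])
            (fun h => absurd (Finset.mem_univ i) h), if_pos rfl]
        rw [hprod, Polynomial.algebraMap_eq, Polynomial.coeff_C_mul_X_pow]
        refine if_congr ⟨fun h => by rw [h, Finsupp.single_eq_same], fun h => hdi.trans (by rw [h])⟩ rfl rfl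
      · push Not at hd
        obtain ⟨j, hji, hdj⟩ := hd
        rw [if_neg fun h => hdj (by rw [h, Finsupp.single_eq_of_ne hji]),
          Finset.prod_eq_zero (Finset.mem_univ j) (by rw [if_neg hji, zero_pow hdj]), mul_zero,
          Polynomial.coeff_zero]
  rw [hev, map_pow]
  have hZi : ev Z = Polynomial.C (w i) * Polynomial.X := by
    simp only [ev, Z, map_sum, map_mul, aeval_C, aeval_X, mul_ite, mul_zero]
    rw [Finset.sum_ite_eq', if_pos (Finset.mem_univ i)]
    rfl
  rw [hZi, mul_pow, ← map_pow, Polynomial.coeff_C_mul_X_pow]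
  exact if_congr eq_comm rfl rfl

end Coeff

section Galois

variable {R : Type u} [CommRing R] (p : ℕ) [hp : Fact p.Prime] [CharP R p]

theorem shift_nsmul {ι : Type} (a b : ι → R) (ν : ι → ZMod p) (m : ℕ) :
    shift p a b ν ^ m = shift p a b (m • ν) := by
  induction m with
  | zero => rw [zero_smul, pow_zero, shift_zero]
  | succ m ih => rw [succ_nsmul, shift_add, pow_succ, ih]

theorem prod_shift {n : ℕ} (a b : Fin n → R)
    (σ : Fin n → ((MvPolynomial (Fin n) R ⧸ eqs p (fun i => a i ^ (p - 1)) b) ≃ₐ[R]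
      (MvPolynomial (Fin n) R ⧸ eqs p (fun i => a i ^ (p - 1)) b)))
    (hσ : ∀ i j, σ i (Ideal.Quotient.mk _ (X j)) = Ideal.Quotient.mk _ (X j) +
      (if i = j then algebraMap R _ (a i) else 0)) (ν : Fin n → ZMod p) :
    (List.ofFn fun i : Fin n => σ i ^ (ν i).val).prod = shift p a b ν := by
  classical
  have h1 : ∀ i, σ i = shift p a b (Pi.single i 1) := fun i => by
    refine AlgEquiv.ext fun t => ?_
    suffices (σ i).toAlgHom = shiftHom p a b (Pi.single i 1) from DFunLike.congr_fun this t
    refine Ideal.Quotient.algHom_ext R (MvPolynomial.algHom_ext fun j => ?_)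
    refine (hσ i j).trans (Eq.trans ?_ (shiftHom_mk p a b (Pi.single i 1) j).symm)
    by_cases hij : i = j
    · subst hij; simp
    · simp [hij, Pi.single_eq_of_ne (Ne.symm hij)]
  let Φ : Multiplicative (Fin n → ZMod p) →* _ :=
    { toFun := fun ν => shift p a b (Multiplicative.toAdd ν)
      map_one' := shift_zero p a b
      map_mul' := fun ν μ => shift_add p a b (Multiplicative.toAdd ν) (Multiplicative.toAdd μ) }
  have h2 : (fun i : Fin n => σ i ^ (ν i).val) = fun i => Φ (Multiplicative.ofAdd (Pi.single i (ν i))) := by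
    funext i
    rw [h1, shift_nsmul]
    show shift p a b _ = shift p a b _
    congr 1
    rw [← Pi.single_smul, nsmul_one, ZMod.natCast_zmod_val]
    rfl
  rw [h2, show (fun i => Φ (Multiplicative.ofAdd (Pi.single i (ν i)))) =
    Φ ∘ fun i => Multiplicative.ofAdd (Pi.single i (ν i)) from rfl, ← List.map_ofFn, ← map_list_prod,
    List.prod_ofFn, ← ofAdd_sum, Finset.univ_sum_single]
  rfl

theorem exists_mul_eq_aeval {n : ℕ} (a b : Fin n → R) [IsDomain R]
    [IsDomain (MvPolynomial (Fin n) R ⧸ eqs p (fun i => a i ^ (p - 1)) b)] (ha : ∀ i, a i ≠ 0)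
    (z : MvPolynomial (Fin n) R ⧸ eqs p (fun i => a i ^ (p - 1)) b) (f : Polynomial R) (hf : f.Monic)
    (hfd : f.degree = p) (hfz : Polynomial.aeval z f = 0)
    (t : MvPolynomial (Fin n) R ⧸ eqs p (fun i => a i ^ (p - 1)) b)
    (ht : ∀ ν, shift p a b ν z = z → shift p a b ν t = t) :
    ∃ (d : R) (Q : Polynomial R), d ≠ 0 ∧ Q.degree < p ∧ algebraMap R _ d * t = Polynomial.aeval z Q := by
  classical
  let A := MvPolynomial (Fin n) R ⧸ eqs p (fun i => a i ^ (p - 1)) b
  obtain ⟨hfree, hrank⟩ := free_finrank_fin (R := R) hp.out.two_le (fun i => a i ^ (p - 1)) b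
  haveI : Module.Finite R A := finite hp.out.two_le _ _
  haveI : FaithfulSMul R A := inferInstance
  have hbij := shift_bijective p a b ha
  have hcard : Nat.card (A ≃ₐ[R] A) = p ^ n := by
    rw [← Nat.card_congr (Equiv.ofBijective _ hbij)]
    simp
  letI : Algebra (FractionRing R) (FractionRing A) := FractionRing.liftAlgebra R (FractionRing A)
  let K := FractionRing R
  let L := FractionRing A
  have hr := IsFractionRing.finrank_eq R K A L
  haveI : FiniteDimensional K L :=
    Module.finite_of_finrank_pos (by rw [hr, hrank]; exact pow_pos hp.out.pos _)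
  let F := IsFractionRing.fieldEquivOfAlgEquiv (A := R) (B := A) (C := A) K L L
  have hinj : Function.Injective F := fun f g h => AlgEquiv.ext fun y =>
    IsFractionRing.injective A L (by
      rw [← IsFractionRing.fieldEquivOfAlgEquiv_algebraMap K L L f y,
        ← IsFractionRing.fieldEquivOfAlgEquiv_algebraMap K L L g y]
      exact DFunLike.congr_fun h _)
  have hle : Nat.card Gal(L/K) ≤ Module.finrank K L := by
    rw [Nat.card_eq_fintype_card]; exact AlgEquiv.card_le
  have hge : Module.finrank K L ≤ Nat.card (A ≃ₐ[R] A) := le_of_eq (by rw [hcard, hr, hrank])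
  have hAK : Nat.card (A ≃ₐ[R] A) ≤ Nat.card Gal(L/K) := Nat.card_le_card_of_injective F hinj
  haveI : IsGalois K L := IsGalois.of_card_aut_eq_finrank K L (le_antisymm hle (hge.trans hAK))
  have hsurj : Function.Surjective F := (hinj.bijective_of_nat_card_le (hle.trans hge)).2
  let zL := algebraMap A L z
  have hmem : algebraMap A L t ∈ IntermediateField.adjoin K {zL} := by
    rw [← IsGalois.fixedField_fixingSubgroup (IntermediateField.adjoin K {zL}),
      IntermediateField.mem_fixedField_iff]
    intro g hg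
    obtain ⟨σ, rfl⟩ := hsurj g
    obtain ⟨ν, rfl⟩ := hbij.2 σ
    rw [IsFractionRing.fieldEquivOfAlgEquiv_algebraMap]
    refine congrArg _ (ht ν (IsFractionRing.injective A L ?_))
    rw [← IsFractionRing.fieldEquivOfAlgEquiv_algebraMap K L L]
    exact (IntermediateField.mem_fixingSubgroup_iff _ _).1 hg _ (IntermediateField.mem_adjoin_simple_self K zL)
  rw [← IntermediateField.mem_toSubalgebra,
    IntermediateField.adjoin_simple_toSubalgebra_of_isAlgebraic (Algebra.IsAlgebraic.isAlgebraic zL),
    Algebra.adjoin_singleton_eq_range_aeval] at hmem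
  obtain ⟨P, hP⟩ := hmem
  change Polynomial.aeval zL P = algebraMap A L t at hP
  have hroot : Polynomial.aeval zL (f.map (algebraMap R K)) = 0 := by
    rw [Polynomial.aeval_map_algebraMap, Polynomial.aeval_algebraMap_apply, hfz, map_zero]
  rw [← Polynomial.aeval_modByMonic_eq_self_of_root hroot] at hP
  set P' := P %ₘ f.map (algebraMap R K)
  have hP'd : P'.degree < p := by
    rw [← hfd, ← hf.degree_map (algebraMap R K)]
    exact Polynomial.degree_modByMonic_lt _ (hf.map _)
  obtain ⟨⟨d, hd⟩, hdQ⟩ := IsLocalization.integerNormalization_map_to_map (nonZeroDivisors R) P'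
  refine ⟨d, IsLocalization.integerNormalization (nonZeroDivisors R) P', nonZeroDivisors.ne_zero hd, ?_, ?_⟩
  · refine lt_of_le_of_lt (Polynomial.degree_le_iff_coeff_zero _ _ |>.2 fun m hm => ?_) hP'd
    by_contra hne
    have := IsLocalization.integerNormalization_support _ P' (Polynomial.mem_support_iff.2 hne)
    exact absurd (Polynomial.le_degree_of_ne_zero (Polynomial.mem_support_iff.1 this)) (not_le.2 hm)
  · refine IsFractionRing.injective A L ?_
    rw [map_mul, ← Polynomial.aeval_algebraMap_apply, ← Polynomial.aeval_map_algebraMap K, hdQ,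
      AlgHom.map_smul_of_tower (Polynomial.aeval (algebraMap A L z)),
      hP, ← IsScalarTower.algebraMap_apply]
    exact (Algebra.smul_def d (algebraMap A L t)).symm

end Galois

section Invariant

variable {R : Type u} [CommRing R] [IsDomain R] [IsLocalRing R] [UniqueFactorizationMonoid R]
  (p : ℕ) [hp : Fact p.Prime] [CharP R p] {n : ℕ} (μ : R) (a x : Fin n → R)

theorem orthogonal_invariants
    [IsDomain (MvPolynomial (Fin n) R ⧸ eqs p (fun i => (μ * a i) ^ (p - 1)) x)]
    (hcop : ∀ i j, i ≠ j → IsRelPrime (a i) (a j)) (ha : ∀ i, a i ≠ 0) (hμ : μ ≠ 0)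
    (ham : ∀ i, a i ∈ maximalIdeal R) (hxm : ∀ i, x i ∈ maximalIdeal R)
    (s : Fin n → ZMod p) (hs : s ≠ 0) (c : Fin n → R)
    (hc : ∀ i, c i = ZMod.castHom (dvd_refl p) R (s i)) :
    let A := MvPolynomial (Fin n) R ⧸ eqs p (fun i => (μ * a i) ^ (p - 1)) x
    let S := Finset.univ.filter (fun i => s i ≠ 0)
    let α : R := ∏ i ∈ S, a i
    let αi : Fin n → R := fun i => ∏ j ∈ S.erase i, a j
    let z : A := ∑ i ∈ S, algebraMap R A (c i * αi i) * Ideal.Quotient.mk _ (X i)
    let f : Polynomial R := Polynomial.X ^ p - Polynomial.C ((μ * α) ^ (p - 1)) * Polynomial.X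
      - Polynomial.C (∑ i ∈ S, c i * αi i ^ p * x i)
    (∀ t : A, (∀ ν : Fin n → ZMod p, ∑ i, ν i * s i = 0 → shift p (fun i => μ * a i) x ν t = t) ↔
        t ∈ (Polynomial.aeval z : Polynomial R →ₐ[R] A).range) ∧
      RingHom.ker (Polynomial.aeval z : Polynomial R →ₐ[R] A) = Ideal.span {f} := by
  classical
  obtain rfl : c = fun i => ZMod.castHom (dvd_refl p) R (s i) := funext hc
  clear hc
  intro A S α αi z f
  let c : Fin n → R := fun i => ZMod.castHom (dvd_refl p) R (s i)
  haveI : Nontrivial R := inferInstance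
  obtain ⟨hfree, hrank⟩ := free_finrank_fin (R := R) hp.out.two_le (fun i => (μ * a i) ^ (p - 1)) x
  haveI : Module.Finite R A := finite hp.out.two_le _ _
  haveI : FaithfulSMul R A := inferInstance
  haveI : CharP A p := charP_of_injective_algebraMap (FaithfulSMul.algebraMap_injective R A) p
  have hαi : ∀ i ∈ S, αi i * a i = α := fun i hi => Finset.prod_erase_mul _ _ hi
  have hS : S.Nonempty := by
    obtain ⟨i, hi⟩ := Function.ne_iff.1 hs
    exact ⟨i, Finset.mem_filter.2 ⟨Finset.mem_univ i, hi⟩⟩
  have hα : α ≠ 0 := Finset.prod_ne_zero_iff.2 fun i _ => ha i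
  have hcS : ∀ i, c i ^ p = c i := fun i => by
    show ZMod.castHom (dvd_refl p) R (s i) ^ p = _
    rw [← map_pow, ZMod.pow_card]
  have hfz : Polynomial.aeval z f = 0 := by
    have hzp : z ^ p = algebraMap R A ((μ * α) ^ (p - 1)) * z +
        algebraMap R A (∑ i ∈ S, c i * αi i ^ p * x i) := by
      rw [sum_pow_char, Finset.mul_sum, map_sum, ← Finset.sum_add_distrib]
      refine Finset.sum_congr rfl fun i hi => ?_
      rw [mul_pow, ← map_pow, mul_pow, hcS, relation (p := p) (fun i => (μ * a i) ^ (p - 1)) x i, ← hαi i hi,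
        ← pow_sub_one_mul hp.out.ne_zero (αi i)]
      simp only [map_mul, map_pow, mul_pow]
      ring
    simp only [f, map_sub, map_mul, map_pow, Polynomial.aeval_X, Polynomial.aeval_C]
    rw [hzp, map_pow, map_mul]
    ring
  have hlin : (Polynomial.C ((μ * α) ^ (p - 1)) * Polynomial.X +
      Polynomial.C (∑ i ∈ S, c i * αi i ^ p * x i)).degree < (p : WithBot ℕ) :=
    lt_of_le_of_lt Polynomial.degree_linear_le (by exact_mod_cast hp.out.one_lt)
  have hfm : f.Monic := by
    rw [show f = Polynomial.X ^ p - (Polynomial.C ((μ * α) ^ (p - 1)) * Polynomial.X +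
      Polynomial.C (∑ i ∈ S, c i * αi i ^ p * x i)) from sub_sub _ _ _]
    exact Polynomial.monic_X_pow_sub hlin
  have hfd : f.degree = p := by
    rw [show f = Polynomial.X ^ p - (Polynomial.C ((μ * α) ^ (p - 1)) * Polynomial.X +
      Polynomial.C (∑ i ∈ S, c i * αi i ^ p * x i)) from sub_sub _ _ _,
      Polynomial.degree_sub_eq_left_of_degree_lt] <;> rw [Polynomial.degree_X_pow]
    exact hlin
  have hcm : ∀ i, (μ * a i) ^ (p - 1) ∈ maximalIdeal R := fun i =>
    Ideal.pow_mem_of_mem _ (Ideal.mul_mem_left _ _ (ham i)) _ (Nat.sub_pos_of_lt hp.out.one_lt)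
  -- coefficients of a polynomial in `z` at the pure powers
  have hcoord : ∀ (Q : Polynomial R), Q.degree < p → ∀ i ∈ S, ∀ m : Fin p,
      (monoBasis (fun i => (μ * a i) ^ (p - 1)) x hp.out.two_le hcm hxm).repr (Polynomial.aeval z Q)
        (fun j => if j = i then m else ⟨0, hp.out.pos⟩) = (c i * αi i) ^ (m : ℕ) * Q.coeff m := by
    intro Q hQ i hi m
    have hz : z = ∑ j, algebraMap R A (if j ∈ S then c j * αi j else 0) * Ideal.Quotient.mk _ (X j) := by
      show ∑ j ∈ S, _ = _
      rw [← Finset.sum_subset (Finset.subset_univ S) (fun j _ hj => by rw [if_neg hj, map_zero, zero_mul])]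
      exact Finset.sum_congr rfl fun j hj => by rw [if_pos hj]
    rcases eq_or_ne Q 0 with rfl | hQ0
    · simp
    rw [Polynomial.aeval_eq_sum_range' ((Polynomial.natDegree_lt_iff_degree_lt hQ0).2 hQ), map_sum,
      Finsupp.finsetSum_apply, hz]
    rw [Finset.sum_congr rfl (fun l hl => by
      rw [map_smul, Finsupp.smul_apply, monoBasis_repr_linear_pow (fun i => (μ * a i) ^ (p - 1)) x
        hp.out.two_le hcm hxm _ i l (Finset.mem_range.1 hl) m, smul_eq_mul, mul_ite, mul_zero, if_pos hi])]
    rw [Finset.sum_ite_eq', if_pos (Finset.mem_range.2 m.2), mul_comm]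
  have hne : ∀ i ∈ S, c i * αi i ≠ 0 := fun i hi => mul_ne_zero
    (fun h => (Finset.mem_filter.1 hi).2 ((ZMod.castHom (dvd_refl p) R).injective (h.trans (map_zero _).symm)))
    (Finset.prod_ne_zero_iff.2 fun j _ => ha j)
  have hinjQ : ∀ Q : Polynomial R, Q.degree < p → Polynomial.aeval z Q = 0 → Q = 0 := by
    intro Q hQ h0
    obtain ⟨i, hi⟩ := hS
    refine Polynomial.ext fun m => ?_
    rw [Polynomial.coeff_zero]
    by_cases hm : m < p
    · have := hcoord Q hQ i hi ⟨m, hm⟩
      rw [h0, map_zero, Finsupp.coe_zero, Pi.zero_apply] at this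
      exact (mul_eq_zero.1 this.symm).resolve_left (pow_ne_zero _ (hne i hi))
    · exact Polynomial.coeff_eq_zero_of_degree_lt (lt_of_lt_of_le hQ (by exact_mod_cast not_lt.1 hm))
  have hfix : ∀ ν : Fin n → ZMod p, shift p (fun i => μ * a i) x ν z =
      z + algebraMap R A (ZMod.castHom (dvd_refl p) R (∑ i, ν i * s i) * (μ * α)) := by
    intro ν
    show shiftHom p (fun i => μ * a i) x ν z = _
    simp only [z]
    rw [map_sum]
    have hcomm : ∀ r : R, shiftHom p (fun i => μ * a i) x ν (algebraMap R A r) = algebraMap R A r :=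
      fun r => AlgHom.commutes _ r
    simp only [map_mul, hcomm, shiftHom_mk, mul_add, Finset.sum_add_distrib]
    congr 1
    rw [map_sum, map_sum, Finset.sum_mul, ← Finset.sum_subset (Finset.subset_univ S) (fun j _ hj => ?_)]
    · refine Finset.sum_congr rfl fun i hi => ?_
      rw [← hαi i hi]
      simp only [c, map_mul]
      ring
    · have : s j = 0 := by simpa [S] using hj
      simp [this]
  refine ⟨fun t => ⟨fun ht => ?_, ?_⟩, ?_⟩
  · obtain ⟨d, Q, hd, hQ, hdt⟩ := exists_mul_eq_aeval p (fun i => μ * a i) x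
      (fun i => mul_ne_zero hμ (ha i)) z f hfm hfd hfz t (fun ν hν => ht ν (by
        rw [hfix, add_eq_left, ← map_zero (algebraMap R A), (FaithfulSMul.algebraMap_injective R A).eq_iff,
          mul_eq_zero] at hν
        exact (ZMod.castHom (dvd_refl p) R).injective
          ((hν.resolve_right (mul_ne_zero hμ hα)).trans (map_zero _).symm)))
    have hdvd : ∀ m, d ∣ Q.coeff m := by
      intro m
      by_cases hm : m < p
      · refine dvd_of_forall_dvd_mul_pow hS (fun i => c i * αi i) m ?_ d hd _ fun i hi => ?_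
        · intro q hq
          have hcu : ∀ i ∈ S, ¬ q ∣ c i := fun i hi h => hq.not_unit (isUnit_of_dvd_unit h
            (((isUnit_iff_ne_zero.2 (Finset.mem_filter.1 hi).2)).map (ZMod.castHom (dvd_refl p) R)))
          by_cases hqa : ∃ i ∈ S, q ∣ a i
          · obtain ⟨i, hi, hqi⟩ := hqa
            refine ⟨i, hi, fun h => ?_⟩
            rcases hq.dvd_or_dvd h with h | h
            · exact hcu i hi h
            · obtain ⟨j, hj, hqj⟩ := hq.exists_mem_finset_dvd h
              exact hq.not_unit (hcop i j (Finset.ne_of_mem_erase hj).symm hqi hqj)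
          · push Not at hqa
            obtain ⟨i, hi⟩ := hS
            refine ⟨i, hi, fun h => ?_⟩
            rcases hq.dvd_or_dvd h with h | h
            · exact hcu i hi h
            · obtain ⟨j, hj, hqj⟩ := hq.exists_mem_finset_dvd h
              exact hqa j (Finset.mem_of_mem_erase hj) hqj
        · rw [← hcoord Q hQ i hi ⟨m, hm⟩, ← hdt, ← Algebra.smul_def, map_smul, Finsupp.smul_apply, smul_eq_mul]
          exact dvd_mul_right _ _
      · rw [Polynomial.coeff_eq_zero_of_degree_lt (lt_of_lt_of_le hQ (by exact_mod_cast not_lt.1 hm))]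
        exact dvd_zero _
    obtain ⟨Q', rfl⟩ := Polynomial.C_dvd_iff_dvd_coeff _ _ |>.2 hdvd
    refine ⟨Q', ?_⟩
    rw [map_mul, Polynomial.aeval_C] at hdt
    exact (mul_left_cancel₀ (fun h => hd (FaithfulSMul.algebraMap_injective R A (h.trans (map_zero _).symm)))
      hdt).symm
  · rintro ⟨Q, rfl⟩ ν hν
    show shift p (fun i => μ * a i) x ν (Polynomial.aeval z Q) = Polynomial.aeval z Q
    rw [← Polynomial.aeval_algHom_apply, hfix, hν, map_zero, zero_mul, map_zero, add_zero]
  · refine le_antisymm (fun Q hQ => ?_) ((Ideal.span_singleton_le_iff_mem _).2 hfz)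
    rw [Ideal.mem_span_singleton, ← Polynomial.modByMonic_eq_zero_iff_dvd hfm]
    refine hinjQ _ (hfd ▸ Polynomial.degree_modByMonic_lt Q hfm) ?_
    rw [Polynomial.aeval_modByMonic_eq_self_of_root hfz]
    exact hQ

end Invariant

end Groth.Agent.ASFamily
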