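import Mathlib.GroupTheory.Complement
import Mathlib.Algebra.Group.Pi.Lemmas
import Mathlib.SetTheory.Cardinal.Finite
import Mathlib.Data.Fintype.Card

/-!
A commutative group of order `p ^ n` generated by `n` subgroups of order `p`.
-/

namespace Groth.Agent.WildQuotGal

variable {H : Type*} [CommGroup H] [Finite H] {p n : ℕ} (hcard : Nat.card H = p ^ n) (Gi : Fin n → Subgroup H)
  (hGi : ∀ i, Nat.card (Gi i) = p) (hsup : (⨆ i, Gi i) = ⊤)

/-- the complementary subgroups -/
abbrev perp (j : Fin n) : Subgroup H := ⨆ l ∈ (Finset.univ.erase j : Finset (Fin n)), Gi l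

theorem le_perp {i j : Fin n} (h : i ≠ j) : Gi i ≤ perp Gi j :=
  le_iSup₂_of_le (f := fun l (_ : l ∈ (Finset.univ.erase j : Finset (Fin n))) => Gi l) i (by simp [h]) le_rfl

include hcard hGi hsup in
theorem indep :
    (∀ σ : H, (∀ j, σ ∈ perp Gi j) → 0 < n → σ = 1) ∧ (∀ j, Nat.card (perp Gi j) * p = p ^ n) := by
  classical
  let φ : ((i : Fin n) → Gi i) →* H :=
    { toFun := fun g => ∏ i, (g i : H)
      map_one' := by simp
      map_mul' := fun g g' => by simp [Finset.prod_mul_distrib] }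
  have hsingle : ∀ i (x : Gi i), φ (Pi.mulSingle i x) = (x : H) := by
    intro i x
    show ∏ l, ((Pi.mulSingle i x : (l : Fin n) → Gi l) l : H) = x
    rw [Finset.prod_eq_single i]
    · rw [Pi.mulSingle_eq_same]
    · intro l _ hl
      rw [Pi.mulSingle_eq_of_ne hl]; rfl
    · simp
  have hsurj : Function.Surjective φ := by
    rw [← MonoidHom.range_eq_top, eq_top_iff, ← hsup, iSup_le_iff]
    exact fun i x hx => ⟨Pi.mulSingle i ⟨x, hx⟩, hsingle i ⟨x, hx⟩⟩
  have hinj : Function.Injective φ := by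
    haveI := Fintype.ofFinite H
    haveI : ∀ i, Fintype (Gi i) := fun i => Fintype.ofFinite _
    refine ((Fintype.bijective_iff_surjective_and_card φ).2 ⟨hsurj, ?_⟩).1
    rw [← Nat.card_eq_fintype_card, ← Nat.card_eq_fintype_card, Nat.card_pi, hcard]
    simp only [hGi, Finset.prod_const, Finset.card_univ, Fintype.card_fin]
  have hperp : ∀ j, ∀ σ ∈ perp Gi j, ∃ g, φ g = σ ∧ g j = 1 := by
    intro j σ hσ
    have hle : perp Gi j ≤ (Pi.evalMonoidHom (fun i => Gi i) j).ker.map φ := by
      refine iSup₂_le fun l hl x hx => ⟨Pi.mulSingle l ⟨x, hx⟩, ?_, hsingle l ⟨x, hx⟩⟩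
      have : j ≠ l := (Finset.ne_of_mem_erase hl).symm
      exact Pi.mulSingle_eq_of_ne this _
    obtain ⟨g, hg, rfl⟩ := hle hσ
    exact ⟨g, rfl, hg⟩
  refine ⟨fun σ hσ hn => ?_, fun j => ?_⟩
  · obtain ⟨g, rfl, -⟩ := hperp ⟨0, hn⟩ σ (hσ _)
    have : g = 1 := funext fun j => by
      obtain ⟨g', hg', hj⟩ := hperp j _ (hσ j)
      rw [← hinj hg']; exact hj
    rw [this, map_one]
  · have hd : Disjoint (perp Gi j) (Gi j) := by
      rw [Subgroup.disjoint_def]
      intro x hx hx'
      obtain ⟨g, hg, hj⟩ := hperp j x hx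
      have := congrFun (hinj (hg.trans (hsingle j ⟨x, hx'⟩).symm)) j
      rw [hj, Pi.mulSingle_eq_same] at this
      exact (congrArg Subtype.val this).symm
    have htop : perp Gi j ⊔ Gi j = ⊤ := by
      rw [eq_top_iff, ← hsup, iSup_le_iff]
      intro i
      rcases eq_or_ne i j with rfl | h
      · exact le_sup_right
      · exact (le_perp Gi h).trans le_sup_left
    have hc := (Subgroup.isComplement'_of_disjoint_and_mul_eq_univ hd
      (by rw [← Subgroup.normal_mul, htop, Subgroup.coe_top])).card_mul_card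
    rwa [hGi j, hcard] at hc

end Groth.Agent.WildQuotGal
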