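import Groth.Agent.WildQuotGal.FreeAction
import Groth.Agent.WildQuotGal.Groups
import Groth.Agent.CAlgSerre.NormalImp
import Groth.Agent.CAlgNormal.Basic
import Groth.Agent.DimTheory.Algebra
import Mathlib.FieldTheory.Galois.IsGaloisGroup
import Mathlib.RingTheory.Invariant.Basic

/-!
Generation of a normal domain by the invariants of complementary inertia subgroups.
-/

universe u v w

namespace Groth.Agent.WildQuotGal

open scoped Pointwise

variable {R : Type u} [CommRing R] [IsDomain R] [IsIntegrallyClosed R] [IsNoetherianRing R]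
  {A : Type v} [CommRing A] [IsDomain A] [Algebra R A] [Module.Finite R A]
  {H : Type w} [CommGroup H] [Finite H] [MulSemiringAction H A] [SMulCommClass H R A] [FaithfulSMul H A]

theorem hasS2 : LocCoh.HasSk 2 R R := by
  refine ((CAlgSerre.normal_iff (R := R)).1 fun p _ => ?_).2
  exact CAlgNormal.normal_transfer (L := Localization.AtPrime p) p.primeCompl (fun h => h (zero_mem _))

theorem inertia_bot_eq : (⊥ : Ideal A).inertia H = ⊥ := by
  refine eq_bot_iff.2 fun σ hσ => ?_
  rw [Subgroup.mem_bot]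
  refine FaithfulSMul.eq_of_smul_eq_smul (α := A) fun a => ?_
  rw [one_smul]
  exact sub_eq_zero.1 (Ideal.mem_bot.1 (hσ a))

theorem inertia_smul (Q : Ideal A) (h : H) : (h • Q).inertia H = Q.inertia H := by
  have key : ∀ (Q : Ideal A) (h σ : H), σ ∈ Q.inertia H → σ ∈ (h • Q).inertia H := by
    intro Q h σ hσ x
    show σ • x - x ∈ h • Q
    rw [Ideal.mem_pointwise_smul_iff_inv_smul_mem, smul_sub, ← mul_smul, mul_comm, mul_smul]
    exact hσ _
  ext σ
  refine ⟨fun hσ => ?_, key Q h σ⟩
  have := key (h • Q) h⁻¹ σ hσ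
  rwa [inv_smul_smul] at this

section

variable (hinj : Function.Injective (algebraMap R A))
  (hfix : ∀ a : A, (∀ h : H, h • a = a) → a ∈ Set.range (algebraMap R A))
  {p n : ℕ} (hcard : Nat.card H = p ^ n) (Gi : Fin n → Subgroup H)
  (hGi : ∀ i, Nat.card (Gi i) = p) (hsup : (⨆ i, Gi i) = ⊤)
  (hMR3 : ∀ P : Ideal A, P.IsPrime → P.height = 1 → P.inertia H ≠ ⊥ → ∃ i, P.inertia H = Gi i)

/-- the invariant algebras -/
abbrev Bsub (j : Fin n) : Subalgebra R A := FixedPoints.subalgebra R A ↥(perp Gi j)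

include hinj hfix hMR3 in
theorem exists_index (hn : 0 < n) (q : Ideal R) [q.IsPrime] (hq : q.height ≤ 1) :
    ∃ i, ∀ Q : Ideal A, Q.IsPrime → Q.comap (algebraMap R A) ≤ q → Q.inertia H ≤ Gi i := by
  haveI : FaithfulSMul R A := (faithfulSMul_iff_algebraMap_injective R A).2 hinj
  haveI : Algebra.IsInvariant R A H := ⟨hfix⟩
  by_cases h : ∃ Q : Ideal A, Q.IsPrime ∧ Q.comap (algebraMap R A) ≤ q ∧ Q.inertia H ≠ ⊥
  swap
  · push Not at h
    exact ⟨⟨0, hn⟩, fun Q h1 h2 => (h Q h1 h2).trans_le bot_le⟩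
  have key : ∀ Q : Ideal A, Q.IsPrime → Q.comap (algebraMap R A) ≤ q → Q.inertia H ≠ ⊥ →
      Q.height = 1 ∧ Q.under R = q := by
    intro Q h1 h2 h3
    haveI := h1
    have hne : Q.comap (algebraMap R A) ≠ ⊥ := fun h0 => h3 (by
      rw [Ideal.eq_bot_of_comap_eq_bot h0]; exact inertia_bot_eq)
    have hpos : (Q.comap (algebraMap R A)).height ≠ 0 := mt Ideal.height_eq_zero_iff_eq_bot.1 hne
    have heq : Q.comap (algebraMap R A) = q := by
      by_contra hneq
      have hlt := lt_of_le_of_ne h2 hneq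
      have := (Ideal.height_add_one_le_of_lt_of_isPrime hlt).trans hq
      have h1le : (1 : ℕ∞) ≤ (Q.comap (algebraMap R A)).height := Order.one_le_iff_ne_zero.2 hpos
      have := (add_le_add h1le le_rfl).trans this
      norm_num at this
    refine ⟨le_antisymm ?_ ?_, heq⟩
    all_goals rw [DimTheory.height_eq_height_under R A Q]
    · exact (le_of_eq (congrArg Ideal.height heq)).trans hq
    · exact Order.one_le_iff_ne_zero.2 hpos
  obtain ⟨Q₀, h1, h2, h3⟩ := h
  obtain ⟨i, hi⟩ := hMR3 Q₀ h1 (key Q₀ h1 h2 h3).1 h3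
  refine ⟨i, fun Q g1 g2 => ?_⟩
  rcases eq_or_ne (Q.inertia H) ⊥ with g3 | g3
  · exact g3.trans_le bot_le
  haveI := h1
  haveI := g1
  obtain ⟨g, hg⟩ := Algebra.IsInvariant.exists_smul_of_under_eq R A H Q₀ Q
    ((key Q₀ h1 h2 h3).2.trans (key Q g1 g2 g3).2.symm)
  rw [hg, inertia_smul, hi]

include hinj hfix hcard hGi hsup hMR3 in
theorem codim_one (hn : 0 < n) (q : Ideal R) [q.IsPrime] (hq : q.height ≤ 1) :
    ∀ a : A, ∃ t ∉ q, t • a ∈ ⨆ j, Bsub (R := R) (A := A) Gi j := by
  classical
  obtain ⟨i, hi⟩ := exists_index hinj hfix Gi hMR3 hn q hq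
  set C : Subalgebra R A := ⨆ j, Bsub (R := R) (A := A) Gi j with hC
  have hBC : ∀ j b, b ∈ Bsub (R := R) (A := A) Gi j → b ∈ C := fun j b hb =>
    le_iSup (fun j => Bsub (R := R) (A := A) Gi j) j hb
  have hstab : ∀ j b (σ : H), b ∈ Bsub (R := R) (A := A) Gi j → σ • b ∈ Bsub (R := R) (A := A) Gi j := by
    intro j b σ hb k
    show (k : H) • σ • b = σ • b
    rw [← mul_smul, mul_comm, mul_smul]
    exact congrArg (σ • ·) (hb k)
  haveI : Fintype (perp Gi i) := Fintype.ofFinite _
  have hstep : ∀ σ : perp Gi i, σ ≠ 1 → ∃ t ∉ q, ∃ (m : ℕ) (c b : Fin m → A), (∀ l, c l ∈ C) ∧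
      (∀ l, b l ∈ C) ∧ (∀ l, (σ : H) • b l ∈ C) ∧ algebraMap R A t = ∑ l, c l * (b l - (σ : H) • b l) := by
    intro σ hσ
    let S : Set C := {z | ∃ b : A, (∃ j, b ∈ Bsub (R := R) (A := A) Gi j) ∧ (z : A) = b - (σ : H) • b}
    have hne : ¬ Disjoint ((Ideal.span S : Ideal C) : Set C) ((q.primeCompl.map (algebraMap R C) : Submonoid C) : Set C) := by
      intro hdis
      obtain ⟨P, hP, hSP, hPd⟩ := Ideal.exists_le_prime_disjoint _ _ hdis
      haveI := hP
      haveI : Algebra.IsIntegral C A := Algebra.IsIntegral.tower_top R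
      obtain ⟨Q, -, hQ, hQP⟩ := Ideal.exists_ideal_over_prime_of_isIntegral (R := C) (S := A) P ⊥ (by
        rw [← RingHom.ker_eq_comap_bot, (RingHom.injective_iff_ker_eq_bot _).1 Subtype.val_injective]
        exact bot_le)
      haveI := hQ
      have hQq : Q.comap (algebraMap R A) ≤ q := fun r hr => by
        by_contra hrq
        refine Set.disjoint_left.1 hPd ?_ ⟨r, hrq, rfl⟩
        rw [← hQP]
        exact hr
      have hmem : ∀ j, (σ : H) ∈ perp Gi j := by
        intro j
        rcases eq_or_ne j i with rfl | hji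
        · exact σ.2
        obtain ⟨k, hk, hkx⟩ := exists_mul_mem_inertia (R := R) (perp Gi j) Q (σ : H) fun b hb => by
          have hbB : b ∈ Bsub (R := R) (A := A) Gi j := fun k => hb k k.2
          have hz : b - (σ : H) • b ∈ C := C.sub_mem (hBC j b hbB) (hBC j _ (hstab j b σ hbB))
          have := hSP (Ideal.subset_span (show (⟨_, hz⟩ : C) ∈ S from ⟨b, ⟨j, hbB⟩, rfl⟩))
          rw [← hQP] at this
          have h' := Q.neg_mem (show b - (σ : H) • b ∈ Q from this)
          rwa [neg_sub] at h'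
        have hI : (σ : H) * k⁻¹ ∈ Q.inertia H := fun x => by
          have := hkx (k⁻¹ • x)
          rwa [← mul_smul, smul_inv_smul] at this
        have := Subgroup.mul_mem _ (le_perp Gi hji.symm (hi Q hQ hQq hI)) hk
        rwa [inv_mul_cancel_right] at this
      exact hσ (Subtype.ext ((indep hcard Gi hGi hsup).1 _ hmem hn))
    obtain ⟨z, hz, r, hr, rfl⟩ := Set.not_disjoint_iff.1 hne
    obtain ⟨m, c, g, hcg⟩ := Submodule.mem_span_set'.1 hz
    choose b hb hgb using fun l => (g l).2
    refine ⟨r, hr, m, fun l => (c l : A), b, fun l => (c l).2, fun l => ?_, fun l => ?_, ?_⟩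
    · exact hBC (hb l).choose _ (hb l).choose_spec
    · exact hBC (hb l).choose _ (hstab _ _ _ (hb l).choose_spec)
    · have := congrArg (fun z : C => (z : A)) hcg
      simp only [AddSubmonoidClass.coe_finsetSum, smul_eq_mul, MulMemClass.coe_mul, hgb] at this
      exact this.symm
  choose t htq m c b hc hb hσb hsum using hstep
  let s : perp Gi i → R := fun σ => if h : σ = 1 then 1 else t σ h
  intro a
  refine ⟨∏ σ ∈ (Finset.univ : Finset (perp Gi i)).erase 1, s σ, ?_, ?_⟩
  · intro hmem
    obtain ⟨σ, hσ, hs⟩ := (Ideal.IsPrime.prod_mem_iff (p := q)).1 hmem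
    simp only [s, dif_neg (Finset.ne_of_mem_erase hσ)] at hs
    exact htq _ _ hs
  · rw [Algebra.smul_def, map_prod]
    have key := galois_generate (perp Gi i) C.toSubring
      (fun a => hBC i _ fun k => trace_fixed (perp Gi i) a k) (fun σ => algebraMap R A (s σ))
      (fun σ hσ => ⟨m σ hσ, c σ hσ, b σ hσ, hc σ hσ, hb σ hσ, hσb σ hσ, by
        simp only [s, dif_neg hσ]; exact hsum σ hσ⟩) a
    exact key

include hinj hfix hcard hGi hsup in
theorem finrank_Bsub [hp : NeZero p] (j : Fin n) : Module.finrank R (Bsub (R := R) (A := A) Gi j) = p := by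
  haveI : FaithfulSMul R A := (faithfulSMul_iff_algebraMap_injective R A).2 hinj
  haveI : IsGaloisGroup H R A := ⟨inferInstance, inferInstance, ⟨hfix⟩⟩
  let B := Bsub (R := R) (A := A) Gi j
  haveI : SMulCommClass (perp Gi j) B A := ⟨fun k b x => by
    show k • ((b : A) * x) = (b : A) * k • x
    rw [smul_mul']
    exact congrArg (· * k • x) (b.2 k)⟩
  haveI : IsGaloisGroup (perp Gi j) B A := ⟨inferInstance, inferInstance, ⟨fun b hb => ⟨⟨b, hb⟩, rfl⟩⟩⟩
  have h1 := Module.finrank_mul_finrank' (R := R) (S := B) A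
  rw [← IsGaloisGroup.card_eq_finrank' (perp Gi j) B A, ← IsGaloisGroup.card_eq_finrank' H R A, hcard,
    ← (indep hcard Gi hGi hsup).2 j, mul_comm] at h1
  exact Nat.eq_of_mul_eq_mul_left Nat.card_pos h1

include hinj hfix hcard hGi hsup hMR3 in
theorem iSup_eq_top [NeZero p] (hfree : ∀ j, Module.Free R (Bsub (R := R) (A := A) Gi j)) :
    (⨆ j, Bsub (R := R) (A := A) Gi j) = ⊤ := by
  classical
  haveI : FaithfulSMul R A := (faithfulSMul_iff_algebraMap_injective R A).2 hinj
  haveI : IsGaloisGroup H R A := ⟨inferInstance, inferInstance, ⟨hfix⟩⟩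
  rw [eq_top_iff]
  rcases Nat.eq_zero_or_pos n with rfl | hn
  · intro a _
    have : Subsingleton H := (Nat.card_eq_one_iff_unique.1 (by simpa using hcard)).1
    obtain ⟨r, rfl⟩ := hfix a fun h => by rw [Subsingleton.elim h 1, one_smul]
    exact Subalgebra.algebraMap_mem _ r
  set C : Subalgebra R A := ⨆ j, Bsub (R := R) (A := A) Gi j with hC
  haveI := hfree
  haveI : ∀ j, Module.Finite R (Bsub (R := R) (A := A) Gi j) := fun j =>
    inferInstanceAs (Module.Finite R (Subalgebra.toSubmodule (Bsub (R := R) (A := A) Gi j)))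
  let ι := fun j => Module.Free.ChooseBasisIndex R (Bsub (R := R) (A := A) Gi j)
  let bs := fun j => Module.Free.chooseBasis R (Bsub (R := R) (A := A) Gi j)
  let e : (∀ j, ι j) → A := fun f => ∏ j, (bs j (f j) : A)
  have hspan : ∀ a ∈ C, a ∈ Submodule.span R (Set.range e) := by
    let W := Submodule.span R {a : A | ∃ x : ∀ j, Bsub (R := R) (A := A) Gi j, a = ∏ j, (x j : A)}
    have hW1 : (1 : A) ∈ W := Submodule.subset_span ⟨fun _ => 1, by simp⟩
    have hWm : ∀ a b, a ∈ W → b ∈ W → a * b ∈ W := fun a b ha hb => by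
      have := Submodule.mul_mem_mul ha hb
      rw [Submodule.span_mul_span] at this
      refine Submodule.span_mono ?_ this
      rintro _ ⟨_, ⟨x, rfl⟩, _, ⟨y, rfl⟩, rfl⟩
      exact ⟨fun j => x j * y j, by simp [Finset.prod_mul_distrib]⟩
    have hle : C ≤ W.toSubalgebra hW1 hWm := by
      refine iSup_le fun j b hb => Submodule.subset_span ⟨Pi.mulSingle j ⟨b, hb⟩, ?_⟩
      rw [Finset.prod_eq_single j]
      · rw [Pi.mulSingle_eq_same]
      · intro l _ hl
        rw [Pi.mulSingle_eq_of_ne hl]; rfl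
      · simp
    intro a ha
    refine (Submodule.span_le (R := R) (p := Submodule.span R (Set.range e))).2 ?_ (hle ha)
    rintro _ ⟨x, rfl⟩
    have hx : ∀ j, (x j : A) = ∑ l, (bs j).repr (x j) l • (bs j l : A) := fun j => by
      have h := congrArg Subtype.val ((bs j).sum_repr (x j))
      rw [AddSubmonoidClass.coe_finsetSum] at h
      exact h.symm
    simp only [hx, Fintype.prod_sum, Finset.prod_smul]
    exact sum_mem fun f _ => Submodule.smul_mem _ _ (Submodule.subset_span ⟨f, rfl⟩)
  let φ : ((∀ j, ι j) → R) →ₗ[R] A := Fintype.linearCombination R e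
  have hφ : ∀ a, a ∈ C → ∃ c, φ c = a := fun a ha => by
    have := hspan a ha
    rwa [← Fintype.range_linearCombination] at this
  have hφC : ∀ c, φ c ∈ C := fun c => by
    rw [Fintype.linearCombination_apply]
    exact sum_mem fun f _ => C.smul_mem (prod_mem fun j _ => le_iSup (fun j => Bsub (R := R) (A := A) Gi j) j (bs j (f j)).2) _
  have hdim : Module.finrank R ((∀ j, ι j) → R) = Module.finrank R A := by
    rw [Module.finrank_pi, Fintype.card_pi, ← IsGaloisGroup.card_eq_finrank' H R A, hcard]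
    simp [ι, ← Module.finrank_eq_card_chooseBasisIndex, finrank_Bsub hinj hfix hcard Gi hGi hsup]
  haveI : Module.IsTorsionFree R A := inferInstance
  obtain ⟨gen, hgen⟩ := (Module.Finite.fg_top (R := R) (M := A))
  have h0 := codim_one hinj hfix hcard Gi hGi hsup hMR3 hn (⊥ : Ideal R) (by simp)
  choose t ht htC using h0
  let s := ∏ g ∈ gen, t g
  have hs : s ≠ 0 := fun h => by
    obtain ⟨g, -, hg⟩ := Finset.prod_eq_zero_iff.1 h
    exact ht g (by simp [hg])
  have hsA : ∀ a : A, s • a ∈ LinearMap.range φ := by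
    have : (⊤ : Submodule R A) ≤ (LinearMap.range φ).comap (LinearMap.lsmul R A s) := by
      rw [← hgen, Submodule.span_le]
      intro g hg
      show s • g ∈ LinearMap.range φ
      rw [show s = (∏ g' ∈ gen.erase g, t g') * t g from (Finset.prod_erase_mul _ _ hg).symm, mul_smul]
      exact Submodule.smul_mem _ _ (hφ _ (htC g))
    exact fun a => this Submodule.mem_top
  have hker : Function.Injective φ := by
    have h1 : Module.finrank R A ≤ Module.finrank R (LinearMap.range φ) :=
      LinearMap.finrank_le_finrank_of_injective (f := (LinearMap.lsmul R A s).codRestrict _ hsA)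
        fun a b h => smul_right_injective A hs (congrArg Subtype.val h)
    have h2 := Submodule.finrank_quotient_add_finrank (LinearMap.ker φ)
    rw [φ.quotKerEquivRange.finrank_eq, hdim] at h2
    have h3 : Module.finrank R (LinearMap.ker φ) = 0 := by omega
    rw [← LinearMap.ker_eq_bot]
    exact Submodule.finrank_eq_zero.1 h3
  intro a _
  obtain ⟨c, hc⟩ := hsA a
  have hdiv : ∀ f, c f ∈ Ideal.span {s} := fun f => by
    refine CAlgSerre.mem_span_of_codim_one hasS2 (fun x y h => mul_left_cancel₀ hs h) fun q _ hq => ?_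
    obtain ⟨r, hr, hrC⟩ := codim_one hinj hfix hcard Gi hGi hsup hMR3 hn q hq a
    obtain ⟨d, hd⟩ := hφ _ hrC
    have heq : r • c = s • d := hker (by rw [map_smul, map_smul, hc, hd, smul_comm])
    refine ⟨r, hr, Ideal.mem_span_singleton.2 ⟨d f, ?_⟩⟩
    simpa using congrFun heq f
  choose d hd using fun f => Ideal.mem_span_singleton'.1 (hdiv f)
  have : s • φ d = s • a := by
    rw [← map_smul, ← hc]
    exact congrArg φ (funext fun f => by rw [Pi.smul_apply, smul_eq_mul, mul_comm, hd])
  rw [← smul_right_injective A hs this]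
  exact hφC d

end

end Groth.Agent.WildQuotGal
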