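import Groth.Agent.WildQuotGal.FreeReg
import Groth.Agent.S0565
import Mathlib.RingTheory.TensorProduct.Maps
import Mathlib.RingTheory.TensorProduct.Free
import Mathlib.Algebra.Algebra.Subalgebra.Lattice

/-!
Factors of a regular local algebra which is a coproduct of subalgebras.
-/

universe u v

namespace Groth.Agent.WildQuotGal

open IsLocalRing
open scoped TensorProduct

variable {R : Type u} [CommRing R] [IsLocalRing R] {A : Type v} [CommRing A] [IsLocalRing A] [Algebra R A]

theorem exists_unit_functional [Module.Free R A] [IsLocalHom (algebraMap R A)] :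
    ∃ f : A →ₗ[R] R, f 1 = 1 := by
  classical
  let bb := Module.Free.chooseBasis R A
  by_cases h : ∃ i, IsUnit (bb.repr 1 i)
  · obtain ⟨i, hi⟩ := h
    exact ⟨(↑hi.unit⁻¹ : R) • bb.coord i, by
      rw [LinearMap.smul_apply, Module.Basis.coord_apply, smul_eq_mul, IsUnit.val_inv_mul]⟩
  · push Not at h
    refine absurd ?_ (maximalIdeal.isMaximal A).ne_top
    rw [Ideal.eq_top_iff_one, ← bb.linearCombination_repr 1, Finsupp.linearCombination_apply]
    refine Ideal.sum_mem _ fun i _ => ?_
    dsimp only
    rw [Algebra.smul_def]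
    exact Ideal.mul_mem_right _ _ (map_nonunit _ _ (h i))

theorem coprod_factor [IsNoetherianRing R] [Module.Finite R A] [Module.Free R A] [IsLocalHom (algebraMap R A)]
    {n : ℕ} (B : Fin n → Subalgebra R A)
    (hcoprod : ∀ (C : Type (max u v)) [CommRing C] [Algebra R C] (φ : ∀ i : Fin n, B i →ₐ[R] C),
      ∃! ψ : A →ₐ[R] C, ∀ i (x : B i), ψ x = φ i x) (i : Fin n) :
    Module.Free R (B i) ∧ Module.Flat (B i) A := by
  classical
  set T : Subalgebra R A := ⨆ j ∈ (Finset.univ.erase i : Finset (Fin n)), B j with hT
  have hBT : ∀ j, j ≠ i → B j ≤ T := fun j hj =>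
    le_iSup₂_of_le (f := fun j (_ : j ∈ (Finset.univ.erase i : Finset (Fin n))) => B j) j (by simp [hj]) le_rfl
  let P := (B i) ⊗[R] T
  let μ : P →ₐ[R] A := Algebra.TensorProduct.productMap (B i).val T.val
  let φ : ∀ j, B j →ₐ[R] ULift.{u} P := fun j =>
    (ULift.algEquiv (R := R) (A := P)).symm.toAlgHom.comp
      (if h : j = i then (Algebra.TensorProduct.includeLeft).comp (Subalgebra.inclusion (le_of_eq (congrArg B h)))
        else (Algebra.TensorProduct.includeRight).comp (Subalgebra.inclusion (hBT j h)))
  obtain ⟨ψ₀, hψ₀, -⟩ := hcoprod (ULift.{u} P) φ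
  let ψ : A →ₐ[R] P := (ULift.algEquiv (R := R) (A := P)).toAlgHom.comp ψ₀
  have hψi : ∀ x : B i, ψ x = x ⊗ₜ 1 := fun x => by
    simp [ψ, hψ₀, φ]; rfl
  have hψj : ∀ j (hj : j ≠ i) (x : B j), ψ x = 1 ⊗ₜ (⟨x, hBT j hj x.2⟩ : T) := fun j hj x => by
    simp [ψ, hψ₀, φ, hj]; rfl
  have hμψ : ∀ a, μ (ψ a) = a := by
    have h := (hcoprod (ULift.{u} A) fun j => (ULift.algEquiv (R := R) (A := A)).symm.toAlgHom.comp (B j).val).unique
      (y₁ := (ULift.algEquiv (R := R) (A := A)).symm.toAlgHom.comp (μ.comp ψ))
      (y₂ := (ULift.algEquiv (R := R) (A := A)).symm.toAlgHom) (fun j x => by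
        rcases eq_or_ne j i with rfl | hj
        · simp [μ, hψi x]
          erw [Algebra.TensorProduct.productMap_apply_tmul]
          simp
        · simp [μ, hψj j hj x]
          erw [Algebra.TensorProduct.productMap_apply_tmul]
          simp) (fun j x => rfl)
    intro a
    exact congrArg ULift.down (DFunLike.congr_fun h a)
  have hψT : ∀ t : T, ψ t = 1 ⊗ₜ t := by
    let E : Subalgebra R T := AlgHom.equalizer (ψ.comp T.val) Algebra.TensorProduct.includeRight
    have hle : T ≤ E.map T.val := by
      refine iSup₂_le fun j hj x hx => ?_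
      refine ⟨⟨x, hBT j (Finset.ne_of_mem_erase hj) hx⟩, ?_, rfl⟩
      exact hψj j (Finset.ne_of_mem_erase hj) ⟨x, hx⟩
    intro t
    obtain ⟨t', ht', htt⟩ := hle t.2
    obtain rfl : t' = t := Subtype.ext htt
    exact ht'
  have hψμ : ∀ z, ψ (μ z) = z := by
    intro z
    induction z using TensorProduct.induction_on with
    | zero => simp
    | tmul x t =>
      rw [Algebra.TensorProduct.productMap_apply_tmul, map_mul, Subalgebra.val_apply, Subalgebra.val_apply, hψi,
        hψT, Algebra.TensorProduct.tmul_mul_tmul, mul_one, one_mul]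
    | add x y hx hy => rw [map_add, map_add, hx, hy]
  obtain ⟨f, hf⟩ := exists_unit_functional (R := R) (A := A)
  haveI : Module.Finite R (B i) := inferInstanceAs (Module.Finite R (Subalgebra.toSubmodule (B i)))
  haveI : Module.Finite R T := inferInstanceAs (Module.Finite R (Subalgebra.toSubmodule T))
  have hB : Module.Free R (B i) := by
    let r : A →ₗ[R] B i :=
      (TensorProduct.rid R (B i)).toLinearMap ∘ₗ (f.comp T.val.toLinearMap).lTensor (B i) ∘ₗ ψ.toLinearMap
    haveI : Module.Projective R (B i) := Module.Projective.of_split (B i).val.toLinearMap r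
      (LinearMap.ext fun x => by
        show r (x : A) = x
        simp [r, hψi, hf])
    exact Module.free_of_flat_of_isLocalRing
  haveI : Module.Free R T := by
    let r : A →ₗ[R] T :=
      (TensorProduct.lid R T).toLinearMap ∘ₗ (f.comp (B i).val.toLinearMap).rTensor T ∘ₗ ψ.toLinearMap
    haveI : Module.Projective R T := Module.Projective.of_split T.val.toLinearMap r
      (LinearMap.ext fun x => by
        show r (x : A) = x
        simp [r, hψT, hf])
    exact Module.free_of_flat_of_isLocalRing
  refine ⟨hB, ?_⟩
  let e : P ≃ₗ[B i] A :=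
    { toFun := μ
      invFun := ψ
      left_inv := hψμ
      right_inv := hμψ
      map_add' := map_add μ
      map_smul' := fun b z => by
        show μ (b • z) = (b : A) * μ z
        induction z using TensorProduct.induction_on with
        | zero => simp
        | tmul x t =>
          rw [TensorProduct.smul_tmul', Algebra.TensorProduct.productMap_apply_tmul,
            Algebra.TensorProduct.productMap_apply_tmul, smul_eq_mul, map_mul, mul_assoc]
          rfl
        | add x y hx hy => rw [smul_add, map_add, map_add, hx, hy, mul_add] }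
  haveI : Module.Free (B i) A := Module.Free.of_equiv e
  infer_instance

theorem coprod_factor_regular {R : Type u} [CommRing R] [IsRegularLocalRing R] {A : Type v} [CommRing A]
    [IsRegularLocalRing A] [Algebra R A] [Module.Finite R A] (hinj : Function.Injective (algebraMap R A))
    {n : ℕ} (B : Fin n → Subalgebra R A)
    (hcoprod : ∀ (C : Type (max u v)) [CommRing C] [Algebra R C] (φ : ∀ i : Fin n, B i →ₐ[R] C),
      ∃! ψ : A →ₐ[R] C, ∀ i (x : B i), ψ x = φ i x) (i : Fin n) :
    Module.Free R (B i) ∧ IsRegularLocalRing (B i) := by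
  haveI : FaithfulSMul R A := (faithfulSMul_iff_algebraMap_injective R A).2 hinj
  haveI : Module.Free R A := free_of_regular hinj
  obtain ⟨h1, h2⟩ := coprod_factor B hcoprod i
  haveI : Algebra.IsIntegral (B i) A := Algebra.IsIntegral.tower_top R
  haveI : IsLocalHom (algebraMap (B i) A) := inferInstance
  haveI : IsLocalRing (B i) := RingHom.domain_isLocalRing (algebraMap (B i) A)
  haveI : Module.Finite R (B i) := inferInstanceAs (Module.Finite R (Subalgebra.toSubmodule (B i)))
  haveI : IsNoetherianRing (B i) := IsNoetherianRing.of_finite R (B i)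
  exact ⟨h1, Groth.Agent.S0565.result (B i) A⟩

end Groth.Agent.WildQuotGal
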