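import Mathlib

/-!
Fixed elements of a translation of order `p` in an algebra generated, after inverting the translation
length, by fixed elements and one translated element.
-/

set_option autoImplicit false

universe u

namespace Groth.Agent.WildQuotGal

theorem fixed_mem_adjoin {R A : Type u} [CommRing R] [CommRing A] [IsDomain A] [Algebra R A]
    (p : ℕ) [hp : Fact p.Prime] [CharP A p] (Z gens : Set A) (hgens : Algebra.adjoin R gens = ⊤)
    (u₀ : A) (d c₀ x₀ : R) (hd : algebraMap R A d ≠ 0)
    (hu : u₀ ^ p = algebraMap R A c₀ * u₀ + algebraMap R A x₀)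
    (hgen : ∀ g ∈ gens, algebraMap R A d * g ∈ Algebra.adjoin R (Z ∪ {u₀}))
    (σ : A ≃ₐ[R] A) (hσu : σ u₀ = u₀ + algebraMap R A d) (hσZ : ∀ z ∈ Z, σ z = z)
    (t : A) (ht : σ t = t) :
    ∃ N : ℕ, algebraMap R A d ^ N * t ∈ Algebra.adjoin R Z := by
  classical
  set δ := algebraMap R A d with hδdef
  let C' := Algebra.adjoin R (Z ∪ {u₀})
  have hδC : δ ∈ C' := C'.algebraMap_mem _
  have hloc : ∀ x : A, ∃ N : ℕ, δ ^ N * x ∈ C' := by
    intro x
    have hx : x ∈ Algebra.adjoin R gens := hgens ▸ Algebra.mem_top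
    induction hx using Algebra.adjoin_induction with
    | mem g hg => exact ⟨1, by rw [pow_one]; exact hgen g hg⟩
    | algebraMap r => exact ⟨0, by rw [pow_zero, one_mul]; exact C'.algebraMap_mem r⟩
    | add a b _ _ ha hb =>
      obtain ⟨N, hN⟩ := ha
      obtain ⟨M, hM⟩ := hb
      refine ⟨N + M, ?_⟩
      rw [mul_add]
      refine add_mem ?_ ?_
      · rw [pow_add, mul_right_comm]; exact mul_mem hN (pow_mem hδC M)
      · rw [pow_add, mul_assoc]; exact mul_mem (pow_mem hδC N) hM
    | mul a b _ _ ha hb =>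
      obtain ⟨N, hN⟩ := ha
      obtain ⟨M, hM⟩ := hb
      refine ⟨N + M, ?_⟩
      rw [pow_add, mul_mul_mul_comm]
      exact mul_mem hN hM
  obtain ⟨N, hN⟩ := hloc t
  refine ⟨N, ?_⟩
  rw [show C' = (Algebra.adjoin (Algebra.adjoin R Z) {u₀}).restrictScalars R from
    Algebra.adjoin_union_eq_adjoin_adjoin R Z {u₀}, Subalgebra.mem_restrictScalars,
    Algebra.adjoin_singleton_eq_range_aeval] at hN
  obtain ⟨P₀, hP₀⟩ := hN
  change Polynomial.aeval u₀ P₀ = δ ^ N * t at hP₀
  let G : Polynomial (Algebra.adjoin R Z) := Polynomial.X ^ p -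
    (Polynomial.C (algebraMap R _ c₀) * Polynomial.X + Polynomial.C (algebraMap R _ x₀))
  have hdeg := lt_of_le_of_lt (Polynomial.degree_linear_le
    (a := algebraMap R (Algebra.adjoin R Z) c₀) (b := algebraMap R (Algebra.adjoin R Z) x₀))
    (show (1 : WithBot ℕ) < (p : WithBot ℕ) by exact_mod_cast hp.out.one_lt)
  have hG : G.Monic := Polynomial.monic_X_pow_sub hdeg
  have hGd : G.degree = p := by
    rw [Polynomial.degree_sub_eq_left_of_degree_lt] <;> rw [Polynomial.degree_X_pow]
    exact hdeg
  have hGu : Polynomial.aeval u₀ G = 0 := by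
    simp only [G, map_sub, map_add, map_mul, map_pow, Polynomial.aeval_X, Polynomial.aeval_C,
      ← IsScalarTower.algebraMap_apply]
    exact sub_eq_zero.2 hu
  rw [← Polynomial.aeval_modByMonic_eq_self_of_root hGu] at hP₀
  set P := P₀ %ₘ G
  have hPd : P.degree < p := hGd ▸ Polynomial.degree_modByMonic_lt _ hG
  have hσB : ∀ b : Algebra.adjoin R Z, σ (b : A) = b := fun b =>
    (Algebra.adjoin_le (S := AlgHom.equalizer σ.toAlgHom (AlgHom.id R A)) hσZ) b.2
  have horb : ∀ j : ℕ, Polynomial.eval₂ (algebraMap (Algebra.adjoin R Z) A) (u₀ + j * δ) P = δ ^ N * t := by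
    intro j
    induction j with
    | zero => rw [Nat.cast_zero, zero_mul, add_zero, ← Polynomial.aeval_def]; exact hP₀
    | succ j ih =>
      have := congrArg σ ih
      rw [map_mul, map_pow, ht, show σ δ = δ from σ.commutes _] at this
      rw [← this]
      show _ = (σ : A →+* A) _
      rw [Polynomial.hom_eval₂]
      congr 1
      · exact RingHom.ext fun b => (hσB b).symm
      · show _ = σ (u₀ + j * δ)
        rw [map_add, map_mul, map_natCast, hσu, show σ δ = δ from σ.commutes _]
        push_cast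
        ring
  have hQ : P.map (algebraMap (Algebra.adjoin R Z) A) - Polynomial.C (δ ^ N * t) = 0 := by
    refine Polynomial.eq_zero_of_natDegree_lt_card_of_eval_eq_zero _ (ι := Fin p)
      (f := fun j => u₀ + ((j : ℕ) : A) * δ) ?_ ?_ ?_
    · intro i j hij
      simp only [add_right_inj, mul_left_inj' hd] at hij
      exact Fin.ext (Nat.ModEq.eq_of_lt_of_lt ((CharP.natCast_eq_natCast A p).1 hij) i.2 j.2)
    · intro j
      rw [Polynomial.eval_sub, Polynomial.eval_C, Polynomial.eval_map, horb, sub_self]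
    · rw [Fintype.card_fin]
      refine (Polynomial.natDegree_sub_C).trans_lt ?_
      refine lt_of_le_of_lt Polynomial.natDegree_map_le ?_
      rcases eq_or_ne P 0 with h | h
      · rw [h, Polynomial.natDegree_zero]; exact hp.out.pos
      · exact (Polynomial.natDegree_lt_iff_degree_lt h).2 hPd
  have h0 := congrArg (fun q : Polynomial A => q.coeff 0) hQ
  simp only [Polynomial.coeff_sub, Polynomial.coeff_map, Polynomial.coeff_C_zero, Polynomial.coeff_zero,
    sub_eq_zero] at h0
  rw [← h0]
  exact (P.coeff 0).2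

end Groth.Agent.WildQuotGal
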