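import Groth.Agent.CAlgReg.AusBuch
import Groth.Agent.Depth.SeqDepth
import Groth.Agent.DimTheory.Algebra
import Mathlib.RingTheory.Regular.Free

/-!
Miracle flatness for a finite extension of regular local rings.
-/

universe u v

namespace Groth.Agent.WildQuotGal

open IsLocalRing RingTheory.Sequence

theorem free_of_isWeaklyRegular : ∀ (k : ℕ) (R : Type u) [CommRing R] [IsLocalRing R] [IsNoetherianRing R]
    (M : Type v) [AddCommGroup M] [Module R M] [Module.Finite R M] (l : List R), l.length = k →
    Ideal.ofList l = maximalIdeal R → IsWeaklyRegular M l → Module.Free R M := by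
  intro k
  induction k with
  | zero =>
    intro R _ _ _ M _ _ _ l hl hm _
    rw [List.length_eq_zero_iff.1 hl, Ideal.ofList_nil] at hm
    letI := (IsLocalRing.isField_iff_maximalIdeal_eq.2 hm.symm).toField
    exact Module.Free.of_divisionRing R M
  | succ k ih =>
    intro R _ _ _ M _ _ _ l hl hm hreg
    obtain ⟨x, l', rfl⟩ := List.exists_cons_of_length_eq_add_one hl
    rw [isWeaklyRegular_cons_iff'] at hreg
    have hx : x ∈ maximalIdeal R := hm ▸ Ideal.subset_span (by simp)
    have hne : Ideal.span {x} ≠ ⊤ := fun h => (maximalIdeal.isMaximal R).ne_top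
      (top_le_iff.1 (h ▸ (Ideal.span_singleton_le_iff_mem _).2 hx))
    haveI : Nontrivial (R ⧸ Ideal.span {x}) := Ideal.Quotient.nontrivial_iff.2 hne
    haveI : IsLocalRing (R ⧸ Ideal.span {x}) :=
      IsLocalRing.of_surjective' (Ideal.Quotient.mk _) Ideal.Quotient.mk_surjective
    haveI : Module.Finite (R ⧸ Ideal.span {x}) (QuotSMulTop x M) :=
      Module.Finite.of_restrictScalars_finite R (R ⧸ Ideal.span {x}) (QuotSMulTop x M)
    have hm' : Ideal.ofList (l'.map (Ideal.Quotient.mk (Ideal.span {x}))) = maximalIdeal (R ⧸ Ideal.span {x}) := by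
      haveI : IsLocalHom (Ideal.Quotient.mk (Ideal.span {x})) := IsLocalHom.of_surjective _ Ideal.Quotient.mk_surjective
      rw [← IsLocalRing.map_maximalIdeal_of_surjective _ Ideal.Quotient.mk_surjective, ← hm, Ideal.ofList_cons,
        Ideal.map_sup, Ideal.map_quotient_self, bot_sup_eq, Ideal.map_ofList]
    have hfree := ih (R ⧸ Ideal.span {x}) (QuotSMulTop x M) (l'.map (Ideal.Quotient.mk _))
      (by simpa using hl) hm' hreg.2
    haveI := Module.finitePresentation_of_finite R M
    exact (Module.free_quotSMulTop_iff_free R M (IsLocalRing.maximalIdeal_le_jacobson _ hx) hreg.1).1 hfree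

theorem free_of_regular {R : Type u} [CommRing R] [IsRegularLocalRing R] {A : Type v} [CommRing A]
    [IsRegularLocalRing A] [Algebra R A] [Module.Finite R A] (hinj : Function.Injective (algebraMap R A)) :
    Module.Free R A := by
  haveI : FaithfulSMul R A := (faithfulSMul_iff_algebraMap_injective R A).2 hinj
  obtain ⟨d, hd⟩ := CAlgReg.exists_dim (R := R)
  obtain ⟨s, hcard, hs⟩ := Submodule.FG.exists_span_finset_card_eq_spanFinrank
    (maximalIdeal R).fg_of_isNoetherianRing
  have hl : Ideal.ofList s.toList = maximalIdeal R := by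
    rw [← hs, Ideal.ofList]; simp
  have hlen : s.toList.length = d := by rw [Finset.length_toList, hcard, CAlgReg.spanFinrank_eq_of_dim hd]
  refine free_of_isWeaklyRegular d R A s.toList hlen hl ?_
  rw [← isWeaklyRegular_map_algebraMap_iff A A s.toList]
  have hdA : ringKrullDim A = d := (DimTheory.ringKrullDim_eq_of_integral R A).trans hd
  have hloc : IsLocalHom (algebraMap R A) := inferInstance
  have hmem : ∀ x ∈ s.toList.map (algebraMap R A), x ∈ maximalIdeal A := by
    intro x hx
    obtain ⟨y, hy, rfl⟩ := List.mem_map.1 hx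
    exact map_nonunit _ y (hl ▸ Ideal.subset_span hy)
  refine (Depth.idealDepth_ofList_eq_length_iff _ hmem).1 ?_
  have hrad : (Ideal.ofList (s.toList.map (algebraMap R A))).radical = (maximalIdeal A).radical := by
    rw [← Ideal.map_ofList, hl, (maximalIdeal.isMaximal A).isPrime.radical]
    refine le_antisymm ((Ideal.IsPrime.radical_le_iff inferInstance).2 (map_maximalIdeal_le _)) ?_
    rw [Ideal.radical_eq_sInf]
    refine le_sInf fun P ⟨hP, hPp⟩ => ?_
    haveI := hPp
    have hmax : (P.under R).IsMaximal := by
      have : maximalIdeal R ≤ P.under R := Ideal.map_le_iff_le_comap.1 hP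
      rw [← (maximalIdeal.isMaximal R).eq_of_le Ideal.IsPrime.ne_top' this]
      infer_instance
    haveI : P.IsMaximal := Ideal.isMaximal_of_isIntegral_of_isMaximal_comap P hmax
    exact (IsLocalRing.eq_maximalIdeal this).ge
  rw [Depth.idealDepth_eq_of_radical_eq hrad A, List.length_map, hlen]
  exact CAlgReg.depth_self_eq_dim hdA

end Groth.Agent.WildQuotGal
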