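import Groth.Agent.WildQuotGal.FrobLocCoh
import Groth.Agent.CAlgSerre.NormalImp
import Groth.Agent.CAlgNormal.Basic
import Groth.Agent.RegNormal.Basic
import Groth.Agent.Depth.SeqDepth
import Groth.Agent.S0564

/-!
Purity for Artin–Schreier classes on a regular local ring.
-/

universe v

namespace Groth.Agent.WildQuotGal

open IsLocalRing RingTheory.Sequence

variable {A : Type v} [CommRing A] [IsDomain A] {L : Type v} [Field L] [Algebra A L] [IsFractionRing A L]

/-- regular at a prime -/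
def RegAt (Q : Ideal A) (x : L) : Prop := ∃ n : A, ∃ s ∉ Q, x * algebraMap A L s = algebraMap A L n

theorem RegAt.coe (Q : Ideal A) [Q.IsPrime] (a : A) : RegAt (L := L) Q (Algebra.algebraMap A L a) :=
  ⟨a, 1, Ideal.ne_top_iff_one Q |>.1 Ideal.IsPrime.ne_top', by rw [map_one, mul_one]⟩

theorem RegAt.add {Q : Ideal A} [hQ : Q.IsPrime] {x y : L} (hx : RegAt Q x) (hy : RegAt Q y) : RegAt Q (x + y) := by
  obtain ⟨n, s, hs, h⟩ := hx
  obtain ⟨m, t, ht, h'⟩ := hy
  exact ⟨n * t + m * s, s * t, fun h0 => (hQ.mem_or_mem h0).elim hs ht, by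
    simp only [map_mul, map_add, ← h, ← h']; ring⟩

theorem RegAt.neg {Q : Ideal A} {x : L} (hx : RegAt Q x) : RegAt Q (-x) := by
  obtain ⟨n, s, hs, h⟩ := hx
  exact ⟨-n, s, hs, by rw [map_neg, ← h, neg_mul]⟩

theorem RegAt.sub {Q : Ideal A} [Q.IsPrime] {x y : L} (hx : RegAt Q x) (hy : RegAt Q y) : RegAt Q (x - y) := by
  rw [sub_eq_add_neg]; exact hx.add hy.neg

theorem RegAt.mul {Q : Ideal A} [hQ : Q.IsPrime] {x y : L} (hx : RegAt Q x) (hy : RegAt Q y) : RegAt Q (x * y) := by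
  obtain ⟨n, s, hs, h⟩ := hx
  obtain ⟨m, t, ht, h'⟩ := hy
  exact ⟨n * m, s * t, fun h0 => (hQ.mem_or_mem h0).elim hs ht, by simp only [map_mul, ← h, ← h']; ring⟩

theorem RegAt.pow {Q : Ideal A} [Q.IsPrime] {x : L} (hx : RegAt Q x) : ∀ n : ℕ, RegAt Q (x ^ n)
  | 0 => by rw [pow_zero, ← map_one (Algebra.algebraMap A L)]; exact RegAt.coe Q 1
  | n + 1 => by rw [pow_succ]; exact (RegAt.pow hx n).mul hx

theorem RegAt.div {Q : Ideal A} (n : A) {s : A} (hs : s ∉ Q) :
    RegAt (L := L) Q (Algebra.algebraMap A L n / Algebra.algebraMap A L s) :=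
  ⟨n, s, hs, div_mul_cancel₀ _ ((map_ne_zero_iff _ (IsFractionRing.injective A L)).2 fun h => hs (by rw [h]; exact Q.zero_mem))⟩

variable [IsNoetherianRing A] [IsIntegrallyClosed A]

theorem hasS2_normal : LocCoh.HasSk 2 A A := by
  refine ((CAlgSerre.normal_iff (R := A)).1 fun p _ => ?_).2
  exact CAlgNormal.normal_transfer (L := Localization.AtPrime p) p.primeCompl (fun h => h (zero_mem _))

theorem exists_algebraMap_eq_of_forall_regAt {x : L}
    (h : ∀ (Q : Ideal A) [Q.IsPrime], Q.height ≤ 1 → RegAt Q x) : ∃ a, algebraMap A L a = x := by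
  obtain ⟨N, D, hD, rfl⟩ := IsFractionRing.div_surjective (A := A) x
  have hD0 : algebraMap A L D ≠ 0 := (map_ne_zero_iff _ (IsFractionRing.injective A L)).2 (nonZeroDivisors.ne_zero hD)
  obtain ⟨a, ha⟩ := Ideal.mem_span_singleton'.1 (CAlgSerre.mem_span_of_codim_one hasS2_normal
    (b := D) (a := N) (fun p q hpq => mul_left_cancel₀ (nonZeroDivisors.ne_zero hD) hpq) fun Q _ hQ => by
      obtain ⟨n, s, hs, hns⟩ := h Q hQ
      refine ⟨s, hs, Ideal.mem_span_singleton'.2 ⟨n, IsFractionRing.injective A L ?_⟩⟩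
      rw [map_mul, map_mul, ← hns]
      field_simp)
  exact ⟨a, by rw [← ha, map_mul, mul_div_assoc, div_self hD0, mul_one]⟩

/-- primes of height at most one containing `d` -/
theorem mem_associatedPrimes_of_height_le_one {d : A} (hd : d ≠ 0) (Q : Ideal A) [Q.IsPrime] (hQ : Q.height ≤ 1)
    (hdQ : d ∈ Q) : Q ∈ associatedPrimes A (A ⧸ Ideal.span {d}) := by
  refine Module.associatedPrimes.minimalPrimes_annihilator_subset_associatedPrimes A (A ⧸ Ideal.span {d}) ?_
  rw [Ideal.annihilator_quotient]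
  refine ⟨⟨inferInstance, (Ideal.span_singleton_le_iff_mem _).2 hdQ⟩, fun P hP hPQ => ?_⟩
  haveI := hP.1
  by_contra hne
  have hlt : P < Q := lt_of_le_not_ge hPQ hne
  have hP0 : P ≠ ⊥ := fun h0 => hd (by
    have := hP.2 (Ideal.subset_span (Set.mem_singleton d))
    rwa [h0, Ideal.mem_bot] at this)
  have := (add_le_add (Order.one_le_iff_ne_zero.2 (mt Ideal.height_eq_zero_iff_eq_bot.1 hP0)) le_rfl).trans
    ((Ideal.height_add_one_le_of_lt_of_isPrime hlt).trans hQ)
  norm_num at this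

theorem height_le_one_of_associated {d : A} (hd : d ≠ 0) (Q : Ideal A)
    (hQ : Q ∈ associatedPrimes A (A ⧸ Ideal.span {d})) : Q.IsPrime ∧ d ∈ Q ∧ Q.height ≤ 1 := by
  have hQp : IsAssociatedPrime Q (A ⧸ Ideal.span {d}) := hQ
  haveI := hQp.isPrime
  obtain ⟨-, y, hy⟩ := isAssociatedPrime_iff.1 hQp
  obtain ⟨y, rfl⟩ := Ideal.Quotient.mk_surjective y
  have hyq : ∀ r, r ∈ Q ↔ r * y ∈ Ideal.span {d} := fun r => by
    rw [hy, Submodule.mem_colon_singleton, Submodule.mem_bot, Algebra.smul_def,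
      Ideal.Quotient.algebraMap_eq, ← map_mul, Ideal.Quotient.eq_zero_iff_mem]
  have hdQ : d ∈ Q := (hyq d).2 (Ideal.mul_mem_right _ _ (Ideal.subset_span rfl))
  exact ⟨inferInstance, hdQ, CAlgSerre.height_le_one_of_mem_associatedPrimes hasS2_normal
    (fun p q hpq => mul_left_cancel₀ hd hpq) hdQ (fun s hs hsy => hs ((hyq s).2 hsy)) fun r hr => (hyq r).1 hr⟩

theorem exists_pow_mem {d : A} (hd : d ≠ 0) (Q : Ideal A) [Q.IsPrime] (hQ : Q.height ≤ 1) (hdQ : d ∈ Q) {q : A}
    (hq : q ∈ Q) : ∃ N, ∃ s ∉ Q, s * q ^ N ∈ Ideal.span {d} := by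
  by_contra hne
  push Not at hne
  obtain ⟨P, hP, hdP, hdis⟩ := Ideal.exists_le_prime_disjoint (Ideal.span {d}) (Q.primeCompl ⊔ Submonoid.powers q) (by
    rw [Set.disjoint_left]
    intro z hz hz'
    obtain ⟨s, hs, _, ⟨N, rfl⟩, rfl⟩ := Submonoid.mem_sup.1 hz'
    exact hne N s hs hz)
  haveI := hP
  have hPQ : P ≤ Q := fun z hz => by
    by_contra hzQ
    exact Set.disjoint_left.1 hdis hz (Submonoid.mem_sup_left hzQ)
  have hlt : P < Q := lt_of_le_of_ne hPQ fun h => Set.disjoint_left.1 hdis (h ▸ hq)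
    (Submonoid.mem_sup_right (Submonoid.mem_powers q))
  have hP0 : P ≠ ⊥ := fun h0 => hd (by
    have := hdP (Ideal.subset_span (Set.mem_singleton d))
    rwa [h0, Ideal.mem_bot] at this)
  have := (add_le_add (Order.one_le_iff_ne_zero.2 (mt Ideal.height_eq_zero_iff_eq_bot.1 hP0)) le_rfl).trans
    ((Ideal.height_add_one_le_of_lt_of_isPrime hlt).trans hQ)
  norm_num at this

omit [IsIntegrallyClosed A] in
theorem dim_two_data {B : Type v} [CommRing B] [IsDomain B] [IsRegularLocalRing B] {v d w : B}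
    (hv : v ≠ 0) (hvm : v ∈ maximalIdeal B) (hdm : d ∈ maximalIdeal B) (hd : ∀ z, v ∣ d * z → v ∣ z)
    (hw : w ∉ Ideal.span {v, d}) (hwm : ∀ e ∈ maximalIdeal B, e * w ∈ Ideal.span {v, d}) :
    ringKrullDim B = 2 ∧ ∃ x y : B, (∀ z, x ∣ y * z → x ∣ z) ∧ x ≠ 0 ∧ y ≠ 0 ∧ maximalIdeal B = Ideal.span {x, y} := by
  classical
  obtain ⟨n, hn⟩ := CAlgReg.exists_dim (R := B)
  have hreg : IsWeaklyRegular B [v, d] := by
    rw [isWeaklyRegular_cons_iff, isWeaklyRegular_singleton_iff]
    refine ⟨fun a b h => mul_left_cancel₀ hv h, isSMulRegular_iff_right_eq_zero_of_smul.2 fun z hz => ?_⟩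
    obtain ⟨z, rfl⟩ := Submodule.Quotient.mk_surjective _ z
    rw [← Submodule.Quotient.mk_smul, Submodule.Quotient.mk_eq_zero] at hz
    obtain ⟨s, -, hs⟩ := (Submodule.mem_smul_pointwise_iff_exists _ _ _).1 hz
    obtain ⟨t, rfl⟩ := hd z ⟨s, hs.symm⟩
    rw [Submodule.Quotient.mk_eq_zero]
    exact (Submodule.mem_smul_pointwise_iff_exists _ _ _).2 ⟨t, trivial, rfl⟩
  have hsp : Ideal.ofList [v, d] = Ideal.span {v, d} := by
    rw [Ideal.ofList]; congr 1; ext; simp
  have hsm : ∀ z : B, z ∈ Ideal.ofList [v, d] • (⊤ : Submodule B B) ↔ z ∈ Ideal.span {v, d} := fun z => by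
    rw [hsp, smul_eq_mul, Ideal.mul_top]
  have h0 : LocCoh.depth B (B ⧸ Ideal.ofList [v, d] • (⊤ : Submodule B B)) = 0 := by
    haveI : Nontrivial (B ⧸ Ideal.ofList [v, d] • (⊤ : Submodule B B)) :=
      ⟨⟨Submodule.Quotient.mk w, 0, fun h => hw ((hsm w).1 ((Submodule.Quotient.mk_eq_zero _).1 h))⟩⟩
    rw [Depth.depth_eq_zero_iff]
    refine isAssociatedPrime_iff.2 ⟨inferInstance, Submodule.Quotient.mk w, ?_⟩
    ext e
    rw [Submodule.mem_colon_singleton, Submodule.mem_bot, ← Submodule.Quotient.mk_smul, Submodule.Quotient.mk_eq_zero,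
      hsm, smul_eq_mul]
    refine ⟨hwm e, fun he => ?_⟩
    by_contra hem
    exact hw ((Ideal.unit_mul_mem_iff_mem _ (IsLocalRing.notMem_maximalIdeal.1 hem)).1 he)
  have hlen := Depth.idealDepth_quot_ofList_add_length (I := maximalIdeal B) [v, d] B hreg
    (by intro r hr; rcases List.mem_pair.1 hr with rfl | rfl <;> assumption)
  rw [← LocCoh.depth, ← LocCoh.depth, h0, CAlgReg.depth_self_eq_dim hn, zero_add] at hlen
  have hn2 : n = 2 := by exact_mod_cast hlen.symm
  subst hn2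
  refine ⟨hn, ?_⟩
  obtain ⟨s, hs, hspan⟩ := Submodule.FG.exists_span_finset_card_eq_spanFinrank (maximalIdeal B).fg_of_isNoetherianRing
  rw [CAlgReg.spanFinrank_eq_of_dim hn] at hs
  obtain ⟨x, y, hxy, rfl⟩ := Finset.card_eq_two.1 hs
  have hm : maximalIdeal B = Ideal.span {x, y} := by rw [← hspan]; simp
  have hmin : ∀ a : B, maximalIdeal B ≠ Ideal.span {a} := fun a ha => by
    have := Submodule.spanFinrank_span_le_ncard_of_finite (R := B) (Set.finite_singleton a)
    rw [Set.ncard_singleton, ← Ideal.span, ← ha, CAlgReg.spanFinrank_eq_of_dim hn] at this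
    omega
  have hxm : x ∈ maximalIdeal B := hm ▸ Ideal.subset_span (by simp)
  have hnd : ¬ x ∣ y := fun h => hmin x (le_antisymm
    (hm ▸ Ideal.span_le.2 (by rintro z (rfl | rfl); exacts [Ideal.subset_span rfl, Ideal.mem_span_singleton.2 h]))
    ((Ideal.span_singleton_le_iff_mem _).2 hxm))
  have hx0 : x ≠ 0 := fun h => hmin y (by rw [hm, h, Ideal.span_insert_zero])
  have hy0 : y ≠ 0 := fun h => hnd (h ▸ dvd_zero x)
  have hym : y ∈ maximalIdeal B := hm ▸ Ideal.subset_span (by simp)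
  have hx2 : x ∉ maximalIdeal B ^ 2 := fun h => by
    refine hmin y (le_antisymm ?_ ((Ideal.span_singleton_le_iff_mem _).2 hym))
    refine Submodule.le_of_le_smul_of_le_jacobson_bot (maximalIdeal B).fg_of_isNoetherianRing
      (IsLocalRing.maximalIdeal_le_jacobson _) ?_
    rw [smul_eq_mul]
    conv_lhs => rw [hm]
    refine Ideal.span_le.2 ?_
    rintro z (rfl | rfl)
    · exact Submodule.mem_sup_right (by rwa [← pow_two])
    · exact Submodule.mem_sup_left (Ideal.subset_span rfl)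
  haveI := (CAlgReg.quotient_span_singleton hxm hx2 hn).2.1
  haveI : IsDomain (B ⧸ Ideal.span ({x} : Set B)) := CAlgReg.isDomain
  refine ⟨x, y, fun z hz => ?_, hx0, hy0, hm⟩
  rw [← Ideal.mem_span_singleton, ← Ideal.Quotient.eq_zero_iff_mem, map_mul, mul_eq_zero] at hz
  rcases hz with hz | hz
  · exact absurd (Ideal.mem_span_singleton.1 (Ideal.Quotient.eq_zero_iff_mem.1 hz)) hnd
  · exact Ideal.mem_span_singleton.1 (Ideal.Quotient.eq_zero_iff_mem.1 hz)

theorem mem_span_pair_of_congruence {A : Type v} [CommRing A] [IsDomain A] [IsRegularLocalRing A]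
    [IsIntegrallyClosed A] (p : ℕ) [Fact p.Prime] [CharP A p] {v d : A} (hv0 : v ≠ 0)
    (hvd : ∀ Q : Ideal A, Q.IsPrime → Q.height ≤ 1 → v ∈ Q → d ∉ Q) {u : A}
    (hu : u ^ p - u * (v * d) ^ (p - 1) ∈ Ideal.span {v ^ p, d ^ p}) : u ∈ Ideal.span {v, d} := by
  by_contra hu0
  obtain ⟨P, hPa, hle⟩ := exists_le_isAssociatedPrime_of_isNoetherianRing A (Ideal.Quotient.mk (Ideal.span {v, d}) u)
    (fun h => hu0 (Ideal.Quotient.eq_zero_iff_mem.1 h))
  haveI := hPa.isPrime
  obtain ⟨-, y, hy⟩ := isAssociatedPrime_iff.1 hPa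
  obtain ⟨w, rfl⟩ := Ideal.Quotient.mk_surjective y
  have hwP : ∀ r, r ∈ P ↔ r * w ∈ Ideal.span {v, d} := fun r => by
    rw [hy, Submodule.mem_colon_singleton, Submodule.mem_bot, Algebra.smul_def,
      Ideal.Quotient.algebraMap_eq, ← map_mul, Ideal.Quotient.eq_zero_iff_mem]
  have hcolon : ∀ r, r * u ∈ Ideal.span {v, d} → r ∈ P := fun r hr => hle (by
    rw [Submodule.mem_colon_singleton, Submodule.mem_bot, Algebra.smul_def,
      Ideal.Quotient.algebraMap_eq, ← map_mul, Ideal.Quotient.eq_zero_iff_mem]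
    exact hr)
  let B := Localization.AtPrime P
  haveI : IsRegularLocalRing B := S0564.result A P
  haveI : IsDomain B := IsLocalization.isDomain_of_le_nonZeroDivisors B P.primeCompl_le_nonZeroDivisors
  let f := algebraMap A B
  have hinj : Function.Injective f := IsLocalization.injective B P.primeCompl_le_nonZeroDivisors
  haveI : CharP B p := charP_of_injective_algebraMap hinj p
  have hmap : Ideal.span {f v, f d} = (Ideal.span {v, d}).map f := by rw [Ideal.map_span, Set.image_pair]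
  have hPm : ∀ r, r ∈ P → f r ∈ maximalIdeal B := fun r hr =>
    (IsLocalization.AtPrime.to_map_mem_maximal_iff B P r).2 hr
  have hout : ∀ z : A, (∀ r, r * z ∈ Ideal.span {v, d} → r ∈ P) → f z ∉ Ideal.span {f v, f d} := fun z hz h => by
    rw [hmap, IsLocalization.algebraMap_mem_map_algebraMap_iff P.primeCompl B] at h
    obtain ⟨m, hm, hmz⟩ := h
    exact hm (hz m hmz)
  have hvP : v ∈ P := (hwP v).2 (Ideal.mul_mem_right _ _ (Ideal.subset_span (by simp)))
  have hdP : d ∈ P := (hwP d).2 (Ideal.mul_mem_right _ _ (Ideal.subset_span (by simp)))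
  have hdA : ∀ z, v ∣ d * z → v ∣ z := fun z hz => Ideal.mem_span_singleton.1
    (CAlgSerre.mem_span_of_codim_one hasS2_normal (fun a b h => mul_left_cancel₀ hv0 h) fun Q hQ hQ1 => by
      by_cases hvQ : v ∈ Q
      · exact ⟨d, hvd Q hQ hQ1 hvQ, Ideal.mem_span_singleton.2 hz⟩
      · exact ⟨v, hvQ, Ideal.mem_span_singleton.2 (dvd_mul_right v z)⟩)
  have hdB : ∀ z, f v ∣ f d * z → f v ∣ z := by
    intro z hz
    obtain ⟨a, s, rfl⟩ := IsLocalization.exists_mk'_eq P.primeCompl z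
    have h1 : f (d * a) ∈ (Ideal.span {v}).map f := by
      rw [Ideal.map_span, Set.image_singleton, Ideal.mem_span_singleton, map_mul,
        ← IsLocalization.mk'_spec B a s]
      exact (hz.mul_right (f s)).trans (dvd_of_eq (mul_assoc _ _ _))
    rw [IsLocalization.algebraMap_mem_map_algebraMap_iff P.primeCompl B] at h1
    obtain ⟨m, hm, hma⟩ := h1
    obtain ⟨e, he⟩ := hdA (m * a) (by rw [← mul_assoc, mul_comm d m, mul_assoc]; exact Ideal.mem_span_singleton.1 hma)
    have hum : IsUnit (f m) := IsLocalization.map_units B ⟨m, hm⟩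
    have hus : IsUnit (f s) := IsLocalization.map_units B s
    rw [← (hum.mul hus).dvd_mul_right, mul_comm, mul_assoc, mul_comm (f s), IsLocalization.mk'_spec, ← map_mul, he,
      map_mul]
    exact dvd_mul_right _ _
  have hwB : ∀ e ∈ maximalIdeal B, e * f w ∈ Ideal.span {f v, f d} := by
    intro e he
    obtain ⟨r, s, rfl⟩ := IsLocalization.exists_mk'_eq P.primeCompl e
    rw [IsLocalization.AtPrime.mk'_mem_maximal_iff B P] at he
    rw [← Ideal.unit_mul_mem_iff_mem _ (IsLocalization.map_units B s), ← mul_assoc, mul_comm (algebraMap A B ↑s),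
      IsLocalization.mk'_spec, hmap, ← map_mul]
    exact Ideal.mem_map_of_mem f ((hwP r).1 he)
  obtain ⟨hdim, x, y', hreg, hx0, hy0, hm⟩ := dim_two_data ((map_ne_zero_iff f hinj).2 hv0) (hPm v hvP) (hPm d hdP)
    hdB (hout w fun r hr => (hwP r).2 hr) hwB
  have hxm : x ∈ maximalIdeal B := hm ▸ Ideal.subset_span (by simp)
  have hym : y' ∈ maximalIdeal B := hm ▸ Ideal.subset_span (by simp)
  have hrad : maximalIdeal B ≤ (Ideal.span {f v, f d}).radical := by
    rw [Ideal.radical_eq_sInf]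
    refine le_sInf fun Q ⟨hQ, hQp⟩ => ?_
    haveI := hQp
    have h2 : ¬ (Q.under A).height ≤ 1 := fun h1 =>
      hvd (Q.under A) inferInstance h1 (hQ (Ideal.subset_span (show f v ∈ ({f v, f d} : Set B) by simp)))
        (hQ (Ideal.subset_span (show f d ∈ ({f v, f d} : Set B) by simp)))
    rw [IsLocalization.height_under P.primeCompl] at h2
    refine (Ideal.eq_of_le_of_height_le (I := Q) (J := maximalIdeal B) (IsLocalRing.le_maximalIdeal hQp.ne_top) ?_).ge
    have hmh : (maximalIdeal B).height = 2 := by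
      have := IsLocalRing.maximalIdeal_height_eq_ringKrullDim (R := B)
      rw [hdim] at this
      exact WithBot.coe_injective this
    rw [hmh]
    exact Order.add_one_le_of_lt (not_le.1 h2)
  refine hout u hcolon (frob_fixed_mem hreg hx0 hy0 hxm hym hm p (hPm v hvP) (hPm d hdP) hrad hdB (f u) ?_)
  have := Ideal.mem_map_of_mem f hu
  rwa [Ideal.map_span, Set.image_pair, map_pow, map_pow, map_sub, map_mul, map_pow, map_pow, map_mul] at this

theorem as_purity {A : Type v} [CommRing A] [IsDomain A] [IsRegularLocalRing A] [IsIntegrallyClosed A] {L : Type v}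
    [Field L] [Algebra A L] [IsFractionRing A L] (p : ℕ) [Fact p.Prime] [CharP A p] (a : L)
    (h : ∀ (P : Ideal A) [P.IsPrime], P.height ≤ 1 → ∃ b : L, RegAt P (a - (b ^ p - b))) :
    ∃ (b : L) (c : A), a - (b ^ p - b) = algebraMap A L c := by
  classical
  have hp : 2 ≤ p := (Fact.out : p.Prime).two_le
  haveI : CharP L p := charP_of_injective_algebraMap (IsFractionRing.injective A L) p
  obtain ⟨N₀, d, hd, rfl⟩ := IsFractionRing.div_surjective (A := A) a
  have hd0 : d ≠ 0 := nonZeroDivisors.ne_zero hd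
  have hL : ∀ {z : A}, z ≠ 0 → algebraMap A L z ≠ 0 := fun hz =>
    (map_ne_zero_iff _ (IsFractionRing.injective A L)).2 hz
  set a := algebraMap A L N₀ / algebraMap A L d with ha
  set S := associatedPrimes A (A ⧸ Ideal.span {d}) with hS
  haveI : Fintype S := (associatedPrimes.finite A _).fintype
  have hSp : ∀ P : S, (P : Ideal A).IsPrime ∧ d ∈ (P : Ideal A) ∧ (P : Ideal A).height ≤ 1 := fun P =>
    height_le_one_of_associated hd0 P P.2
  have hbS : ∀ P : S, ∃ b : L, RegAt (P : Ideal A) (a - (b ^ p - b)) ∧ RegAt (P : Ideal A) (algebraMap A L d * b) := by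
    intro P
    haveI := (hSp P).1
    obtain ⟨b, hb⟩ := @h (P : Ideal A) inferInstance (hSp P).2.2
    refine ⟨b, hb, ?_⟩
    -- `d * b` is integral over the localization
    set e := algebraMap A L d * b
    have hpe : RegAt (P : Ideal A) (e ^ p - e * algebraMap A L (d ^ (p - 1))) := by
      have h1 : e ^ p - e * algebraMap A L (d ^ (p - 1))
          = algebraMap A L (d ^ (p - 1) * N₀) - algebraMap A L (d ^ p) * (a - (b ^ p - b)) := by
        obtain ⟨q, hq⟩ : ∃ q, p = q + 1 := ⟨p - 1, by omega⟩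
        have hdL := hL hd0
        simp only [e, ha, map_mul, map_pow, mul_pow, hq, Nat.add_sub_cancel, pow_succ]
        field_simp
        ring
      rw [h1]
      exact (RegAt.coe _ _).sub ((RegAt.coe _ _).mul hb)
    obtain ⟨n, s, hs, hns⟩ := hpe
    have hint : IsIntegral A (algebraMap A L s * e) := by
      refine ⟨Polynomial.X ^ p - (Polynomial.C (s ^ (p - 1) * d ^ (p - 1)) * Polynomial.X
        + Polynomial.C (s ^ (p - 1) * n)), Polynomial.monic_X_pow_sub ?_, ?_⟩
      · exact (Polynomial.degree_linear_le).trans_lt (by exact_mod_cast hp)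
      · obtain ⟨q, hq⟩ : ∃ q, p = q + 1 := ⟨p - 1, by omega⟩
        simp only [Polynomial.eval₂_sub, Polynomial.eval₂_add, Polynomial.eval₂_mul, Polynomial.eval₂_C,
          Polynomial.eval₂_X, Polynomial.eval₂_pow, map_mul, map_pow, ← hns]
        simp only [hq, Nat.add_sub_cancel]
        ring
    obtain ⟨m, hm⟩ := IsIntegrallyClosed.isIntegral_iff.1 hint
    exact ⟨m, s, hs, by rw [hm, mul_comm]⟩
  choose bS hb1 hb2 using hbS
  choose uS vS hvS huS using hb2
  -- separating elements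
  have hg : ∀ P : S, ∃ g ∉ (P : Ideal A), ∀ Q : S, Q ≠ P → ∃ s ∉ (Q : Ideal A), s * g ∈ Ideal.span {d} := by
    intro P
    haveI := (hSp P).1
    have hq : ∀ Q : S, ∃ g ∉ (P : Ideal A), Q ≠ P → ∃ s ∉ (Q : Ideal A), s * g ∈ Ideal.span {d} := by
      intro Q
      rcases eq_or_ne Q P with rfl | hQP
      · exact ⟨1, (Ideal.ne_top_iff_one _).1 Ideal.IsPrime.ne_top', fun h => absurd rfl h⟩
      haveI := (hSp Q).1
      have hnle : ¬ (Q : Ideal A) ≤ (P : Ideal A) := fun hle => hQP (Subtype.ext (by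
        by_contra hne
        have hQ0 : (Q : Ideal A) ≠ ⊥ := fun h0 => hd0 (by
          have := (hSp Q).2.1; rwa [h0, Ideal.mem_bot] at this)
        have := (add_le_add (Order.one_le_iff_ne_zero.2 (mt Ideal.height_eq_zero_iff_eq_bot.1 hQ0)) le_rfl).trans
          ((Ideal.height_add_one_le_of_lt_of_isPrime (lt_of_le_of_ne hle hne)).trans (hSp P).2.2)
        norm_num at this))
      obtain ⟨q, hqQ, hqP⟩ := SetLike.not_le_iff_exists.1 hnle
      obtain ⟨k, s, hs, hsq⟩ := exists_pow_mem hd0 (Q : Ideal A) (hSp Q).2.2 (hSp Q).2.1 hqQ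
      exact ⟨q ^ k, fun h => hqP ((hSp P).1.mem_of_pow_mem k h), fun _ => ⟨s, hs, hsq⟩⟩
    choose g hg hg' using hq
    refine ⟨∏ Q, g Q, fun h => ?_, fun Q hQP => ?_⟩
    · obtain ⟨Q, -, hQ⟩ := (Ideal.IsPrime.prod_mem_iff (p := (P : Ideal A))).1 h
      exact hg Q hQ
    · obtain ⟨s, hs, hsg⟩ := hg' Q hQP
      refine ⟨s, hs, ?_⟩
      rw [← Finset.mul_prod_erase _ _ (Finset.mem_univ Q), ← mul_assoc]
      exact Ideal.mul_mem_right _ _ hsg
  choose g hgP hgQ using hg
  have hgmem : ∀ P Q : S, Q ≠ P → g P ∈ (Q : Ideal A) := fun P Q hQP => by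
    obtain ⟨s, hs, hsg⟩ := hgQ P Q hQP
    haveI := (hSp Q).1
    exact ((hSp Q).1.mem_or_mem ((Ideal.span_singleton_le_iff_mem _).2 (hSp Q).2.1 hsg)).resolve_left hs
  let v : A := (∑ P : S, g P * vS P) + if IsEmpty S then 1 else 0
  let u : A := ∑ P : S, g P * uS P
  have hvP : ∀ P : S, v ∉ (P : Ideal A) := by
    intro P h'
    haveI : Nonempty S := ⟨P⟩
    simp only [v, if_neg (not_isEmpty_of_nonempty S), add_zero] at h'
    rw [← Finset.add_sum_erase _ _ (Finset.mem_univ P)] at h'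
    have h2 : ∑ Q ∈ Finset.univ.erase P, g Q * vS Q ∈ (P : Ideal A) :=
      sum_mem fun Q hQ => Ideal.mul_mem_right _ _ (hgmem Q P (Finset.ne_of_mem_erase hQ).symm)
    exact ((hSp P).1.mem_or_mem (((P : Ideal A).add_mem_iff_left h2).1 h')).elim (hgP P) (hvS P)
  have hv0 : v ≠ 0 := by
    rcases isEmpty_or_nonempty S with hE | ⟨⟨P⟩⟩
    · simp only [v, if_pos hE, Finset.univ_eq_empty, Finset.sum_empty, zero_add]; exact one_ne_zero
    · exact fun h0 => hvP P (h0 ▸ Ideal.zero_mem _)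
  have hdv : ∀ Q : Ideal A, Q.IsPrime → Q.height ≤ 1 → v ∈ Q → d ∉ Q := fun Q hQ h1 hvQ hdQ =>
    hvP ⟨Q, mem_associatedPrimes_of_height_le_one hd0 Q h1 hdQ⟩ hvQ
  set b := algebraMap A L u / algebraMap A L (v * d) with hb
  have hdiff : ∀ P : S, RegAt (P : Ideal A) (b - bS P) := by
    intro P
    haveI := (hSp P).1
    obtain ⟨s, hs, m, hm⟩ : ∃ s ∉ (P : Ideal A), ∃ m, s * (u * vS P - uS P * v) = d * m := by
      have hQ : ∀ Q : S, ∃ s ∉ (P : Ideal A), s * (g Q * (uS Q * vS P - uS P * vS Q)) ∈ Ideal.span {d} := by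
        intro Q
        rcases eq_or_ne P Q with rfl | hne
        · exact ⟨1, (Ideal.ne_top_iff_one _).1 Ideal.IsPrime.ne_top', by simp⟩
        · obtain ⟨s, hs, hsg⟩ := hgQ Q P hne
          exact ⟨s, hs, by rw [← mul_assoc]; exact Ideal.mul_mem_right _ _ hsg⟩
      choose s hs hsQ using hQ
      refine ⟨∏ Q, s Q, fun h' => ?_, ?_⟩
      · obtain ⟨Q, -, hQ⟩ := (Ideal.IsPrime.prod_mem_iff (p := (P : Ideal A))).1 h'
        exact hs Q hQ
      · obtain ⟨m, hm⟩ := Ideal.mem_span_singleton.1 (show (∏ Q, s Q) * (u * vS P - uS P * v) ∈ Ideal.span {d} by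
          haveI : Nonempty S := ⟨P⟩
          simp only [u, v, if_neg (not_isEmpty_of_nonempty S), add_zero, Finset.sum_mul, Finset.mul_sum,
            ← Finset.sum_sub_distrib]
          refine sum_mem fun Q _ => ?_
          rw [← Finset.mul_prod_erase _ _ (Finset.mem_univ Q)]
          convert Ideal.mul_mem_left _ (∏ x ∈ Finset.univ.erase Q, s x) (hsQ Q) using 1
          ring)
        exact ⟨m, hm⟩
    refine ⟨m, s * (v * vS P), fun h' => ((hSp P).1.mem_or_mem h').elim hs
      fun h'' => ((hSp P).1.mem_or_mem h'').elim (hvP P) (hvS P), ?_⟩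
    have hdL := hL hd0
    have hvL := hL hv0
    have e := congrArg (algebraMap A L) hm
    simp only [map_mul, map_sub, ← huS P] at e
    simp only [hb, map_mul]
    field_simp
    linear_combination e
  have hmem : ∀ (Q : Ideal A) [Q.IsPrime], Q.height ≤ 1 →
      RegAt Q (algebraMap A L (v ^ p) * (a - (b ^ p - b))) := by
    intro Q hQ h1
    by_cases hdQ : d ∈ Q
    · let P : S := ⟨Q, mem_associatedPrimes_of_height_le_one hd0 Q h1 hdQ⟩
      have hPQ : (P : Ideal A) = Q := rfl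
      have e : a - (b ^ p - b) = (a - (bS P ^ p - bS P)) - ((b - bS P) ^ p - (b - bS P)) := by
        rw [sub_pow_char]; ring
      rw [e]
      exact (RegAt.coe _ _).mul ((hPQ ▸ hb1 P).sub (((hPQ ▸ hdiff P).pow p).sub (hPQ ▸ hdiff P)))
    · have hvb : RegAt Q (algebraMap A L v * b) := ⟨u, d, hdQ, by
        rw [hb, map_mul]; field_simp [hL hv0, hL hd0]⟩
      obtain ⟨q, hq⟩ : ∃ q, p = q + 1 := ⟨p - 1, by omega⟩
      have e : algebraMap A L (v ^ p) * (a - (b ^ p - b)) = algebraMap A L (v ^ p) * a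
          - ((algebraMap A L v * b) ^ p - algebraMap A L (v ^ (p - 1)) * (algebraMap A L v * b)) := by
        rw [hq]; simp only [Nat.add_sub_cancel, map_pow]; ring
      rw [e]
      exact ((RegAt.coe _ _).mul (RegAt.div N₀ hdQ)).sub
        ((hvb.pow p).sub ((RegAt.coe _ _).mul hvb))
  obtain ⟨c, hc⟩ := exists_algebraMap_eq_of_forall_regAt hmem
  have hcong : u ^ p - u * (v * d) ^ (p - 1) ∈ Ideal.span {v ^ p, d ^ p} := by
    obtain ⟨q, hq⟩ : ∃ q, p = q + 1 := ⟨p - 1, by omega⟩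
    refine Ideal.mem_span_pair.2 ⟨N₀ * d ^ q, -c, IsFractionRing.injective A L ?_⟩
    simp only [map_add, map_sub, map_mul, map_pow, map_neg, hc]
    simp only [ha, hb, hq, Nat.add_sub_cancel, map_mul, pow_succ, mul_pow, div_pow]
    field_simp [hL hv0, hL hd0]
    ring
  obtain ⟨r, s, hrs⟩ := Ideal.mem_span_pair.1 (mem_span_pair_of_congruence p hv0 hdv hcong)
  refine ⟨algebraMap A L r / algebraMap A L d, ?_⟩
  have hfin : ∀ (Q : Ideal A) [Q.IsPrime], Q.height ≤ 1 →
      RegAt Q (a - ((algebraMap A L r / algebraMap A L d) ^ p - algebraMap A L r / algebraMap A L d)) := by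
    intro Q hQ h1
    by_cases hdQ : d ∈ Q
    · let P : S := ⟨Q, mem_associatedPrimes_of_height_le_one hd0 Q h1 hdQ⟩
      have hPQ : (P : Ideal A) = Q := rfl
      set b' := algebraMap A L r / algebraMap A L d
      have hbb : RegAt Q (b' - bS P) := by
        have e : b' - bS P = (b - bS P) - algebraMap A L s / algebraMap A L v := by
          have e' := congrArg (algebraMap A L) hrs
          simp only [map_add, map_mul] at e'
          simp only [b', hb, map_mul, ← e']
          field_simp [hL hv0, hL hd0]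
          ring
        rw [e]
        exact (hPQ ▸ hdiff P).sub (RegAt.div s (hvP P))
      have e : a - (b' ^ p - b') = (a - (bS P ^ p - bS P)) - ((b' - bS P) ^ p - (b' - bS P)) := by
        rw [sub_pow_char]; ring
      rw [e]
      exact (hPQ ▸ hb1 P).sub ((hbb.pow p).sub hbb)
    · exact (RegAt.div N₀ hdQ).sub (((RegAt.div r hdQ).pow p).sub (RegAt.div r hdQ))
  obtain ⟨c', hc'⟩ := exists_algebraMap_eq_of_forall_regAt hfin
  exact ⟨c', hc'.symm⟩

end Groth.Agent.WildQuotGal
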