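import Mathlib

/-!
# Maps of finite flat modules bijective in codimension one are bijective
-/

set_option autoImplicit false

namespace Groth.Agent.WildQuotGal

variable {A : Type*} [CommRing A] {M N : Type*} [AddCommGroup M] [Module A M] [AddCommGroup N]
  [Module A N] (φ : M →ₗ[A] N)

/-- a quasi-inverse of a map of free modules which is bijective at `p` -/
theorem exists_quasiInverse [Module.Free A M] [Module.Free A N] [Module.Finite A M] [Module.Finite A N]
    (p : Ideal A) [p.IsPrime]
    (hi : ∀ x, φ x = 0 → ∃ s ∉ p, s • x = 0) (hs : ∀ y, ∃ s ∉ p, ∃ x, φ x = s • y) :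
    ∃ s ∉ p, ∃ ψ : N →ₗ[A] M, φ ∘ₗ ψ = s • LinearMap.id ∧ ψ ∘ₗ φ = s • LinearMap.id := by
  classical
  let bN := Module.Free.chooseBasis A N
  let bM := Module.Free.chooseBasis A M
  choose t ht x hx using fun i => hs (bN i)
  let T := ∏ i, t i
  have hT : T ∉ p := fun h => by
    obtain ⟨i, _, hi⟩ := (Ideal.IsPrime.prod_mem_iff (p := p)).mp h
    exact ht i hi
  let ψ₀ : N →ₗ[A] M := bN.constr A fun i => (∏ j ∈ Finset.univ.erase i, t j) • x i
  have h₀ : φ ∘ₗ ψ₀ = T • LinearMap.id := bN.ext fun i => by
    simp only [LinearMap.comp_apply, ψ₀, Module.Basis.constr_basis, map_smul, hx, smul_smul,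
      LinearMap.smul_apply, LinearMap.id_apply, T, Finset.prod_erase_mul _ _ (Finset.mem_univ i)]
  have h₁ : ∀ m, φ (ψ₀ (φ m) - T • m) = 0 := fun m => by
    rw [map_sub, map_smul, ← LinearMap.comp_apply φ ψ₀ (φ m), h₀, LinearMap.smul_apply,
      LinearMap.id_apply, sub_self]
  choose u hu hu' using fun j => hi _ (h₁ (bM j))
  let U := ∏ j, u j
  have hU : U ∉ p := fun h => by
    obtain ⟨i, _, hi⟩ := (Ideal.IsPrime.prod_mem_iff (p := p)).mp h
    exact hu i hi
  refine ⟨U * T, fun h => (‹p.IsPrime›.mem_or_mem h).elim hU hT, U • ψ₀, ?_, bM.ext fun j => ?_⟩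
  · rw [LinearMap.comp_smul, h₀, smul_smul]
  · have : U • (ψ₀ (φ (bM j)) - T • bM j) = 0 := by
      simp only [U, ← Finset.prod_erase_mul _ _ (Finset.mem_univ j), mul_smul, hu' j, smul_zero]
    rwa [smul_sub, sub_eq_zero, smul_smul] at this

theorem finrank_eq_of_quasiInverse [Module.Free A M] [Module.Free A N] [Module.Finite A M]
    [Module.Finite A N] (q : Ideal A) [q.IsPrime] {s : A} (hs : s ∉ q) (ψ : N →ₗ[A] M)
    (h₁ : φ ∘ₗ ψ = s • LinearMap.id) (h₂ : ψ ∘ₗ φ = s • LinearMap.id) :
    Module.finrank A M = Module.finrank A N := by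
  haveI : Nontrivial A := nontrivial_of_ne s 0 fun h => hs (h ▸ q.zero_mem)
  let K := q.ResidueField
  have hs' : algebraMap A K s ≠ 0 := fun h => hs (Ideal.algebraMap_residueField_eq_zero.mp h)
  have e₁ := congrArg (LinearMap.baseChange K) h₁
  have e₂ := congrArg (LinearMap.baseChange K) h₂
  rw [LinearMap.baseChange_comp, LinearMap.baseChange_smul, LinearMap.baseChange_id] at e₁ e₂
  have hb : Function.Bijective (φ.baseChange K) := by
    constructor
    · intro x y hxy
      have := congrArg (ψ.baseChange K) hxy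
      rw [← LinearMap.comp_apply, ← LinearMap.comp_apply, e₂] at this
      rw [LinearMap.smul_apply, LinearMap.smul_apply, LinearMap.id_apply, LinearMap.id_apply, ← algebraMap_smul K s x, ← algebraMap_smul K s y] at this
      exact smul_right_injective _ hs' this
    · intro y
      refine ⟨(algebraMap A K s)⁻¹ • ψ.baseChange K y, ?_⟩
      rw [map_smul, ← LinearMap.comp_apply, e₁, LinearMap.smul_apply, LinearMap.id_apply,
        ← algebraMap_smul K s y, smul_smul, inv_mul_cancel₀ hs', one_smul]
  have := (LinearEquiv.ofBijective _ hb).finrank_eq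
  rwa [Module.finrank_baseChange, Module.finrank_baseChange] at this

/-- the local form -/
theorem bijective_of_height_le_one_of_free [IsNoetherianRing A] [Nontrivial A]
    [Module.Free A M] [Module.Free A N] [Module.Finite A M] [Module.Finite A N]
    (h : ∀ p : Ideal A, p.IsPrime → p.height ≤ 1 →
      (∀ x, φ x = 0 → ∃ s ∉ p, s • x = 0) ∧ (∀ y, ∃ s ∉ p, ∃ x, φ x = s • y)) :
    Function.Bijective φ := by
  classical
  obtain ⟨q, hq⟩ := Ideal.nonempty_minimalPrimes (I := (⊥ : Ideal A)) bot_ne_top
  haveI := hq.1.1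
  have hq0 : q.height = 0 := Ideal.height_eq_zero_iff.mpr (by simpa [minimalPrimes] using hq)
  obtain ⟨s, hs, ψ, h₁, h₂⟩ := exists_quasiInverse φ q (h q inferInstance (by simp [hq0])).1
    (h q inferInstance (by simp [hq0])).2
  have hr := finrank_eq_of_quasiInverse φ q hs ψ h₁ h₂
  let bM := Module.finBasis A M
  let bN := (Module.finBasis A N).reindex (finCongr hr.symm)
  let d := (LinearMap.toMatrix bM bN φ).det
  by_cases hd : IsUnit d
  · exact (LinearEquiv.ofIsUnitDet hd).bijective
  obtain ⟨p, hp⟩ := Ideal.nonempty_minimalPrimes (I := Ideal.span {d})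
    (fun e => hd (Ideal.span_singleton_eq_top.mp e))
  haveI := hp.1.1
  have hp1 : p.height ≤ 1 := Ideal.height_le_one_of_isPrincipal_of_mem_minimalPrimes _ p hp
  obtain ⟨t, ht, χ, k₁, -⟩ := exists_quasiInverse φ p (h p inferInstance hp1).1 (h p inferInstance hp1).2
  have := congrArg Matrix.det (congrArg (LinearMap.toMatrix bN bN) k₁)
  rw [LinearMap.toMatrix_comp bN bM bN, Matrix.det_mul, map_smul, LinearMap.toMatrix_id,
    Matrix.det_smul, Matrix.det_one, mul_one] at this
  refine absurd ?_ ht
  refine ‹p.IsPrime›.mem_of_pow_mem (Fintype.card (Fin (Module.finrank A M))) ?_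
  rw [← this]
  exact p.mul_mem_right _ (hp.1.2 (Ideal.mem_span_singleton_self d))

/-- A map of finite flat modules over a Noetherian ring which is bijective at every prime of height
at most one is bijective. -/
theorem bijective_of_height_le_one [IsNoetherianRing A] [Module.Finite A M] [Module.Finite A N]
    [Module.Flat A M] [Module.Flat A N]
    (key : ∀ p : Ideal A, p.IsPrime → p.height ≤ 1 →
      (∀ x, φ x = 0 → ∃ s ∉ p, s • x = 0) ∧ (∀ y, ∃ s ∉ p, ∃ x, φ x = s • y)) :
    Function.Bijective φ := by
  refine bijective_of_localized_maximal φ fun J _ => ?_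
  let A' := Localization.AtPrime J
  let S := J.primeCompl
  haveI : Module.Finite A' (LocalizedModule S M) := Module.Finite.of_isLocalizedModule S (LocalizedModule.mkLinearMap S M)
  haveI : Module.Finite A' (LocalizedModule S N) := Module.Finite.of_isLocalizedModule S (LocalizedModule.mkLinearMap S N)
  haveI : Module.Free A' (LocalizedModule S M) := Module.free_of_flat_of_isLocalRing
  haveI : Module.Free A' (LocalizedModule S N) := Module.free_of_flat_of_isLocalRing
  haveI : IsNoetherianRing A' := IsLocalization.isNoetherianRing S A' inferInstance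
  refine bijective_of_height_le_one_of_free (A := A') _ fun P hP hP1 => ?_
  haveI := hP
  let p := P.comap (algebraMap A A')
  have hp1 : p.height ≤ 1 := le_of_eq_of_le (IsLocalization.height_under S P) hP1
  obtain ⟨hi, hs⟩ := key p inferInstance hp1
  have hSp : ∀ u ∈ S, u ∉ p := fun u hu hup =>
    hP.ne_top (Ideal.eq_top_of_isUnit_mem _ hup (IsLocalization.map_units A' ⟨u, hu⟩))
  refine ⟨fun z hz => ?_, fun z => ?_⟩
  · induction z using LocalizedModule.induction_on with
    | h x t =>
      rw [LocalizedModule.map_mk, ← LocalizedModule.zero_mk (1 : S), LocalizedModule.mk_eq] at hz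
      obtain ⟨u, hu⟩ := hz
      obtain ⟨s, hs', hs''⟩ := hi (u.1 • x) (by rw [map_smul]; simpa [Submonoid.smul_def] using hu)
      refine ⟨algebraMap A A' (s * u.1), fun hm => (Ideal.IsPrime.mem_or_mem (inferInstance : p.IsPrime) hm).elim hs' (hSp _ u.2), ?_⟩
      rw [algebraMap_smul, LocalizedModule.smul'_mk, mul_smul, hs'', LocalizedModule.zero_mk]
  · induction z using LocalizedModule.induction_on with
    | h y t =>
      obtain ⟨s, hs', x, hx⟩ := hs y
      exact ⟨algebraMap A A' s, hs', LocalizedModule.mk x t,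
        by rw [LocalizedModule.map_mk, hx, algebraMap_smul, LocalizedModule.smul'_mk]⟩

end Groth.Agent.WildQuotGal
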