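import Groth.Agent.CAlgReg.AusBuch
import Mathlib.Algebra.CharP.Lemmas
import Mathlib.Algebra.CharP.Basic
import Mathlib.RingTheory.Ideal.AssociatedPrime.Basic
import Mathlib.RingTheory.Ideal.KrullsHeightTheorem

/-!
The twisted Frobenius has no fixed vectors in the second local cohomology of a two-dimensional regular ring.
-/

universe v

namespace Groth.Agent.WildQuotGal

open IsLocalRing RingTheory.Sequence

variable {B : Type v} [CommRing B] [IsDomain B]

theorem cancel_pow {x y : B} (hreg : ∀ z, x ∣ y * z → x ∣ z) (hx0 : x ≠ 0) :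
    ∀ (i j : ℕ) (z : B), x ^ i ∣ y ^ j * z → x ^ i ∣ z := by
  have hj : ∀ (j : ℕ) (z : B), x ∣ y ^ j * z → x ∣ z := by
    intro j
    induction j with
    | zero => simp
    | succ j ih => exact fun z h => ih z (hreg _ (by rwa [← mul_assoc, ← pow_succ']))
  intro i
  induction i with
  | zero => simp
  | succ i ih =>
    intro j z h
    obtain ⟨z', rfl⟩ := ih j z (dvd_trans (Dvd.intro _ (pow_succ x i).symm) h)
    rw [pow_succ]
    refine mul_dvd_mul_left _ (hj j z' ((mul_dvd_mul_iff_left (pow_ne_zero i hx0)).1 ?_))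
    rw [← pow_succ]
    rwa [mul_left_comm] at h

theorem span_pair_pow_mem_iff {a b z : B} {n m : ℕ} :
    z ∈ Ideal.span {a ^ n, b ^ m} ↔ ∃ s t, s * a ^ n + t * b ^ m = z :=
  Ideal.mem_span_pair

variable [IsNoetherianRing B] [IsLocalRing B] {x y : B} (hreg : ∀ z, x ∣ y * z → x ∣ z) (hx0 : x ≠ 0)
  (hy0 : y ≠ 0) (hxm : x ∈ maximalIdeal B) (hym : y ∈ maximalIdeal B)

include hreg hx0 hy0 in
theorem socle_mem {N : ℕ} (z : B) (hzx : x * z ∈ Ideal.span {x ^ (N + 1), y ^ (N + 1)})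
    (hzy : y * z ∈ Ideal.span {x ^ (N + 1), y ^ (N + 1)}) :
    ∃ c, z - c * (x * y) ^ N ∈ Ideal.span {x ^ (N + 1), y ^ (N + 1)} := by
  obtain ⟨s, t, hst⟩ := Ideal.mem_span_pair.1 hzx
  obtain ⟨t', rfl⟩ : x ∣ t := by
    have h := cancel_pow hreg hx0 1 (N + 1) t ⟨z - s * x ^ N, by linear_combination hst⟩
    rwa [pow_one] at h
  have hz : z = s * x ^ N + t' * y ^ (N + 1) := mul_left_cancel₀ hx0 (by linear_combination -hst)
  obtain ⟨s₂, t₂, hst₂⟩ := Ideal.mem_span_pair.1 hzy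
  have h2 : x ^ N * (y * s - s₂ * x) = y ^ (N + 1) * (t₂ - t' * y) := by
    rw [hz] at hst₂; linear_combination -hst₂
  obtain ⟨w, hw⟩ := cancel_pow hreg hx0 N (N + 1) (t₂ - t' * y) ⟨y * s - s₂ * x, h2.symm⟩
  have h3 : y * s - s₂ * x = y ^ (N + 1) * w := mul_left_cancel₀ (pow_ne_zero N hx0) (by rw [h2, hw]; ring)
  obtain ⟨e, he⟩ : x ∣ s - y ^ N * w := hreg _ ⟨s₂, by linear_combination h3⟩
  refine ⟨w, Ideal.mem_span_pair.2 ⟨e, t', ?_⟩⟩
  rw [hz]
  linear_combination -(x ^ N) * he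

include hreg hx0 hy0 hxm hym in
theorem monomial_notMem {i j n m : ℕ} (hi : i < n) (hj : j < m) :
    x ^ i * y ^ j ∉ Ideal.span {x ^ n, y ^ m} := by
  intro h
  obtain ⟨s, t, hst⟩ := Ideal.mem_span_pair.1 h
  obtain ⟨a, rfl⟩ := Nat.exists_eq_add_of_lt hi
  obtain ⟨b, rfl⟩ := Nat.exists_eq_add_of_lt hj
  obtain ⟨t', rfl⟩ := cancel_pow hreg hx0 i (j + b + 1) t
    ⟨y ^ j - s * x ^ (a + 1), by linear_combination hst⟩
  have h2 : y ^ j - s * x ^ (a + 1) = t' * y ^ (j + b + 1) :=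
    mul_left_cancel₀ (pow_ne_zero i hx0) (by linear_combination -hst)
  obtain ⟨e, he⟩ := cancel_pow hreg hx0 1 j (1 - t' * y ^ (b + 1)) ⟨s * x ^ a, by linear_combination h2⟩
  apply (maximalIdeal.isMaximal B).ne_top
  rw [Ideal.eq_top_iff_one, show (1 : B) = x * e + t' * y ^ (b + 1) by linear_combination he]
  exact Ideal.add_mem _ (Ideal.mul_mem_right _ _ hxm)
    (Ideal.mul_mem_left _ _ (Ideal.pow_mem_of_mem _ hym _ (by omega)))

theorem pow_mem_span_pow {p : ℕ} [Fact p.Prime] [CharP B p] {a b z : B} (h : z ∈ Ideal.span {a, b}) :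
    z ^ p ∈ Ideal.span {a ^ p, b ^ p} := by
  obtain ⟨s, t, rfl⟩ := Ideal.mem_span_pair.1 h
  rw [add_pow_char, mul_pow, mul_pow]
  exact Ideal.mem_span_pair.2 ⟨_, _, rfl⟩

include hreg hx0 hy0 hxm hym in
theorem frob_fixed_mem (hm : maximalIdeal B = Ideal.span {x, y}) (p : ℕ) [Fact p.Prime] [CharP B p] {v d : B}
    (hvm : v ∈ maximalIdeal B) (hdm : d ∈ maximalIdeal B)
    (hrad : maximalIdeal B ≤ (Ideal.span {v, d}).radical) (hd : ∀ z, v ∣ d * z → v ∣ z)
    (u : B) (hu : u ^ p - u * (v * d) ^ (p - 1) ∈ Ideal.span {v ^ p, d ^ p}) : u ∈ Ideal.span {v, d} := by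
  by_contra hu0
  have hp : 2 ≤ p := (Fact.out : p.Prime).two_le
  set I := Ideal.span {v, d} with hI
  -- a socle element among the multiples of `u`
  obtain ⟨M, hM⟩ := Ideal.exists_pow_le_of_le_radical_of_fg hrad (maximalIdeal B).fg_of_isNoetherianRing
  obtain ⟨r, hr, hrm⟩ : ∃ r, r * u ∉ I ∧ ∀ e ∈ maximalIdeal B, e * (r * u) ∈ I := by
    by_contra hne
    push Not at hne
    have : ∀ k, ∃ r, r ∈ maximalIdeal B ^ k ∧ r * u ∉ I := by
      intro k
      induction k with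
      | zero => exact ⟨1, by simp, by simpa using hu0⟩
      | succ k ih =>
        obtain ⟨r, hr, hru⟩ := ih
        obtain ⟨e, he, her⟩ := hne r hru
        exact ⟨e * r, by rw [pow_succ']; exact Ideal.mul_mem_mul he hr, by rwa [mul_assoc]⟩
    obtain ⟨r, hr, hru⟩ := this M
    exact hru (Ideal.mul_mem_right _ _ (hM hr))
  set z := r * u with hz
  -- `x * z ^ p` lies in the Frobenius power
  have h1 : ∀ w ∈ I, w * (v * d) ^ (p - 1) ∈ Ideal.span {v ^ p, d ^ p} := by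
    intro w hw
    obtain ⟨s, t, rfl⟩ := Ideal.mem_span_pair.1 hw
    refine Ideal.mem_span_pair.2 ⟨s * d ^ (p - 1), t * v ^ (p - 1), ?_⟩
    obtain ⟨q, hq⟩ : ∃ q, p = q + 1 := ⟨p - 1, by omega⟩
    subst hq
    simp only [Nat.add_sub_cancel]
    ring
  have hxz : x * z ^ p ∈ Ideal.span {v ^ p, d ^ p} := by
    obtain ⟨q, hq⟩ : ∃ q, p = q + 1 := ⟨p - 1, by omega⟩
    have e : x * z ^ p = x * r ^ p * (u ^ p - u * (v * d) ^ (p - 1)) + r ^ (p - 1) * (x * z * (v * d) ^ (p - 1)) := by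
      rw [hz, hq]; simp only [Nat.add_sub_cancel]; ring
    rw [e]
    exact Ideal.add_mem _ (Ideal.mul_mem_left _ _ hu) (Ideal.mul_mem_left _ _ (h1 _ (hrm x hxm)))
  -- pass to powers of the parameters
  have hxN : x ^ (M + 1) ∈ I := hM (Ideal.pow_le_pow_right (Nat.le_succ M) (Ideal.pow_mem_pow hxm _))
  have hyN : y ^ (M + 1) ∈ I := hM (Ideal.pow_le_pow_right (Nat.le_succ M) (Ideal.pow_mem_pow hym _))
  obtain ⟨a, b, hX⟩ := Ideal.mem_span_pair.1 hxN
  obtain ⟨c, e, hY⟩ := Ideal.mem_span_pair.1 hyN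
  set Δ := a * e - b * c with hΔ
  have hΔv : Δ * v = e * x ^ (M + 1) - b * y ^ (M + 1) := by rw [hΔ, ← hX, ← hY]; ring
  have hΔd : Δ * d = a * y ^ (M + 1) - c * x ^ (M + 1) := by rw [hΔ, ← hX, ← hY]; ring
  -- multiplication by `Δ` is injective modulo the two ideals
  have hΔinj : ∀ w, Δ * w ∈ Ideal.span {x ^ (M + 1), y ^ (M + 1)} → w ∈ I := by
    intro w hw
    obtain ⟨s, t, hst⟩ := Ideal.mem_span_pair.1 hw
    have e1 : x ^ (M + 1) * (w * e - v * s) = y ^ (M + 1) * (w * b + v * t) := by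
      linear_combination (-v) * hst - w * hΔv
    obtain ⟨k, hk⟩ := cancel_pow hreg hx0 (M + 1) (M + 1) (w * b + v * t) ⟨w * e - v * s, e1.symm⟩
    have e2 : w * e - v * s = y ^ (M + 1) * k :=
      mul_left_cancel₀ (pow_ne_zero (M + 1) hx0) (by rw [e1, hk]; ring)
    have hb : v ∣ b * (w - k * d) := ⟨k * a - t, by rw [← hX] at hk; linear_combination hk⟩
    have he : v ∣ e * (w - k * d) := ⟨k * c + s, by rw [← hY] at e2; linear_combination e2⟩
    have hdvd : ∀ g ∈ Ideal.span {x ^ (M + 1), y ^ (M + 1)}, v ∣ g * (w - k * d) := by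
      intro g hg
      obtain ⟨g₁, g₂, rfl⟩ := Ideal.mem_span_pair.1 hg
      rw [← hX, ← hY, show (g₁ * (a * v + b * d) + g₂ * (c * v + e * d)) * (w - k * d)
        = v * ((g₁ * a + g₂ * c) * (w - k * d)) + (g₁ * d * (b * (w - k * d)) + g₂ * d * (e * (w - k * d))) by ring]
      exact dvd_add (dvd_mul_right _ _) (dvd_add (hb.mul_left _) (he.mul_left _))
    have hradX : d ∈ (Ideal.span {x ^ (M + 1), y ^ (M + 1)}).radical := by
      rw [hm] at hdm
      refine (Ideal.span_le.2 ?_) hdm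
      rintro w (rfl | rfl)
      · exact ⟨M + 1, Ideal.subset_span (by simp)⟩
      · exact ⟨M + 1, Ideal.subset_span (by simp)⟩
    obtain ⟨L, hL⟩ := hradX
    have hdd : ∀ (L : ℕ) (z : B), v ∣ d ^ L * z → v ∣ z := by
      intro L
      induction L with
      | zero => simp
      | succ L ih => exact fun z h => ih z (hd _ (by rwa [← mul_assoc, ← pow_succ']))
    obtain ⟨g, hg⟩ := hdd L _ (hdvd _ hL)
    exact Ideal.mem_span_pair.2 ⟨g, k, by linear_combination -hg⟩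
  -- the socle of the quotient by powers of the parameters
  have hmemN : ∀ w ∈ I, Δ * w ∈ Ideal.span {x ^ (M + 1), y ^ (M + 1)} := by
    intro w hw
    obtain ⟨s, t, rfl⟩ := Ideal.mem_span_pair.1 hw
    exact Ideal.mem_span_pair.2 ⟨s * e - t * c, t * a - s * b, by linear_combination -s * hΔv - t * hΔd⟩
  obtain ⟨c₀, hc₀⟩ := socle_mem hreg hx0 hy0 (Δ * z)
    (by rw [mul_left_comm]; exact hmemN _ (hrm x hxm)) (by rw [mul_left_comm]; exact hmemN _ (hrm y hym))
  have hc : IsUnit c₀ := by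
    by_contra hc
    have hc' : c₀ * (x * y) ^ M ∈ Ideal.span {x ^ (M + 1), y ^ (M + 1)} := by
      have h := (mem_maximalIdeal c₀).2 hc
      rw [hm] at h
      obtain ⟨s, t, rfl⟩ := Ideal.mem_span_pair.1 h
      exact Ideal.mem_span_pair.2 ⟨s * y ^ M, t * x ^ M, by ring⟩
    refine hr (hΔinj _ ?_)
    have := Ideal.add_mem _ hc₀ hc'
    rwa [sub_add_cancel] at this
  have hbig : x * (Δ * z) ^ p ∈ Ideal.span {(x ^ (M + 1)) ^ p, (y ^ (M + 1)) ^ p} := by
    obtain ⟨s, t, hst⟩ := Ideal.mem_span_pair.1 hxz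
    refine Ideal.mem_span_pair.2 ⟨s * e ^ p - t * c ^ p, t * a ^ p - s * b ^ p, ?_⟩
    have k1 := congrArg (· ^ p) hΔv
    have k2 := congrArg (· ^ p) hΔd
    simp only [sub_pow_char, mul_pow] at k1 k2
    rw [mul_pow]
    linear_combination Δ ^ p * hst - s * k1 - t * k2
  have hmain : c₀ ^ p * (x * (x * y) ^ (M * p)) ∈ Ideal.span {(x ^ (M + 1)) ^ p, (y ^ (M + 1)) ^ p} := by
    have h2 := pow_mem_span_pow (p := p) hc₀
    rw [sub_pow_char, mul_pow] at h2
    have h3 := Ideal.sub_mem _ hbig (Ideal.mul_mem_left _ x h2)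
    convert h3 using 1
    ring
  rw [← pow_mul, ← pow_mul, (Ideal.unit_mul_mem_iff_mem _ (hc.pow p))] at hmain
  refine monomial_notMem hreg hx0 hy0 hxm hym (i := M * p + 1) (j := M * p) ?_ ?_ (by convert hmain using 1; ring)
  · rw [Nat.add_mul, one_mul]; omega
  · rw [Nat.add_mul, one_mul]; omega

end Groth.Agent.WildQuotGal
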