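import Groth.Agent.WildQuotGal.FreeReg
import Groth.Agent.CAlgSerre.NormalImp
import Mathlib.FieldTheory.Galois.IsGaloisGroup
import Mathlib.RingTheory.IsGaloisGroup.Basic
import Mathlib.LinearAlgebra.Matrix.ToLinearEquiv
import Mathlib.RingTheory.Ideal.KrullsHeightTheorem
import Mathlib.RingTheory.Invariant.Basic

/-!
A free Galois extension of local rings with trivial residue extension is ramified in codimension one.
-/

universe u v

namespace Groth.Agent.WildQuotGal

open IsLocalRing RingTheory.Sequence

theorem free_of_depth {R : Type u} [CommRing R] [IsRegularLocalRing R] {A : Type v} [CommRing A]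
    [IsLocalRing A] [IsNoetherianRing A] [Algebra R A] [Module.Finite R A]
    (hinj : Function.Injective (algebraMap R A)) {d : ℕ} (hd : ringKrullDim R = d) (hdep : LocCoh.depth A A = d) :
    Module.Free R A := by
  haveI : FaithfulSMul R A := (faithfulSMul_iff_algebraMap_injective R A).2 hinj
  obtain ⟨s, hcard, hs⟩ := Submodule.FG.exists_span_finset_card_eq_spanFinrank
    (maximalIdeal R).fg_of_isNoetherianRing
  have hl : Ideal.ofList s.toList = maximalIdeal R := by
    rw [← hs, Ideal.ofList]; simp
  have hlen : s.toList.length = d := by rw [Finset.length_toList, hcard, CAlgReg.spanFinrank_eq_of_dim hd]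
  refine free_of_isWeaklyRegular d R A s.toList hlen hl ?_
  rw [← isWeaklyRegular_map_algebraMap_iff A A s.toList]
  have hloc : IsLocalHom (algebraMap R A) := inferInstance
  have hmem : ∀ x ∈ s.toList.map (algebraMap R A), x ∈ maximalIdeal A := by
    intro x hx
    obtain ⟨y, hy, rfl⟩ := List.mem_map.1 hx
    exact map_nonunit _ y (hl ▸ Ideal.subset_span hy)
  refine (Depth.idealDepth_ofList_eq_length_iff _ hmem).1 ?_
  have hrad : (Ideal.ofList (s.toList.map (algebraMap R A))).radical = (maximalIdeal A).radical := by
    rw [← Ideal.map_ofList, hl, (maximalIdeal.isMaximal A).isPrime.radical]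
    refine le_antisymm ((Ideal.IsPrime.radical_le_iff inferInstance).2 (map_maximalIdeal_le _)) ?_
    rw [Ideal.radical_eq_sInf]
    refine le_sInf fun P ⟨hP, hPp⟩ => ?_
    haveI := hPp
    have hmax : (P.under R).IsMaximal := by
      have : maximalIdeal R ≤ P.under R := Ideal.map_le_iff_le_comap.1 hP
      rw [← (maximalIdeal.isMaximal R).eq_of_le Ideal.IsPrime.ne_top' this]
      infer_instance
    haveI : P.IsMaximal := Ideal.isMaximal_of_isIntegral_of_isMaximal_comap P hmax
    exact (IsLocalRing.eq_maximalIdeal this).ge
  rw [Depth.idealDepth_eq_of_radical_eq hrad A, List.length_map, hlen]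
  exact hdep

theorem subsingleton_group_of_free {B : Type*} [CommRing B] [IsLocalRing B] {A : Type*} [CommRing A] [IsDomain A]
    [IsNoetherianRing A] [IsLocalRing A] [Algebra B A] [Module.Finite B A] [Module.Free B A] [FaithfulSMul B A]
    (G : Type*) [Group G] [Finite G] [MulSemiringAction G A] [IsGaloisGroup G B A]
    (hres : ∀ (g : G) (x : A), g • x - x ∈ maximalIdeal A)
    (hram : ∀ P : Ideal A, P.IsPrime → P.height ≤ 1 → P.inertia G = ⊥) :
    Subsingleton G := by
  classical
  haveI : Fintype G := Fintype.ofFinite G
  haveI : IsDomain B := (FaithfulSMul.algebraMap_injective B A).isDomain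
  let bb := Module.Free.chooseBasis B A
  have hc : Fintype.card (Module.Free.ChooseBasisIndex B A) = Fintype.card G := by
    rw [← Module.finrank_eq_card_chooseBasisIndex, ← IsGaloisGroup.card_eq_finrank' G B A, Nat.card_eq_fintype_card]
  let e : G ≃ Module.Free.ChooseBasisIndex B A := Fintype.equivOfCardEq hc.symm
  let M : Matrix G G A := fun g i => g • bb (e i)
  haveI := IsGaloisGroup.commutes (G := G) (A := B) (B := A)
  -- the determinant avoids the primes with trivial inertia
  have key : ∀ P : Ideal A, P.IsPrime → P.inertia G = ⊥ → M.det ∉ P := by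
    intro P hP hPi hdet
    haveI := hP
    have h0 : (M.map (Ideal.Quotient.mk P)).det = 0 := by
      rw [← RingHom.mapMatrix_apply, ← RingHom.map_det, Ideal.Quotient.eq_zero_iff_mem]
      exact hdet
    obtain ⟨c, hc, hcM⟩ := Matrix.exists_vecMul_eq_zero_iff.2 h0
    let χ : G → (A →* A ⧸ P) := fun g =>
      ((Ideal.Quotient.mk P).comp (MulSemiringAction.toRingHom G A g)).toMonoidHom
    have hinj : Function.Injective χ := by
      intro g g' hgg
      have hmem : g * g'⁻¹ ∈ P.inertia G := fun y => by
        have := DFunLike.congr_fun hgg (g'⁻¹ • y)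
        change Ideal.Quotient.mk P (g • g'⁻¹ • y) = Ideal.Quotient.mk P (g' • g'⁻¹ • y) at this
        rw [smul_inv_smul, ← mul_smul, Ideal.Quotient.mk_eq_mk_iff_sub_mem] at this
        exact this
      rw [hPi, Subgroup.mem_bot, mul_inv_eq_one] at hmem
      exact hmem
    have hli := (linearIndependent_monoidHom A (A ⧸ P)).comp χ hinj
    refine hc (funext (Fintype.linearIndependent_iff.1 hli c (funext fun x => ?_)))
    simp only [Finset.sum_apply, Pi.zero_apply, Function.comp_apply, Pi.smul_apply, smul_eq_mul]
    show ∑ g : G, c g * Ideal.Quotient.mk P (g • x) = 0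
    conv_lhs =>
      enter [2, g]
      rw [← bb.sum_repr x, Finset.smul_sum, map_sum, Finset.mul_sum]
    rw [Finset.sum_comm]
    refine Finset.sum_eq_zero fun i _ => ?_
    have h := congrFun hcM (e.symm i)
    simp only [Matrix.vecMul, dotProduct, Matrix.map_apply, Pi.zero_apply, M, Equiv.apply_symm_apply] at h
    calc ∑ g : G, c g * Ideal.Quotient.mk P (g • (bb.repr x i • bb i))
        = Ideal.Quotient.mk P (algebraMap B A (bb.repr x i)) * ∑ g : G, c g * Ideal.Quotient.mk P (g • bb i) := by
          rw [Finset.mul_sum]
          refine Finset.sum_congr rfl fun g _ => ?_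
          rw [smul_comm g (bb.repr x i) (bb i), Algebra.smul_def, map_mul]
          ring
      _ = 0 := by rw [h, mul_zero]
  have hunit : IsUnit M.det := by
    by_contra hu
    have hd0 : M.det ≠ 0 := fun h => key ⊥ Ideal.isPrime_bot
      (hram ⊥ Ideal.isPrime_bot (by rw [Ideal.height_bot]; exact zero_le_one)) (by rw [h]; exact zero_mem _)
    obtain ⟨P, hP⟩ := Ideal.nonempty_minimalPrimes (I := Ideal.span {M.det})
      (by rwa [Ne, Ideal.span_singleton_eq_top])
    haveI := hP.1.1
    exact key P hP.1.1 (hram P hP.1.1 (Ideal.height_le_one_of_isPrincipal_of_mem_minimalPrimes _ P hP))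
      (hP.1.2 (Ideal.subset_span rfl))
  refine ⟨fun g g' => ?_⟩
  by_contra hne
  have h0 : (M.map (residue A)).det = 0 := by
    refine Matrix.det_zero_of_row_eq hne (funext fun i => ?_)
    show residue A (g • bb (e i)) = residue A (g' • bb (e i))
    rw [← sub_eq_zero, ← map_sub, residue_eq_zero_iff]
    have := (maximalIdeal A).sub_mem (hres g (bb (e i))) (hres g' (bb (e i)))
    rwa [sub_sub_sub_cancel_right] at this
  rw [← RingHom.mapMatrix_apply, ← RingHom.map_det] at h0
  exact (hunit.map (residue A)).ne_zero h0

end Groth.Agent.WildQuotGal
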